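import Mathlib

/-!
Centralizer of a standard subgroup containing the involution of its centre: the purely group theoretic part.
-/

set_option autoImplicit false

namespace Cfsg.Agent.StandardComponent.Intrinsic

/-- The properties of the simple quotient which are used. -/
structure Good (X : Type*) [Group X] : Prop where
  small : ∀ y b : X, y * y = b → b * b = 1 → b ≠ 1 → ∀ T : Subgroup X,
    (∀ x1 x2 : X, Commute x1 b → Commute x2 b → x1 ∉ T → x2 ∉ T → x1 * x2 ∈ T) →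
    (∀ x ∈ T, x * y * x⁻¹ = y ∨ x * y * x⁻¹ = b * y) → False
  four : ∀ a b : X, a * a = 1 → b * b = 1 → a ≠ 1 → b ≠ 1 → a * b ≠ 1 → Commute a b →
    (∀ x1 x2 : X, Commute x1 a → Commute x2 a → ¬ Commute x1 b → ¬ Commute x2 b →
      Commute (x1 * x2) b) →
    (∀ x1 x2 : X, Commute x1 (a * b) → Commute x2 (a * b) → ¬ Commute x1 b → ¬ Commute x2 b →
      Commute (x1 * x2) b) →
    ∃ g : X, g * g = 1 ∧ Commute g a ∧ g * b * g⁻¹ = a * b
  conj : ∀ x y : X, y * y = x → x * x = 1 → x ≠ 1 → ∀ T : Subgroup X,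
    (∀ x1 x2 : X, Commute x1 x → Commute x2 x → x1 ∉ T → x2 ∉ T → x1 * x2 ∈ T) → y ∈ T →
    ∃ z : X, z * x * z⁻¹ ∈ T ∧ Commute (z * x * z⁻¹) x ∧ ¬ Commute (z * x * z⁻¹) y

/-- The situation: `C` is the centralizer of `t`, the product of the commuting normal subgroups `L` and `K`
with `L ∩ K = {1, t}`, and `f` is the projection of `C` onto `C / K`. -/
structure Ctx (G X : Type*) [Group G] [Group X] (L K : Subgroup G) (t : G) where
  f : G → X
  f_mul : ∀ c d : G, Commute c t → Commute d t → f (c * d) = f c * f d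
  f_ker : ∀ c : G, Commute c t → (f c = 1 ↔ c ∈ K)
  f_surj : ∀ x : X, ∃ l ∈ L, f l = x
  LC : ∀ l ∈ L, Commute l t
  KC : ∀ k ∈ K, Commute k t
  comm : ∀ l ∈ L, ∀ k ∈ K, Commute l k
  LK : ∀ x ∈ L, x ∈ K → x = 1 ∨ x = t
  tL : t ∈ L
  tK : t ∈ K
  t1 : t ≠ 1
  t2 : t * t = 1
  dec : ∀ c : G, Commute c t → ∃ l ∈ L, ∃ k ∈ K, c = l * k
  Lnorm : ∀ c : G, Commute c t → ∀ l ∈ L, c * l * c⁻¹ ∈ L
  Knorm : ∀ c : G, Commute c t → ∀ k ∈ K, c * k * c⁻¹ ∈ K
  tight : ∀ h : G, ¬ Commute h t → ∀ N : Subgroup G, N ≤ K → (∀ n ∈ N, h⁻¹ * n * h ∈ K) → Odd (Nat.card N)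
  cent : ∀ v ∈ K, v * v = 1 → v ≠ 1 → ∀ c : G, Commute c v → Commute c t
  core : ∀ N : Subgroup G, N ≤ K → (∀ k ∈ K, ∀ n ∈ N, k * n * k⁻¹ ∈ N) → Odd (Nat.card N) → N = ⊥

variable {G X : Type*} [Group G] [Group X] {L K : Subgroup G} {t : G}

namespace Ctx

variable (c : Ctx G X L K t)

include c

theorem f_one : c.f 1 = 1 := by
  have := c.f_mul 1 1 (Commute.one_left t) (Commute.one_left t)
  rw [mul_one] at this
  exact (left_eq_mul.1 this)

theorem f_inv {x : G} (hx : Commute x t) : c.f x⁻¹ = (c.f x)⁻¹ := by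
  have := c.f_mul x⁻¹ x hx.inv_left hx
  rw [inv_mul_cancel, c.f_one] at this
  exact eq_inv_of_mul_eq_one_left this.symm

theorem f_conj {x y : G} (hx : Commute x t) (hy : Commute y t) :
    c.f (x * y * x⁻¹) = c.f x * c.f y * (c.f x)⁻¹ := by
  rw [c.f_mul _ _ (hx.mul_left hy) hx.inv_left, c.f_mul _ _ hx hy, c.f_inv hx]

theorem f_commute {x y : G} (hx : Commute x t) (hy : Commute y t) (h : Commute x y) :
    Commute (c.f x) (c.f y) := by
  rw [commute_iff_eq, ← c.f_mul _ _ hx hy, ← c.f_mul _ _ hy hx, h.eq]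

theorem f_eq {x y : G} (hx : Commute x t) (hy : Commute y t) (h : c.f x = c.f y) : x * y⁻¹ ∈ K := by
  rw [← c.f_ker _ (hx.mul_left hy.inv_left), c.f_mul _ _ hx hy.inv_left, c.f_inv hy, h, mul_inv_cancel]

theorem not_mem_conj {h : G} (hh : ¬ Commute h t) {v : G} (hv : v ∈ K) (hv2 : v * v = 1) (hv1 : v ≠ 1) :
    h * v * h⁻¹ ∉ K := by
  intro hmem
  have hodd := c.tight h hh (Subgroup.zpowers (h * v * h⁻¹)) (by
    rw [Subgroup.zpowers_le]; exact hmem) (by
    intro n hn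
    obtain ⟨k, rfl⟩ := Subgroup.mem_zpowers_iff.1 hn
    have : h⁻¹ * (h * v * h⁻¹) ^ k * h = v ^ k := by
      rw [conj_zpow]; group
    rw [this]
    exact K.zpow_mem hv k)
  rw [Nat.card_zpowers] at hodd
  have h2 : orderOf (h * v * h⁻¹) = 2 := by
    apply orderOf_eq_prime
    · rw [sq]
      calc h * v * h⁻¹ * (h * v * h⁻¹) = h * (v * v) * h⁻¹ := by group
        _ = 1 := by rw [hv2]; group
    · intro h'
      apply hv1
      have : v = h⁻¹ * (h * v * h⁻¹) * h := by group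
      rw [this, h']; group
  rw [h2] at hodd
  exact absurd hodd (by decide)

/-- If the images commute then the commutator is `1` or `t`. -/
theorem comm_or {l v : G} (hl : l ∈ L) (hv : Commute v t) (h : Commute (c.f l) (c.f v)) :
    l * v * l⁻¹ = v ∨ l * v * l⁻¹ = t * v := by
  have hlC := c.LC l hl
  have h1 : l * v * l⁻¹ * v⁻¹ ∈ L := by
    have := L.mul_mem hl (c.Lnorm v hv l⁻¹ (L.inv_mem hl))
    rw [show l * v * l⁻¹ * v⁻¹ = l * (v * l⁻¹ * v⁻¹) by group]
    exact this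
  have h2 : l * v * l⁻¹ * v⁻¹ ∈ K := by
    apply c.f_eq ((hlC.mul_left hv).mul_left hlC.inv_left) hv
    rw [c.f_conj hlC hv, h.eq, mul_inv_cancel_right]
  rcases c.LK _ h1 h2 with h3 | h3
  · left; exact mul_inv_eq_one.1 h3
  · right; exact mul_inv_eq_iff_eq_mul.1 h3

/-- For `x1, x2` commuting with the image of `v` whose lifts do not centralize `v`, the product lifts to an
element centralizing `v`. -/
theorem lift_mul {v : G} (hv : Commute v t) {l1 l2 : G} (hl1 : l1 ∈ L) (hl2 : l2 ∈ L)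
    (h1 : Commute (c.f l1) (c.f v)) (h2 : Commute (c.f l2) (c.f v)) (h1' : ¬ Commute l1 v)
    (h2' : ¬ Commute l2 v) : Commute (l1 * l2) v := by
  have e1 : l1 * v * l1⁻¹ = t * v := (c.comm_or hl1 hv h1).resolve_left
    (fun h => h1' (mul_inv_eq_iff_eq_mul.1 h))
  have e2 : l2 * v * l2⁻¹ = t * v := (c.comm_or hl2 hv h2).resolve_left
    (fun h => h2' (mul_inv_eq_iff_eq_mul.1 h))
  have e3 : l1 * l2 * v * (l1 * l2)⁻¹ = v := by
    calc l1 * l2 * v * (l1 * l2)⁻¹ = l1 * (l2 * v * l2⁻¹) * l1⁻¹ := by group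
      _ = l1 * (t * v) * l1⁻¹ := by rw [e2]
      _ = (l1 * t) * v * l1⁻¹ := by group
      _ = (t * l1) * v * l1⁻¹ := by rw [(c.LC l1 hl1).eq]
      _ = t * (l1 * v * l1⁻¹) := by group
      _ = t * t * v := by rw [e1]; group
      _ = v := by rw [c.t2, one_mul]
  exact mul_inv_eq_iff_eq_mul.1 e3

/-- No involution of `K` other than `t` commutes with a conjugate of `t` commuting with and different from `t`. -/
theorem no_involution (hX : Good X) {h : G} (hst : Commute (h * t * h⁻¹) t) (hne : h * t * h⁻¹ ≠ t)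
    {v : G} (hvK : v ∈ K) (hv2 : v * v = 1) (hv1 : v ≠ 1) (hvt : v ≠ t)
    (hvs : Commute v (h * t * h⁻¹)) : False := by
  have hht : ¬ Commute h t := by
    intro h'
    apply hne
    rw [h'.eq, mul_inv_cancel_right]
  have hht' : ¬ Commute h⁻¹ t := fun h' => hht (by simpa using h'.inv_left)
  -- conjugate back by `h`
  have conjc : ∀ {x y : G}, Commute x y → Commute (h⁻¹ * x * h) (h⁻¹ * y * h) := by
    intro x y hxy
    rw [commute_iff_eq]
    calc h⁻¹ * x * h * (h⁻¹ * y * h) = h⁻¹ * (x * y) * h := by group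
      _ = h⁻¹ * (y * x) * h := by rw [hxy.eq]
      _ = _ := by group
  have hback : h⁻¹ * (h * t * h⁻¹) * h = t := by group
  set v1 := h⁻¹ * v * h with hv1def
  set t1 := h⁻¹ * t * h with ht1def
  have hv1C : Commute v1 t := by
    have := conjc hvs
    rw [hback] at this
    exact this
  have ht1C : Commute t1 t := by
    have := conjc hst.symm
    rw [hback] at this
    exact this
  have hvt1 : Commute v1 t1 := conjc (c.KC v hvK)
  have hcent : ∀ x, Commute x v1 → Commute x t1 := by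
    intro x hx
    have h1 : Commute (h * x * h⁻¹) v := by
      rw [commute_iff_eq]
      calc h * x * h⁻¹ * v = h * (x * v1) * h⁻¹ := by rw [hv1def]; group
        _ = h * (v1 * x) * h⁻¹ := by rw [hx.eq]
        _ = v * (h * x * h⁻¹) := by rw [hv1def]; group
    have h2 := c.cent v hvK hv2 hv1 _ h1
    have h3 := conjc h2
    rw [show h⁻¹ * (h * x * h⁻¹) * h = x by group] at h3
    exact h3
  have hvtK : v * t ∈ K := K.mul_mem hvK c.tK
  have hvt2 : (v * t) * (v * t) = 1 := by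
    calc v * t * (v * t) = v * (t * v) * t := by group
      _ = v * (v * t) * t := by rw [(c.KC v hvK).eq]
      _ = (v * v) * (t * t) := by group
      _ = 1 := by rw [hv2, c.t2, mul_one]
  have hvt0 : v * t ≠ 1 := by
    intro h'
    apply hvt
    have := eq_inv_of_mul_eq_one_left h'
    rw [this]
    exact inv_eq_of_mul_eq_one_right c.t2
  have hvt1eq : v1 * t1 = h⁻¹ * (v * t) * h := by rw [hv1def, ht1def]; group
  have hcent' : ∀ x, Commute x (v1 * t1) → Commute x t1 := by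
    intro x hx
    have h1 : Commute (h * x * h⁻¹) (v * t) := by
      rw [commute_iff_eq]
      calc h * x * h⁻¹ * (v * t) = h * (x * (v1 * t1)) * h⁻¹ := by rw [hvt1eq]; group
        _ = h * ((v1 * t1) * x) * h⁻¹ := by rw [hx.eq]
        _ = v * t * (h * x * h⁻¹) := by rw [hvt1eq]; group
    have h2 := c.cent _ hvtK hvt2 hvt0 _ h1
    have h3 := conjc h2
    rw [show h⁻¹ * (h * x * h⁻¹) * h = x by group] at h3
    exact h3
  -- images
  have ha1 : c.f v1 ≠ 1 := by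
    rw [Ne, c.f_ker _ hv1C]
    have := c.not_mem_conj hht' hvK hv2 hv1
    simpa using this
  have hb1 : c.f t1 ≠ 1 := by
    rw [Ne, c.f_ker _ ht1C]
    have := c.not_mem_conj hht' c.tK c.t2 c.t1
    simpa using this
  have hab1 : c.f v1 * c.f t1 ≠ 1 := by
    rw [← c.f_mul _ _ hv1C ht1C, Ne, c.f_ker _ (hv1C.mul_left ht1C), hvt1eq]
    have := c.not_mem_conj hht' hvtK hvt2 hvt0
    simpa using this
  have hsq : ∀ {x : G}, x * x = 1 → (h⁻¹ * x * h) * (h⁻¹ * x * h) = 1 := by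
    intro x hx
    calc (h⁻¹ * x * h) * (h⁻¹ * x * h) = h⁻¹ * (x * x) * h := by group
      _ = 1 := by rw [hx]; group
  have ha2 : c.f v1 * c.f v1 = 1 := by
    rw [← c.f_mul _ _ hv1C hv1C, hv1def, hsq hv2, c.f_one]
  have hb2 : c.f t1 * c.f t1 = 1 := by
    rw [← c.f_mul _ _ ht1C ht1C, ht1def, hsq c.t2, c.f_one]
  have hab : Commute (c.f v1) (c.f t1) := c.f_commute hv1C ht1C hvt1
  have hidx : ∀ u : G, Commute u t → (∀ x, Commute x u → Commute x t1) →
      ∀ x1 x2 : X, Commute x1 (c.f u) → Commute x2 (c.f u) → ¬ Commute x1 (c.f t1) →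
        ¬ Commute x2 (c.f t1) → Commute (x1 * x2) (c.f t1) := by
    intro u hu hcu x1 x2 h1 h2 h1' h2'
    obtain ⟨l1, hl1, rfl⟩ := c.f_surj x1
    obtain ⟨l2, hl2, rfl⟩ := c.f_surj x2
    have g1 : ¬ Commute l1 u := fun h => h1' (c.f_commute (c.LC l1 hl1) ht1C (hcu _ h))
    have g2 : ¬ Commute l2 u := fun h => h2' (c.f_commute (c.LC l2 hl2) ht1C (hcu _ h))
    have g3 := c.lift_mul hu hl1 hl2 h1 h2 g1 g2
    rw [← c.f_mul _ _ (c.LC l1 hl1) (c.LC l2 hl2)]
    exact c.f_commute ((c.LC l1 hl1).mul_left (c.LC l2 hl2)) ht1C (hcu _ g3)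
  obtain ⟨g, hg2, hga, hgb⟩ := hX.four (c.f v1) (c.f t1) ha2 hb2 ha1 hb1 hab1 hab
    (hidx v1 hv1C hcent) (by
      have := hidx (v1 * t1) (hv1C.mul_left ht1C) hcent'
      rw [c.f_mul _ _ hv1C ht1C] at this
      exact this)
  -- lifts to `L`
  obtain ⟨ĝ, hĝL, hĝ⟩ := c.f_surj g
  obtain ⟨A, hA, k1, hk1, hAk⟩ := c.dec v1 hv1C
  obtain ⟨B, hB, k2, hk2, hBk⟩ := c.dec t1 ht1C
  have hfA : c.f A = c.f v1 := by
    rw [hAk, c.f_mul _ _ (c.LC A hA) (c.KC k1 hk1), (c.f_ker k1 (c.KC k1 hk1)).2 hk1, mul_one]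
  have hfB : c.f B = c.f t1 := by
    rw [hBk, c.f_mul _ _ (c.LC B hB) (c.KC k2 hk2), (c.f_ker k2 (c.KC k2 hk2)).2 hk2, mul_one]
  have hCAB : ∀ l ∈ L, Commute l A → Commute l B := by
    intro l hl hlA
    have h1 : Commute l v1 := by
      rw [hAk]; exact hlA.mul_right (c.comm l hl k1 hk1)
    have h2 := hcent l h1
    have h3 : B = t1 * k2⁻¹ := by rw [hBk, mul_inv_cancel_right]
    rw [h3]
    exact h2.mul_right (c.comm l hl k2 hk2).inv_right
  have hABc : Commute A B := hCAB A hA (Commute.refl A)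
  have hcent_t : ∀ x ∈ L, Commute x t := c.LC
  have hone : ∀ x ∈ L, c.f x = 1 → x = 1 ∨ x = t := by
    intro x hx hfx
    exact c.LK x hx ((c.f_ker x (c.LC x hx)).1 hfx)
  -- `ĝ` inverts the sign of `A`
  have hAt : ĝ * A * ĝ⁻¹ = t * A := by
    rcases c.comm_or hĝL (c.LC A hA) (by rw [hĝ, hfA]; exact hga) with h1 | h1
    · exfalso
      have h2 : Commute ĝ B := hCAB ĝ hĝL (mul_inv_eq_iff_eq_mul.1 h1)
      have h3 := c.f_commute (c.LC ĝ hĝL) (c.LC B hB) h2
      rw [hĝ, hfB] at h3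
      apply ha1
      have h4 : c.f t1 = c.f v1 * c.f t1 := by
        rw [← hgb, h3.eq, mul_inv_cancel_right]
      exact (right_eq_mul.1 h4)
    · exact h1
  obtain ⟨ε, hεB, hε2, hεc⟩ : ∃ ε, ĝ * B * ĝ⁻¹ = ε * (A * B) ∧ ε * ε = 1 ∧ ∀ x ∈ L, Commute x ε := by
    have h1 : ĝ * B * ĝ⁻¹ * (A * B)⁻¹ ∈ L :=
      L.mul_mem (L.mul_mem (L.mul_mem hĝL hB) (L.inv_mem hĝL)) (L.inv_mem (L.mul_mem hA hB))
    have h2 : c.f (ĝ * B * ĝ⁻¹) = c.f (A * B) := by
      rw [c.f_conj (c.LC ĝ hĝL) (c.LC B hB), hĝ, hfB, hgb, c.f_mul _ _ (c.LC A hA) (c.LC B hB), hfA, hfB]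
    have h3 := c.f_eq (((c.LC ĝ hĝL).mul_left (c.LC B hB)).mul_left (c.LC ĝ hĝL).inv_left)
      ((c.LC A hA).mul_left (c.LC B hB)) h2
    rcases c.LK _ h1 h3 with h4 | h4
    · exact ⟨1, by rw [one_mul]; exact mul_inv_eq_one.1 h4, mul_one 1, fun x _ => Commute.one_right x⟩
    · exact ⟨t, mul_inv_eq_iff_eq_mul.1 h4, c.t2, fun x hx => c.LC x hx⟩
  have hBB : ĝ * (B * B) * ĝ⁻¹ = B * B := by
    have h1 : B * B = 1 ∨ B * B = t := hone _ (L.mul_mem hB hB) (by
      rw [c.f_mul _ _ (c.LC B hB) (c.LC B hB), hfB, hb2])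
    rcases h1 with h1 | h1 <;> rw [h1]
    · group
    · rw [(c.LC ĝ hĝL).eq, mul_inv_cancel_right]
  have hAA : A * A = 1 := by
    have h1 : ĝ * (B * B) * ĝ⁻¹ = (ε * (A * B)) * (ε * (A * B)) := by
      rw [← hεB]; group
    have hAε := hεc A hA
    have hBε := hεc B hB
    have h2 : (ε * (A * B)) * (ε * (A * B)) = (A * A) * (B * B) := by
      calc (ε * (A * B)) * (ε * (A * B)) = ε * ((A * B) * ε) * (A * B) := by group
        _ = ε * (ε * (A * B)) * (A * B) := by rw [(hAε.mul_left hBε).eq]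
        _ = (ε * ε) * (A * (B * A) * B) := by group
        _ = (A * A) * (B * B) := by rw [hε2, ← hABc.eq]; group
    rw [hBB, h2] at h1
    exact (right_eq_mul.1 h1)
  have hĝĝ : ĝ * (ĝ * B * ĝ⁻¹) * ĝ⁻¹ = B := by
    have h1 : ĝ * ĝ = 1 ∨ ĝ * ĝ = t := hone _ (L.mul_mem hĝL hĝL) (by
      rw [c.f_mul _ _ (c.LC ĝ hĝL) (c.LC ĝ hĝL), hĝ, hg2])
    have h2 : ĝ * (ĝ * B * ĝ⁻¹) * ĝ⁻¹ = (ĝ * ĝ) * B * (ĝ * ĝ)⁻¹ := by group
    rw [h2]
    rcases h1 with h1 | h1 <;> rw [h1]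
    · group
    · rw [← (c.LC B hB).eq, mul_inv_cancel_right]
  have hfin : t * (A * A) = 1 := by
    rw [hεB] at hĝĝ
    have h1 : ĝ * (ε * (A * B)) * ĝ⁻¹ = ε * (ĝ * A * ĝ⁻¹) * (ĝ * B * ĝ⁻¹) := by
      calc ĝ * (ε * (A * B)) * ĝ⁻¹ = (ĝ * ε) * (A * B) * ĝ⁻¹ := by group
        _ = (ε * ĝ) * (A * B) * ĝ⁻¹ := by rw [(hεc ĝ hĝL).eq]
        _ = _ := by group
    rw [h1, hAt, hεB] at hĝĝ
    have h2 : ε * (t * A) * (ε * (A * B)) = t * (A * A) * B := by
      calc ε * (t * A) * (ε * (A * B)) = ε * ((t * A) * ε) * (A * B) := by group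
        _ = ε * (ε * (t * A)) * (A * B) := by rw [(hεc (t * A) (L.mul_mem c.tL hA)).eq]
        _ = (ε * ε) * (t * (A * A) * B) := by group
        _ = _ := by rw [hε2, one_mul]
    rw [h2] at hĝĝ
    exact mul_eq_right.1 hĝĝ
  rw [hAA, mul_one] at hfin
  exact c.t1 hfin

/-- The image of `C(t) ∩ C(s)`. -/
def img (s : G) : Subgroup X where
  carrier := {x | ∃ d : G, Commute d t ∧ Commute d s ∧ c.f d = x}
  one_mem' := ⟨1, Commute.one_left t, Commute.one_left s, c.f_one⟩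
  mul_mem' := by
    rintro _ _ ⟨d, hd1, hd2, rfl⟩ ⟨e, he1, he2, rfl⟩
    exact ⟨d * e, hd1.mul_left he1, hd2.mul_left he2, c.f_mul _ _ hd1 he1⟩
  inv_mem' := by
    rintro _ ⟨d, hd1, hd2, rfl⟩
    exact ⟨d⁻¹, hd1.inv_left, hd2.inv_left, c.f_inv hd1⟩

theorem mem_img {s : G} {x : X} :
    x ∈ c.img s ↔ ∃ d : G, Commute d t ∧ Commute d s ∧ c.f d = x := Iff.rfl

theorem img_index {s : G} (hs : Commute s t) (x1 x2 : X) (h1 : Commute x1 (c.f s))
    (h2 : Commute x2 (c.f s)) (h1' : x1 ∉ c.img s) (h2' : x2 ∉ c.img s) : x1 * x2 ∈ c.img s := by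
  obtain ⟨l1, hl1, rfl⟩ := c.f_surj x1
  obtain ⟨l2, hl2, rfl⟩ := c.f_surj x2
  have g1 : ¬ Commute l1 s := fun h => h1' ⟨l1, c.LC l1 hl1, h, rfl⟩
  have g2 : ¬ Commute l2 s := fun h => h2' ⟨l2, c.LC l2 hl2, h, rfl⟩
  exact ⟨l1 * l2, (c.LC l1 hl1).mul_left (c.LC l2 hl2), c.lift_mul hs hl1 hl2 h1 h2 g1 g2,
    c.f_mul _ _ (c.LC l1 hl1) (c.LC l2 hl2)⟩

/-- Conjugates of `t` commuting with `t` lie in `L`. -/
theorem conj_mem (hX : Good X) {h : G} (hst : Commute (h * t * h⁻¹) t) (hne : h * t * h⁻¹ ≠ t) :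
    h * t * h⁻¹ ∈ L := by
  have hht : ¬ Commute h t := by
    intro h'
    apply hne
    rw [h'.eq, mul_inv_cancel_right]
  have hht' : ¬ Commute h⁻¹ t := fun h' => hht (by simpa using h'.inv_left)
  set s := h * t * h⁻¹ with hs
  obtain ⟨l, hl, k, hk, hlk⟩ := c.dec s hst
  have hss : s * s = 1 := by
    calc s * s = h * (t * t) * h⁻¹ := by rw [hs]; group
      _ = 1 := by rw [c.t2]; group
  have hlkc := c.comm l hl k hk
  have hkk : k * k = (l * l)⁻¹ := by
    apply eq_inv_of_mul_eq_one_right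
    calc l * l * (k * k) = l * (l * k) * k := by group
      _ = l * (k * l) * k := by rw [hlkc.eq]
      _ = (l * k) * (l * k) := by group
      _ = 1 := by rw [← hlk, hss]
  have hks : Commute k s := by
    rw [hlk]
    exact hlkc.symm.mul_right (Commute.refl k)
  rcases c.LK (k * k) (by rw [hkk]; exact L.inv_mem (L.mul_mem hl hl)) (K.mul_mem hk hk) with h1 | h1
  · by_cases hk1 : k = 1
    · rw [hlk, hk1, mul_one]; exact hl
    by_cases hkt : k = t
    · rw [hlk, hkt]; exact L.mul_mem hl c.tL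
    · exact (c.no_involution hX hst hne hk h1 hk1 hkt hks).elim
  · exfalso
    -- `k` has order four
    have hD : ∀ d : G, Commute d t → Commute d s → d * k * d⁻¹ = k ∨ d * k * d⁻¹ = t * k := by
      intro d hd1 hd2
      have e1 : d * k * d⁻¹ ∈ K := c.Knorm d hd1 k hk
      have e2 : Commute (d * k * d⁻¹) s := (hd2.mul_left hks).mul_left hd2.inv_left
      have e3 : Commute (d * k * d⁻¹) k := by
        have : k = l⁻¹ * s := by rw [hlk]; group
        rw [this] at e2 e1 ⊢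
        refine Commute.mul_right ?_ e2
        exact (c.comm l hl _ e1).symm.inv_right
      set u := d * k * d⁻¹ * k⁻¹ with hu
      have hu2 : u * u = 1 := by
        calc u * u = d * k * d⁻¹ * (k⁻¹ * (d * k * d⁻¹)) * k⁻¹ := by rw [hu]; group
          _ = d * k * d⁻¹ * ((d * k * d⁻¹) * k⁻¹) * k⁻¹ := by rw [(e3.inv_right).eq]
          _ = d * (k * k) * d⁻¹ * (k * k)⁻¹ := by group
          _ = 1 := by rw [h1, hd1.eq]; group
      have huK : u ∈ K := K.mul_mem e1 (K.inv_mem hk)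
      have hus : Commute u s := e2.mul_left hks.inv_left
      by_cases hu1 : u = 1
      · left; exact mul_inv_eq_one.1 hu1
      by_cases hut : u = t
      · right; exact mul_inv_eq_iff_eq_mul.1 hut
      · exact (c.no_involution hX hst hne huK hu2 hu1 hut hus).elim
    have conjc : ∀ {x y : G}, Commute x y → Commute (h⁻¹ * x * h) (h⁻¹ * y * h) := by
      intro x y hxy
      rw [commute_iff_eq]
      calc h⁻¹ * x * h * (h⁻¹ * y * h) = h⁻¹ * (x * y) * h := by group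
        _ = h⁻¹ * (y * x) * h := by rw [hxy.eq]
        _ = _ := by group
    have conjc' : ∀ {x y : G}, Commute x y → Commute (h * x * h⁻¹) (h * y * h⁻¹) := by
      intro x y hxy
      rw [commute_iff_eq]
      calc h * x * h⁻¹ * (h * y * h⁻¹) = h * (x * y) * h⁻¹ := by group
        _ = h * (y * x) * h⁻¹ := by rw [hxy.eq]
        _ = _ := by group
    have hback : h⁻¹ * s * h = t := by rw [hs]; group
    have hk1C : Commute (h⁻¹ * k * h) t := by
      have := conjc hks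
      rw [hback] at this
      exact this
    have ht1C : Commute (h⁻¹ * t * h) t := by
      have := conjc hst.symm
      rw [hback] at this
      exact this
    have hb1 : c.f (h⁻¹ * t * h) ≠ 1 := by
      rw [Ne, c.f_ker _ ht1C]
      have := c.not_mem_conj hht' c.tK c.t2 c.t1
      simpa using this
    refine hX.small (c.f (h⁻¹ * k * h)) (c.f (h⁻¹ * t * h)) ?_ ?_ hb1 (c.img (h⁻¹ * t * h))
      (c.img_index ht1C) ?_
    · rw [← c.f_mul _ _ hk1C hk1C]
      congr 1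
      calc h⁻¹ * k * h * (h⁻¹ * k * h) = h⁻¹ * (k * k) * h := by group
        _ = _ := by rw [h1]
    · rw [← c.f_mul _ _ ht1C ht1C]
      have : h⁻¹ * t * h * (h⁻¹ * t * h) = 1 := by
        calc h⁻¹ * t * h * (h⁻¹ * t * h) = h⁻¹ * (t * t) * h := by group
          _ = 1 := by rw [c.t2]; group
      rw [this, c.f_one]
    · rintro _ ⟨d, hd1, hd2, rfl⟩
      have g1 : Commute (h * d * h⁻¹) s := conjc' hd1
      have g2 : Commute (h * d * h⁻¹) t := by
        have := conjc' hd2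
        rw [show h * (h⁻¹ * t * h) * h⁻¹ = t by group] at this
        exact this
      rw [← c.f_conj hd1 hk1C]
      rcases hD _ g2 g1 with h2 | h2
      · left
        congr 1
        calc d * (h⁻¹ * k * h) * d⁻¹ = h⁻¹ * (h * d * h⁻¹ * k * (h * d * h⁻¹)⁻¹) * h := by group
          _ = _ := by rw [h2]
      · right
        rw [← c.f_mul _ _ ht1C hk1C]
        congr 1
        calc d * (h⁻¹ * k * h) * d⁻¹ = h⁻¹ * (h * d * h⁻¹ * k * (h * d * h⁻¹)⁻¹) * h := by group
          _ = h⁻¹ * (t * k) * h := by rw [h2]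
          _ = _ := by group

/-- `K` has no element with square `t`. -/
theorem no_root (hX : Good X) {h : G} (hst : Commute (h * t * h⁻¹) t) (hne : h * t * h⁻¹ ≠ t)
    {y : G} (hy : y ∈ K) (hyy : y * y = t) : False := by
  have hht : ¬ Commute h t := by
    intro h'
    apply hne
    rw [h'.eq, mul_inv_cancel_right]
  have hht' : ¬ Commute h⁻¹ t := fun h' => hht (by simpa using h'.inv_left)
  have conjc' : ∀ (g : G) {x y : G}, Commute x y → Commute (g * x * g⁻¹) (g * y * g⁻¹) := by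
    intro g x y hxy
    rw [commute_iff_eq]
    calc g * x * g⁻¹ * (g * y * g⁻¹) = g * (x * y) * g⁻¹ := by group
      _ = g * (y * x) * g⁻¹ := by rw [hxy.eq]
      _ = _ := by group
  set s := h * t * h⁻¹ with hs
  have hsL : s ∈ L := c.conj_mem hX hst hne
  -- `t` conjugated back
  have hback : h⁻¹ * s * h = t := by rw [hs]; group
  have ht1C : Commute (h⁻¹ * t * h⁻¹⁻¹) t := by
    have := conjc' h⁻¹ hst.symm
    rw [show h⁻¹ * s * h⁻¹⁻¹ = t by rw [hs]; group] at this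
    exact this
  have ht1ne : h⁻¹ * t * h⁻¹⁻¹ ≠ t := by
    intro h'
    apply hht'
    exact mul_inv_eq_iff_eq_mul.1 h'
  have ht1L : h⁻¹ * t * h⁻¹⁻¹ ∈ L := c.conj_mem hX ht1C ht1ne
  set y' := h * y * h⁻¹ with hy'
  have hy'C : Commute y' t := by
    have := conjc' h (c.comm _ ht1L y hy).symm
    rw [show h * (h⁻¹ * t * h⁻¹⁻¹) * h⁻¹ = t by group] at this
    exact this
  have hy's : y' * y' = s := by
    calc y' * y' = h * (y * y) * h⁻¹ := by rw [hy']; group
      _ = s := by rw [hyy]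
  have hsC : Commute s t := hst
  have hx1 : c.f s ≠ 1 := by
    rw [Ne, c.f_ker _ hsC]
    exact c.not_mem_conj hht c.tK c.t2 c.t1
  have hss : s * s = 1 := by
    calc s * s = h * (t * t) * h⁻¹ := by rw [hs]; group
      _ = 1 := by rw [c.t2]; group
  have hy'sc : Commute y' s := by
    rw [← hy's]
    exact (Commute.refl y').mul_right (Commute.refl y')
  obtain ⟨z, hz1, hz2, hz3⟩ := hX.conj (c.f s) (c.f y') (by rw [← c.f_mul _ _ hy'C hy'C, hy's])
    (by rw [← c.f_mul _ _ hsC hsC, hss, c.f_one]) hx1 (c.img s) (c.img_index hsC)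
    ⟨y', hy'C, hy'sc, rfl⟩
  obtain ⟨l0, hl0, rfl⟩ := c.f_surj z
  have hl0C := c.LC l0 hl0
  apply hz3
  rw [← c.f_conj hl0C hsC]
  have huC : Commute (l0 * s * l0⁻¹) t := (hl0C.mul_left hsC).mul_left hl0C.inv_left
  refine c.f_commute huC hy'C ?_
  -- `u = l0 s l0⁻¹` commutes with `s`
  have hus : Commute (l0 * s * l0⁻¹) s := by
    obtain ⟨d, hd1, hd2, hd3⟩ := hz1
    rw [← c.f_conj hl0C hsC] at hd3
    have h1 := c.f_eq huC hd1 hd3.symm
    have h2 : l0 * s * l0⁻¹ = (l0 * s * l0⁻¹ * d⁻¹) * d := by group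
    rw [h2]
    exact (c.comm s hsL _ h1).symm.mul_left hd2
  by_cases hus1 : l0 * s * l0⁻¹ = s
  · rw [hus1]; exact hy'sc.symm
  -- conjugate back
  have hc1 : Commute ((h⁻¹ * l0 * h) * t * (h⁻¹ * l0 * h)⁻¹) t := by
    have := conjc' h⁻¹ hus
    rw [show h⁻¹ * s * h⁻¹⁻¹ = t by rw [hs]; group] at this
    rw [show (h⁻¹ * l0 * h) * t * (h⁻¹ * l0 * h)⁻¹ = h⁻¹ * (l0 * s * l0⁻¹) * h⁻¹⁻¹ by rw [hs]; group]
    exact this
  have hc2 : (h⁻¹ * l0 * h) * t * (h⁻¹ * l0 * h)⁻¹ ≠ t := by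
    intro h'
    apply hus1
    calc l0 * s * l0⁻¹ = h * ((h⁻¹ * l0 * h) * t * (h⁻¹ * l0 * h)⁻¹) * h⁻¹ := by rw [hs]; group
      _ = s := by rw [h']
  have hc3 := c.conj_mem hX hc1 hc2
  have hc4 := conjc' h (c.comm _ hc3 y hy)
  rw [show h * ((h⁻¹ * l0 * h) * t * (h⁻¹ * l0 * h)⁻¹) * h⁻¹ = l0 * s * l0⁻¹ by rw [hs]; group] at hc4
  exact hc4

/-- The main result: `K = {1, t}`. -/
theorem K_eq [Finite G] (hX : Good X) (hfus : ∃ h : G, Commute (h * t * h⁻¹) t ∧ h * t * h⁻¹ ≠ t)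
    (k : G) (hk : k ∈ K) : k = 1 ∨ k = t := by
  obtain ⟨h, hst, hne⟩ := hfus
  have hinv : ∀ v ∈ K, v * v = 1 → v = 1 ∨ v = t := by
    intro v hv hv2
    by_contra hcon
    push Not at hcon
    exact c.no_involution hX hst hne hv hv2 hcon.1 hcon.2 (c.comm _ (c.conj_mem hX hst hne) v hv).symm
  have hroot : ∀ y ∈ K, y * y ≠ t := fun y hy hyy => c.no_root hX hst hne hy hyy
  -- the order of `K` is not divisible by four
  have h4 : ¬ 4 ∣ Nat.card K := by
    intro h4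
    obtain ⟨Q, hQ⟩ := Sylow.exists_subgroup_card_pow_prime (G := K) 2 (n := 2) (by simpa using h4)
    have hmem : ∀ q ∈ Q, (q : G) = 1 ∨ (q : G) = t := by
      intro q hq
      have hq4 : q ^ 4 = 1 := by
        have := pow_card_eq_one' (G := Q) (x := ⟨q, hq⟩)
        rw [hQ] at this
        simpa using congrArg Subtype.val this
      have hq4' : ((q : G) * (q : G)) * ((q : G) * (q : G)) = 1 := by
        have := congrArg (fun x : K => (x : G)) hq4
        simp only [Subgroup.coe_pow, Subgroup.coe_one] at this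
        rw [← this]
        simp [pow_succ, mul_assoc]
      rcases hinv _ (K.mul_mem q.2 q.2) hq4' with h5 | h5
      · exact hinv _ q.2 h5
      · exact absurd h5 (hroot _ q.2)
    have hle : Nat.card Q ≤ 2 := by
      classical
      have hinj : Function.Injective (fun q : Q => decide (((q : K) : G) = 1)) := by
        intro a b hab
        apply Subtype.ext
        apply Subtype.ext
        have hab' := (decide_eq_decide.1 hab)
        rcases hmem a a.2 with ha | ha <;> rcases hmem b b.2 with hb | hb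
        · rw [ha, hb]
        · exact absurd (hab'.1 ha) (by rw [hb]; exact c.t1)
        · exact absurd (hab'.2 hb) (by rw [ha]; exact c.t1)
        · rw [ha, hb]
      have := Nat.card_le_card_of_injective _ hinj
      simpa using this
    rw [hQ] at hle
    norm_num at hle
  -- a normal complement
  set N : Subgroup K := Subgroup.zpowers ⟨t, c.tK⟩ with hN
  have hNt : orderOf (⟨t, c.tK⟩ : K) = 2 := by
    apply orderOf_eq_prime
    · rw [sq]; exact Subtype.ext c.t2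
    · intro h'; exact c.t1 (congrArg Subtype.val h')
  have hNcard : Nat.card N = 2 := by rw [hN, Nat.card_zpowers, hNt]
  have hcen : ∀ n ∈ N, ∀ x : K, x * n = n * x := by
    intro n hn x
    obtain ⟨i, rfl⟩ := Subgroup.mem_zpowers_iff.1 hn
    have : Commute x (⟨t, c.tK⟩ : K) := Subtype.ext (c.KC x x.2).eq
    exact (this.zpow_right i).eq
  have hNn : N.Normal := ⟨fun n hn g => by rw [hcen n hn g, mul_inv_cancel_right]; exact hn⟩
  have hindex : Nat.card K = 2 * N.index := by rw [← N.card_mul_index, hNcard]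
  have hodd : ¬ 2 ∣ N.index := by
    rintro ⟨m, hm⟩
    exact h4 ⟨m, by rw [hindex, hm]; ring⟩
  have hcop : Nat.Coprime (Nat.card N) N.index := by
    rw [hNcard]
    exact (Nat.Prime.coprime_iff_not_dvd Nat.prime_two).2 hodd
  obtain ⟨M, hM⟩ := Subgroup.exists_right_complement'_of_coprime hcop
  have hMdec : ∀ x : K, ∃ n ∈ N, ∃ m ∈ M, x = n * m := by
    intro x
    obtain ⟨⟨n, m⟩, hnm⟩ := hM.2 x
    exact ⟨n, n.2, m, m.2, hnm.symm⟩
  have hMcard : Nat.card M = N.index := by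
    have h1 := hM.card_mul_card
    rw [hNcard, hindex] at h1
    omega
  have hMbot : M.map K.subtype = ⊥ := by
    apply c.core
    · rintro _ ⟨m, _, rfl⟩; exact m.2
    · rintro k hk _ ⟨m, hm, rfl⟩
      obtain ⟨n, hn, m', hm', hkm⟩ := hMdec ⟨k, hk⟩
      refine ⟨m' * m * m'⁻¹, M.mul_mem (M.mul_mem hm' hm) (M.inv_mem hm'), ?_⟩
      have h1 : (⟨k, hk⟩ : K) * m * (⟨k, hk⟩ : K)⁻¹ = m' * m * m'⁻¹ := by
        rw [hkm]
        calc n * m' * m * (n * m')⁻¹ = n * (m' * m * m'⁻¹) * n⁻¹ := by group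
          _ = _ := by rw [← hcen n hn, mul_inv_cancel_right]
      rw [← h1]
      rfl
    · rw [Subgroup.card_map_of_injective K.subtype_injective, hMcard]
      exact Nat.not_even_iff_odd.1 (fun h => hodd h.two_dvd)
  obtain ⟨n, hn, m, hm, hkm⟩ := hMdec ⟨k, hk⟩
  have hm1 : (m : G) = 1 := by
    have : (m : G) ∈ M.map K.subtype := ⟨m, hm, rfl⟩
    rw [hMbot] at this
    exact Subgroup.mem_bot.1 this
  have hk1 : k = (n : G) := by
    have := congrArg Subtype.val hkm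
    simp only [Subgroup.coe_mul] at this
    rw [this, hm1, mul_one]
  obtain ⟨i, hi⟩ := Subgroup.mem_zpowers_iff.1 hn
  have ht : (n : G) = t ^ i := by rw [← hi]; rfl
  rw [hk1, ht]
  rcases Int.even_or_odd' i with ⟨j, rfl | rfl⟩
  · left
    rw [zpow_mul, zpow_ofNat, sq, c.t2, one_zpow]
  · right
    rw [zpow_add, zpow_mul, zpow_ofNat, sq, c.t2, one_zpow, one_mul, zpow_one]

end Ctx

end Cfsg.Agent.StandardComponent.Intrinsic
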