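import Cfsg.Prelude.Def_Local
import Cfsg.Prelude.Def_SporadicB
import Cfsg.Agent.S0215
import Cfsg.Agent.S1754
import Cfsg.Agent.StandardComponent.Intrinsic

/-!
Standard subgroups `L` with `|Z(L)| = 2` whose automorphisms are induced by inner ones: the centralizer of the
central involution, and the proof that `C_G(L) = Z(L)` when `L / Z(L)` is `Good`.
-/

set_option autoImplicit false

namespace Cfsg.Agent.StandardComponent.StdCtx

open Cfsg.Agent.StandardComponent.Intrinsic
open scoped commutatorElement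

theorem orderOf_two {G : Type*} [Group G] {t : G} (h1 : t ≠ 1) (h2 : t * t = 1) : orderOf t = 2 :=
  orderOf_eq_prime (by rw [sq]; exact h2) h1

/-- An involution of a nonabelian simple group commutes with one of its conjugates. -/
theorem fusion {G : Type*} [Group G] [Finite G] [IsSimpleGroup G] (hG : ¬ IsMulCommutative G) {t : G}
    (ht : orderOf t = 2) : ∃ h : G, Commute (h * t * h⁻¹) t ∧ h * t * h⁻¹ ≠ t := by
  by_contra hcon
  push Not at hcon
  have ht1 : t ≠ 1 := by
    rintro rfl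
    rw [orderOf_one] at ht
    exact absurd ht (by decide)
  -- a Sylow subgroup containing `t`
  have hp : IsPGroup 2 (Subgroup.zpowers t) := by
    apply IsPGroup.of_card (n := 1)
    rw [Nat.card_zpowers, ht, pow_one]
  obtain ⟨P, hP⟩ := hp.exists_le_sylow
  have htP : t ∈ P := hP (Subgroup.mem_zpowers t)
  -- `t` is central in `P`
  have hcP : ∀ x ∈ P, Commute x t := by
    by_contra hn
    have hnil : Group.IsNilpotent P := P.isPGroup'.isNilpotent
    set C : Subgroup P := Subgroup.centralizer {(⟨t, htP⟩ : P)} with hC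
    have hlt : C < ⊤ := by
      rw [lt_top_iff_ne_top]
      intro htop
      apply hn
      intro x hx
      have h1 : (⟨x, hx⟩ : P) ∈ C := by rw [htop]; trivial
      rw [hC, Subgroup.mem_centralizer_singleton_iff] at h1
      exact (congrArg Subtype.val h1)
    have hnc := Group.normalizerCondition_of_isNilpotent C hlt
    obtain ⟨x, hx, hxC⟩ := SetLike.exists_of_lt hnc
    apply hxC
    have htC : (⟨t, htP⟩ : P) ∈ C := by rw [hC, Subgroup.mem_centralizer_singleton_iff]
    have h1 := (Subgroup.mem_normalizer_iff.1 hx _).1 htC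
    rw [hC, Subgroup.mem_centralizer_singleton_iff] at h1
    have h2 : Commute ((x : G) * t * (x : G)⁻¹) t := congrArg Subtype.val h1
    have h3 := hcon _ h2
    rw [hC, Subgroup.mem_centralizer_singleton_iff]
    apply Subtype.ext
    exact mul_inv_eq_iff_eq_mul.1 h3
  obtain ⟨N, hN, hodd, hmem⟩ := Cfsg.Agent.S0215.result P t ht htP (fun g hg => hcon g (hcP _ hg))
  rcases hN.eq_bot_or_eq_top with h | h
  · apply hG
    have hcen : t ∈ Subgroup.center G := by
      rw [Subgroup.mem_center_iff]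
      intro g
      have h1 := hmem g
      rw [h, Subgroup.mem_bot] at h1
      have h2 : t * g * t⁻¹ = g := mul_inv_eq_one.1 h1
      exact (mul_inv_eq_iff_eq_mul.1 h2).symm
    have hnb : Subgroup.center G ≠ ⊥ := by
      intro hb
      rw [hb, Subgroup.mem_bot] at hcen
      exact ht1 hcen
    have htop := (inferInstance : (Subgroup.center G).Normal).eq_bot_or_eq_top.resolve_left hnb
    refine ⟨⟨fun a b => ?_⟩⟩
    have : b ∈ Subgroup.center G := by rw [htop]; trivial
    exact (Subgroup.mem_center_iff.1 this a)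
  · rw [h, Subgroup.card_top] at hodd
    have h2 : 2 ∣ Nat.card G := ht ▸ orderOf_dvd_natCard t
    exact (Nat.not_even_iff_odd.2 hodd) (even_iff_two_dvd.2 h2)

variable {G : Type*} [Group G]

/-- The product of `L` and its centralizer. -/
theorem mem_sup_centralizer {L : Subgroup G} {x : G} (hx : x ∈ L ⊔ Subgroup.centralizer (L : Set G)) :
    ∃ l ∈ L, ∃ k ∈ Subgroup.centralizer (L : Set G), x = l * k := by
  have hcomm : ∀ l ∈ L, ∀ k ∈ Subgroup.centralizer (L : Set G), Commute l k :=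
    fun l hl k hk => Subgroup.mem_centralizer_iff.1 hk l hl
  let S : Subgroup G :=
    { carrier := {x | ∃ l ∈ L, ∃ k ∈ Subgroup.centralizer (L : Set G), x = l * k}
      one_mem' := ⟨1, L.one_mem, 1, Subgroup.one_mem _, (mul_one 1).symm⟩
      mul_mem' := by
        rintro _ _ ⟨l, hl, k, hk, rfl⟩ ⟨l', hl', k', hk', rfl⟩
        refine ⟨l * l', L.mul_mem hl hl', k * k', Subgroup.mul_mem _ hk hk', ?_⟩
        calc l * k * (l' * k') = l * (k * l') * k' := by group
          _ = l * (l' * k) * k' := by rw [(hcomm l' hl' k hk).eq]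
          _ = _ := by group
      inv_mem' := by
        rintro _ ⟨l, hl, k, hk, rfl⟩
        refine ⟨l⁻¹, L.inv_mem hl, k⁻¹, Subgroup.inv_mem _ hk, ?_⟩
        rw [(hcomm l hl k hk).eq]; group }
  have hle : L ⊔ Subgroup.centralizer (L : Set G) ≤ S := by
    apply sup_le
    · intro l hl
      exact ⟨l, hl, 1, Subgroup.one_mem _, (mul_one l).symm⟩
    · intro k hk
      exact ⟨1, L.one_mem, k, hk, (one_mul k).symm⟩
  exact hle hx

/-- The central involution of `L`. -/
theorem exists_inv {L : Subgroup G} (hZ : Nat.card (Subgroup.center L) = 2) :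
    ∃ t : G, t ≠ 1 ∧ t * t = 1 ∧ t ∈ L ∧ t ∈ Subgroup.centralizer (L : Set G) ∧
      ∀ x ∈ L, x ∈ Subgroup.centralizer (L : Set G) → x = 1 ∨ x = t := by
  obtain ⟨⟨⟨t, htL⟩, htc⟩, hne, huniq⟩ := (Nat.card_eq_two_iff' (1 : Subgroup.center L)).1 hZ
  have ht1 : t ≠ 1 := fun h => hne (Subtype.ext (Subtype.ext h))
  have htt : t * t = 1 := by
    have h1 := pow_card_eq_one' (G := Subgroup.center L) (x := ⟨⟨t, htL⟩, htc⟩)
    rw [hZ, sq] at h1
    exact congrArg (fun z : Subgroup.center L => ((z : L) : G)) h1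
  have htK : t ∈ Subgroup.centralizer (L : Set G) := by
    rw [Subgroup.mem_centralizer_iff]
    intro l hl
    exact congrArg Subtype.val (Subgroup.mem_center_iff.1 htc ⟨l, hl⟩)
  refine ⟨t, ht1, htt, htL, htK, ?_⟩
  intro x hxL hxK
  have hxc : (⟨x, hxL⟩ : L) ∈ Subgroup.center L := by
    rw [Subgroup.mem_center_iff]
    intro g
    exact Subtype.ext (Subgroup.mem_centralizer_iff.1 hxK g g.2)
  by_cases hx : x = 1
  · exact Or.inl hx
  · right
    have h1 := huniq ⟨⟨x, hxL⟩, hxc⟩ (fun h => hx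
      (congrArg (fun z : Subgroup.center L => ((z : L) : G)) h))
    exact congrArg (fun z : Subgroup.center L => ((z : L) : G)) h1

section Ctx

variable {X : Type*} [Group X] {L : Subgroup G}

open Classical in
/-- The projection of `L C_G(L)` onto `L / Z(L)`. -/
noncomputable def proj (e : L ⧸ Subgroup.center L ≃* X) (c : G) : X :=
  if h : ∃ l : L, ∃ k ∈ Subgroup.centralizer (L : Set G), c = l * k then e (h.choose : L ⧸ Subgroup.center L)
  else 1

theorem proj_eq (e : L ⧸ Subgroup.center L ≃* X) {c : G} {l : L} {k : G}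
    (hk : k ∈ Subgroup.centralizer (L : Set G)) (hc : c = l * k) :
    proj e c = e (l : L ⧸ Subgroup.center L) := by
  have h : ∃ l : L, ∃ k ∈ Subgroup.centralizer (L : Set G), c = l * k := ⟨l, k, hk, hc⟩
  rw [proj, dif_pos h]
  congr 1
  obtain ⟨k', hk', hc'⟩ := h.choose_spec
  rw [QuotientGroup.eq, Subgroup.mem_center_iff]
  intro g
  have h1 : ((h.choose⁻¹ * l : L) : G) = k' * k⁻¹ := by
    have h2 : (h.choose : G) * k' = l * k := by rw [← hc', ← hc]
    simp only [Subgroup.coe_mul, Subgroup.coe_inv]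
    rw [inv_mul_eq_iff_eq_mul, ← mul_assoc, h2, mul_inv_cancel_right]
  apply Subtype.ext
  have h3 : k' * k⁻¹ ∈ Subgroup.centralizer (L : Set G) := Subgroup.mul_mem _ hk' (Subgroup.inv_mem _ hk)
  rw [← h1] at h3
  exact Subgroup.mem_centralizer_iff.1 h3 g g.2

/-- The context of `Intrinsic` for a standard subgroup. -/
theorem exists_ctx [Finite G] (hL : Cfsg.IsStandardSubgroup L) (e : L ⧸ Subgroup.center L ≃* X)
    (hN : Subgroup.normalizer (L : Set G) ≤ L ⊔ Subgroup.centralizer (L : Set G))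
    (hbal : ∀ t : G, orderOf t = 2 → Cfsg.centralizerPPrimeCore 2 t = ⊥)
    {t : G} (ht1 : t ≠ 1) (ht2 : t * t = 1) (htL : t ∈ L) (htK : t ∈ Subgroup.centralizer (L : Set G))
    (hLK : ∀ x ∈ L, x ∈ Subgroup.centralizer (L : Set G) → x = 1 ∨ x = t) :
    Nonempty (Ctx G X L (Subgroup.centralizer (L : Set G)) t) := by
  set K := Subgroup.centralizer (L : Set G) with hK
  have hcomm : ∀ l ∈ L, ∀ k ∈ K, Commute l k := fun l hl k hk => Subgroup.mem_centralizer_iff.1 hk l hl
  have hLC : ∀ l ∈ L, Commute l t := fun l hl => hcomm l hl t htK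
  have hKC : ∀ k ∈ K, Commute k t := fun k hk => (hcomm t htL k hk).symm
  have hot : orderOf t = 2 := orderOf_two ht1 ht2
  have hsupC : ∀ x ∈ L ⊔ K, Commute x t := by
    intro x hx
    obtain ⟨l, hl, k, hk, rfl⟩ := mem_sup_centralizer hx
    exact (hLC l hl).mul_left (hKC k hk)
  have hNC : ∀ x, x ∈ Subgroup.normalizer (L : Set G) ↔ Commute x t := by
    intro x
    constructor
    · intro hx; exact hsupC x (hN hx)
    · intro hx
      exact (Cfsg.Agent.S1754.result L hL t hot htK).1 (Subgroup.mem_centralizer_singleton_iff.2 hx)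
  have hNK : ∀ x, x ∈ Subgroup.normalizer (K : Set G) ↔ Commute x t := by
    intro x; rw [← hNC, hL.2.2.2]
  have hdec : ∀ c : G, Commute c t → ∃ l ∈ L, ∃ k ∈ K, c = l * k := fun c hc =>
    mem_sup_centralizer (hN ((hNC c).2 hc))
  refine ⟨⟨proj e, ?_, ?_, ?_, hLC, hKC, hcomm, hLK, htL, htK, ht1, ht2, hdec, ?_, ?_, ?_, ?_, ?_⟩⟩
  · intro c d hc hd
    obtain ⟨l, hl, k, hk, hc'⟩ := hdec c hc
    obtain ⟨l', hl', k', hk', hd'⟩ := hdec d hd
    rw [proj_eq e (l := ⟨l, hl⟩) hk hc', proj_eq e (l := ⟨l', hl'⟩) hk' hd', ← map_mul]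
    rw [proj_eq e (l := ⟨l, hl⟩ * ⟨l', hl'⟩) (K.mul_mem hk hk')]
    · rfl
    · simp only [Subgroup.coe_mul]
      rw [hc', hd']
      calc l * k * (l' * k') = l * (k * l') * k' := by group
        _ = l * (l' * k) * k' := by rw [(hcomm l' hl' k hk).eq]
        _ = _ := by group
  · intro c hc
    obtain ⟨l, hl, k, hk, hc'⟩ := hdec c hc
    rw [proj_eq e (l := ⟨l, hl⟩) hk hc', EmbeddingLike.map_eq_one_iff, QuotientGroup.eq_one_iff]
    constructor
    · intro h
      rw [hc']
      refine K.mul_mem ?_ hk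
      rw [hK, Subgroup.mem_centralizer_iff]
      intro g hg
      exact congrArg Subtype.val (Subgroup.mem_center_iff.1 h ⟨g, hg⟩)
    · intro h
      have h1 : l ∈ K := by
        have : l = c * k⁻¹ := by rw [hc', mul_inv_cancel_right]
        rw [this]
        exact K.mul_mem h (K.inv_mem hk)
      rw [Subgroup.mem_center_iff]
      intro g
      exact Subtype.ext (hcomm g g.2 l h1)
  · intro x
    obtain ⟨l, hl⟩ := QuotientGroup.mk_surjective (e.symm x)
    refine ⟨l, l.2, ?_⟩
    rw [proj_eq e (l := l) K.one_mem (mul_one _).symm, hl, e.apply_symm_apply]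
  · intro c hc l hl
    exact (Subgroup.mem_normalizer_iff.1 ((hNC c).2 hc) l).1 hl
  · intro c hc k hk
    exact (Subgroup.mem_normalizer_iff.1 ((hNK c).2 hc) k).1 hk
  · intro h hh N hNle hNK'
    have h1 := hL.2.1.2 h (fun h' => hh ((hNK h).1 h'))
    have h2 : N ≤ K ⊓ K.map (MulAut.conj h).toMonoidHom := by
      intro n hn
      refine ⟨hNle hn, ⟨h⁻¹ * n * h, hNK' n hn, ?_⟩⟩
      simp only [MulEquiv.toMonoidHom_eq_coe, MonoidHom.coe_coe, MulAut.conj_apply]
      group
    exact Odd.of_dvd_nat h1 (Subgroup.card_dvd_of_le h2)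
  · intro v hv hv2 hv1 c hc
    have h1 := (Cfsg.Agent.S1754.result L hL v (orderOf_two hv1 hv2) hv).1
      (Subgroup.mem_centralizer_singleton_iff.2 hc)
    exact (hNC c).1 h1
  · intro N hNK' hNn hodd
    have hb := hbal t hot
    have hCle : N ≤ Subgroup.centralizer ({t} : Set G) := by
      intro n hn
      rw [Subgroup.mem_centralizer_singleton_iff]
      exact hKC n (hNK' hn)
    have hnorm : (N.subgroupOf (Subgroup.centralizer ({t} : Set G))).Normal := by
      refine ⟨fun n hn g => ?_⟩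
      rw [Subgroup.mem_subgroupOf] at hn ⊢
      obtain ⟨l, hl, k, hk, hg⟩ := hdec g (Subgroup.mem_centralizer_singleton_iff.1 g.2)
      simp only [Subgroup.coe_mul, Subgroup.coe_inv]
      have h1 := hNn k hk n hn
      have h2 : (g : G) * n * (g : G)⁻¹ = k * n * k⁻¹ := by
        rw [hg]
        calc l * k * n * (l * k)⁻¹ = l * (k * n * k⁻¹) * l⁻¹ := by group
          _ = (k * n * k⁻¹) * l * l⁻¹ := by rw [(hcomm l hl _ (hNK' h1)).eq]
          _ = _ := by rw [mul_inv_cancel_right]
      rw [h2]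
      exact h1
    have hcop : (Nat.card (N.subgroupOf (Subgroup.centralizer ({t} : Set G)))).Coprime 2 := by
      rw [Nat.card_congr (Subgroup.subgroupOfEquivOfLe hCle).toEquiv]
      exact Nat.coprime_two_right.2 hodd
    have hle : N.subgroupOf (Subgroup.centralizer ({t} : Set G)) ≤
        Cfsg.pPrimeCore 2 (Subgroup.centralizer ({t} : Set G)) := le_sSup ⟨hnorm, hcop⟩
    rw [eq_bot_iff, ← hb]
    intro n hn
    exact ⟨⟨n, hCle hn⟩, hle hn, rfl⟩

/-- `C_G(L) = Z(L)` and `C_G(t) = L`. -/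
theorem centralizer_eq [Finite G] [IsSimpleGroup G] (hG : ¬ IsMulCommutative G) (hX : Good X)
    (hL : Cfsg.IsStandardSubgroup L) (e : L ⧸ Subgroup.center L ≃* X)
    (hN : Subgroup.normalizer (L : Set G) ≤ L ⊔ Subgroup.centralizer (L : Set G))
    (hbal : ∀ t : G, orderOf t = 2 → Cfsg.centralizerPPrimeCore 2 t = ⊥)
    {t : G} (ht1 : t ≠ 1) (ht2 : t * t = 1) (htL : t ∈ L) (htK : t ∈ Subgroup.centralizer (L : Set G))
    (hLK : ∀ x ∈ L, x ∈ Subgroup.centralizer (L : Set G) → x = 1 ∨ x = t) :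
    Subgroup.centralizer ({t} : Set G) = L := by
  obtain ⟨c⟩ := exists_ctx hL e hN hbal ht1 ht2 htL htK hLK
  have hK := c.K_eq hX (fusion hG (orderOf_two ht1 ht2))
  apply le_antisymm
  · intro x hx
    obtain ⟨l, hl, k, hk, rfl⟩ := c.dec x (Subgroup.mem_centralizer_singleton_iff.1 hx)
    rcases hK k hk with rfl | rfl
    · rw [mul_one]; exact hl
    · exact L.mul_mem hl htL
  · intro l hl
    rw [Subgroup.mem_centralizer_singleton_iff]
    exact c.LC l hl

end Ctx

/-- A perfect group with centre of order two is a nonsplit double cover. -/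
theorem nonsplit {H X : Type*} [Group H] [Group X] (hp : Group.IsPerfect H)
    (hZ : Nat.card (Subgroup.center H) = 2) (e : H ⧸ Subgroup.center H ≃* X) :
    Cfsg.IsNonsplitDoubleCover H X := by
  refine ⟨hZ, ⟨e⟩, ?_⟩
  intro M hM
  have hdec : ∀ x : H, ∃ z ∈ Subgroup.center H, ∃ m ∈ M, x = z * m := by
    intro x
    obtain ⟨⟨z, m⟩, h⟩ := hM.2 x
    exact ⟨z, z.2, m, m.2, h.symm⟩
  have hle : ⁅(⊤ : Subgroup H), (⊤ : Subgroup H)⁆ ≤ M := by
    rw [Subgroup.commutator_le]
    rintro x - y -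
    obtain ⟨z, hz, m, hm, rfl⟩ := hdec x
    obtain ⟨z', hz', m', hm', rfl⟩ := hdec y
    have : ⁅z * m, z' * m'⁆ = m * m' * m⁻¹ * m'⁻¹ := by
      rw [commutatorElement_def]
      have h1 := Subgroup.mem_center_iff.1 hz
      have h2 := Subgroup.mem_center_iff.1 hz'
      calc z * m * (z' * m') * (z * m)⁻¹ * (z' * m')⁻¹
          = z * ((m * z') * m') * m⁻¹ * z⁻¹ * (z' * m')⁻¹ := by group
        _ = z * (z' * (m * m' * m⁻¹)) * z⁻¹ * (z' * m')⁻¹ := by rw [h2 m]; group
        _ = (z' * (m * m' * m⁻¹)) * z * z⁻¹ * (z' * m')⁻¹ := by rw [← h1 (z' * (m * m' * m⁻¹))]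
        _ = z' * (m * m' * m⁻¹ * m'⁻¹) * z'⁻¹ := by group
        _ = (m * m' * m⁻¹ * m'⁻¹) * z' * z'⁻¹ := by rw [← h2 (m * m' * m⁻¹ * m'⁻¹)]
        _ = _ := by group
    rw [this]
    exact M.mul_mem (M.mul_mem (M.mul_mem hm hm') (M.inv_mem hm)) (M.inv_mem hm')
  have htop : M = ⊤ := by
    rw [eq_top_iff, ← hp.commutator_eq_top]
    exact hle
  have hbot : Subgroup.center H = ⊥ := by
    have := hM.disjoint
    rw [htop] at this
    exact disjoint_top.1 this
  rw [hbot] at hZ
  simp at hZ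

end Cfsg.Agent.StandardComponent.StdCtx
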