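import Mathlib
import Cfsg.Agent.SporadicRecognition.AltCover

/-!
# Automorphisms of the alternating groups

`exists_autHom`: for `7 ≤ n` every automorphism of `A_n` is conjugation by a unique permutation, and this
defines a homomorphism from the automorphism group to the symmetric group.
-/

set_option autoImplicit false

namespace Cfsg.Agent.StandardComponent.AltAut

open Equiv Equiv.Perm Subgroup
open scoped Nat
open Cfsg.Agent.Lib.AltCarmichael
open Cfsg.Agent.SporadicRecognition.AltCover

section threeCycles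

variable {α : Type*} [Fintype α] [DecidableEq α]

theorem cube_eq_one {u : Perm α} (hu : u.IsThreeCycle) : u ^ 3 = 1 := by
  rw [← hu.orderOf]; exact pow_orderOf_eq_one u

theorem apply_three {u : Perm α} (hu : u.IsThreeCycle) (x : α) : u (u (u x)) = x := by
  have h := congrArg (fun f : Perm α => f x) (cube_eq_one hu)
  simpa [pow_succ] using h

theorem apply_two_ne {u : Perm α} (hu : u.IsThreeCycle) {x : α} (hx : u x ≠ x) : u (u x) ≠ x := by
  intro h
  apply hx
  have := apply_three hu x
  rw [h] at this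
  exact this

theorem support_eq {u : Perm α} (hu : u.IsThreeCycle) {x : α} (hx : u x ≠ x) :
    u.support = {x, u x, u (u x)} := by
  symm
  apply Finset.eq_of_subset_of_card_le
  · intro y hy
    simp only [Finset.mem_insert, Finset.mem_singleton] at hy
    rw [mem_support]
    rcases hy with rfl | rfl | rfl
    · exact hx
    · exact fun h => hx (u.injective h)
    · exact fun h => hx (u.injective (u.injective h))
  · rw [hu.card_support]
    rw [Finset.card_insert_of_notMem, Finset.card_insert_of_notMem, Finset.card_singleton]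
    · rw [Finset.mem_singleton]; exact fun h => hx (u.injective h).symm
    · simp only [Finset.mem_insert, Finset.mem_singleton, not_or]
      exact ⟨fun h => hx h.symm, fun h => apply_two_ne hu hx h.symm⟩

theorem apply_of_not {u : Perm α} (hu : u.IsThreeCycle) {x : α} (hx : u x ≠ x) {y : α} (h1 : y ≠ x)
    (h2 : y ≠ u x) (h3 : y ≠ u (u x)) : u y = y := by
  by_contra h
  have : y ∈ u.support := mem_support.2 h
  rw [support_eq hu hx] at this
  simp only [Finset.mem_insert, Finset.mem_singleton] at this
  rcases this with h | h | h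
  · exact h1 h
  · exact h2 h
  · exact h3 h

theorem mem_three {u : Perm α} (hu : u.IsThreeCycle) {x : α} (hx : u x ≠ x) {y : α} (hy : u y ≠ y) :
    y = x ∨ y = u x ∨ y = u (u x) := by
  have : y ∈ u.support := mem_support.2 hy
  rw [support_eq hu hx] at this
  simpa only [Finset.mem_insert, Finset.mem_singleton] using this

/-- three-cycles sharing an arc and the next point are equal -/
theorem eq_of_arc {u v : Perm α} (hu : u.IsThreeCycle) (hv : v.IsThreeCycle) {q : α} (hq : u q ≠ q)
    (h1 : u q = v q) (h2 : u (u q) = v (v q)) : u = v := by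
  have hq' : v q ≠ q := by rw [← h1]; exact hq
  ext y
  by_cases ha : y = q
  · rw [ha, h1]
  by_cases hb : y = u q
  · rw [hb, h2, h1]
  by_cases hc : y = u (u q)
  · rw [hc, apply_three hu, h2, apply_three hv]
  rw [apply_of_not hu hq ha hb hc, apply_of_not hv hq' ha (by rw [← h1]; exact hb) (by rw [← h2]; exact hc)]

theorem exists_ne {u : Perm α} (hu : u.IsThreeCycle) : ∃ x, u x ≠ x := by
  by_contra h
  push Not at h
  have h1 : u = 1 := Equiv.ext h
  have h2 := hu.card_support
  rw [h1] at h2
  simp at h2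

theorem eq_or_of_support {u v : Perm α} (hu : u.IsThreeCycle) (hv : v.IsThreeCycle)
    (h : u.support = v.support) : u = v ∨ v = u⁻¹ := by
  obtain ⟨x, hx⟩ := exists_ne hu
  have hxv : v x ≠ x := by
    rw [← mem_support, ← h, mem_support]; exact hx
  have hm : ∀ y, v y ≠ y → y = x ∨ y = u x ∨ y = u (u x) := by
    intro y hy
    apply mem_three hu hx
    rw [← mem_support, h, mem_support]; exact hy
  have h1 := hm (v x) (fun e => hxv (v.injective e))
  have h2 := hm (v (v x)) (fun e => hxv (v.injective (v.injective e)))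
  have h3 : v (v x) ≠ x := apply_two_ne hv hxv
  have h4 : v (v x) ≠ v x := fun e => hxv (v.injective e)
  rcases h1 with h1 | h1 | h1
  · exact absurd h1 hxv
  · left
    apply eq_of_arc hu hv hx h1.symm
    rcases h2 with h2 | h2 | h2
    · exact absurd h2 h3
    · exact absurd (h2.trans h1.symm) h4
    · exact h2.symm
  · right
    have hui : (u⁻¹).IsThreeCycle := hu.inv
    have e1 : u⁻¹ x = u (u x) := by
      rw [Perm.inv_eq_iff_eq]; exact (apply_three hu x).symm
    have e2 : u⁻¹ (u⁻¹ x) = u x := by
      rw [e1, Perm.inv_eq_iff_eq]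
    apply eq_of_arc hv hui hxv (h1.trans e1.symm)
    rw [e2]
    rcases h2 with h2 | h2 | h2
    · exact absurd h2 h3
    · exact h2
    · exact absurd (h2.trans h1.symm) h4

/-- Two three-cycles, different and not inverse to each other, whose product is an involution share an
arc. -/
theorem exists_arc {u v : Perm α} (hu : u.IsThreeCycle) (hv : v.IsThreeCycle) (h1 : u ≠ v)
    (h2 : v ≠ u⁻¹) (h : (u * v) ^ 2 = 1) : ∃ q, u q = v q ∧ u q ≠ q := by
  obtain ⟨d, hd1, hd2⟩ : ∃ d, v d ≠ d ∧ u d = d := by
    by_contra hcon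
    push Not at hcon
    have hsub : v.support ⊆ u.support := fun y hy => mem_support.2 (hcon y (mem_support.1 hy))
    have hs : v.support = u.support :=
      Finset.eq_of_subset_of_card_le hsub (by rw [hu.card_support, hv.card_support])
    rcases eq_or_of_support hu hv hs.symm with h3 | h3
    · exact h1 h3
    · exact h2 h3
  -- `v : v (v d) → d → v d`
  have hp : v (v (v d)) = d := apply_three hv d
  have e : u (v (u (v (v (v d))))) = v (v d) := by
    have := congrArg (fun f : Perm α => f (v (v d))) h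
    simpa [pow_two] using this
  rw [hp, hd2] at e
  refine ⟨v d, e, ?_⟩
  rw [e]
  exact fun e' => hd1 (v.injective e')

/-- three three-cycles pairwise sharing arcs share one arc -/
theorem arc_of_three {u v w : Perm α} (hu : u.IsThreeCycle) (hv : v.IsThreeCycle) (hw : w.IsThreeCycle)
    (huv : u ≠ v) {q : α} (hq : u q ≠ q) (hqv : u q = v q) (h1 : ∃ r, u r = w r ∧ u r ≠ r)
    (h2 : ∃ r, v r = w r ∧ v r ≠ r) : w q = u q := by
  obtain ⟨r, hr, hr'⟩ := h1
  obtain ⟨s, hs, hs'⟩ := h2
  have hq' : v q ≠ q := by rw [← hqv]; exact hq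
  have hne : u (u q) ≠ v (v q) := fun e => huv (eq_of_arc hu hv hq hqv e)
  rcases mem_three hu hq hr' with rfl | rfl | rfl
  · exact hr.symm
  · -- `w p = e`
    rcases mem_three hv hq' hs' with rfl | rfl | rfl
    · rw [← hs, hqv]
    · rw [← hqv] at hs
      rw [← hr] at hs
      exact absurd (by rw [← hqv]; exact hs.symm) hne
    · -- `w p = e`, `w d = q`
      exfalso
      rw [apply_three hv] at hs
      -- d = v (v q)
      have hwp : w (u q) ≠ u q := by rw [← hr]; exact hr'
      have hwd : w (v (v q)) ≠ v (v q) := by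
        rw [← hs]
        exact fun e => apply_two_ne hv hq' e.symm
      rcases mem_three hw hwp hwd with h | h | h
      · rw [hqv] at h; exact hq' (v.injective h)
      · rw [← hr] at h; exact hne h.symm
      · rw [h, apply_three hw] at hs
        exact hq hs.symm
  · -- `w e = q`
    rw [apply_three hu] at hr
    rcases mem_three hv hq' hs' with rfl | rfl | rfl
    · rw [← hs, hqv]
    · -- `w p = d`
      rw [← hqv] at hs
      have hwe : w (u (u q)) ≠ u (u q) := by
        rw [← hr]; exact fun e => apply_two_ne hu hq e.symm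
      have hwp : w (u q) ≠ u q := by
        rw [← hs]
        intro e
        rw [hqv] at e
        exact hq' (v.injective e)
      rcases mem_three hw hwe hwp with h | h | h
      · exact absurd h.symm (fun e => hq (u.injective e))
      · rw [← hr] at h; exact absurd h hq
      · rw [← hr] at h; exact h.symm
    · rw [apply_three hv] at hs
      exact absurd (w.injective (hr.symm.trans hs)) hne

end threeCycles

section card

variable {α : Type*} [Fintype α] [DecidableEq α]

/-- the centraliser in the alternating group as a subgroup of the centraliser in the symmetric group -/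
theorem card_centralizer_eq (g : alternatingGroup α) :
    Nat.card (centralizer ({g} : Set (alternatingGroup α))) =
      Nat.card ((alternatingGroup α).subgroupOf (centralizer ({(g : Perm α)} : Set (Perm α)))) := by
  apply Nat.card_congr
  exact
    { toFun := fun x => ⟨⟨((x : alternatingGroup α) : Perm α), by
        have hx := mem_centralizer_singleton_iff.1 x.2
        rw [mem_centralizer_singleton_iff]
        exact congrArg Subtype.val hx⟩, (x : alternatingGroup α).2⟩
      invFun := fun x => ⟨⟨(x : centralizer ({(g : Perm α)} : Set (Perm α))), x.2⟩, by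
        rw [mem_centralizer_singleton_iff]
        apply Subtype.ext
        exact mem_centralizer_singleton_iff.1 (x : centralizer ({(g : Perm α)} : Set (Perm α))).2⟩
      left_inv := fun x => rfl
      right_inv := fun x => rfl }

theorem card_centralizer_le (g : alternatingGroup α) :
    Nat.card (centralizer ({g} : Set (alternatingGroup α))) ≤ Nat.card (centralizer ({(g : Perm α)} : Set (Perm α))) := by
  rw [card_centralizer_eq]
  exact Nat.card_le_card_of_injective _ (Subgroup.subtype_injective _)

theorem card_centralizer_ge [Nontrivial α] (g : alternatingGroup α) :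
    Nat.card (centralizer ({(g : Perm α)} : Set (Perm α))) ≤
      2 * Nat.card (centralizer ({g} : Set (alternatingGroup α))) := by
  have h1 : (alternatingGroup α).relIndex (centralizer ({(g : Perm α)} : Set (Perm α))) ∣ 2 := by
    have := Subgroup.relIndex_dvd_index_of_normal (alternatingGroup α) (centralizer ({(g : Perm α)} : Set (Perm α)))
    rwa [alternatingGroup.index_eq_two] at this
  have h2 := Nat.le_of_dvd (by norm_num) h1
  have h3 := Subgroup.card_mul_index ((alternatingGroup α).subgroupOf (centralizer ({(g : Perm α)} : Set (Perm α))))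
  rw [← card_centralizer_eq] at h3
  rw [Subgroup.relIndex] at h2
  rw [← h3, Nat.mul_comm]
  exact Nat.mul_le_mul_right _ h2

theorem card_centralizer_map (e : MulAut (alternatingGroup α)) (g : alternatingGroup α) :
    Nat.card (centralizer ({e g} : Set (alternatingGroup α))) = Nat.card (centralizer ({g} : Set (alternatingGroup α))) := by
  symm
  apply Nat.card_congr
  exact
    { toFun := fun x => ⟨e x, by
        have hx := mem_centralizer_singleton_iff.1 x.2
        rw [mem_centralizer_singleton_iff, ← map_mul, hx, map_mul]⟩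
      invFun := fun x => ⟨e.symm x, by
        have hx := mem_centralizer_singleton_iff.1 x.2
        rw [mem_centralizer_singleton_iff]
        apply e.injective
        rw [map_mul, map_mul, MulEquiv.apply_symm_apply, hx]⟩
      left_inv := fun x => Subtype.ext (e.symm_apply_apply _)
      right_inv := fun x => Subtype.ext (e.apply_symm_apply _) }

end card

theorem ineq {n k : ℕ} (hn : 7 ≤ n) (hk : 2 ≤ k) (hkn : 3 * k ≤ n) :
    2 * ((n - 3 * k)! * 3 ^ k * k !) < (n - 3)! * 3 := by
  rcases Nat.lt_or_ge k 3 with h3 | h3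
  · obtain rfl : k = 2 := by omega
    obtain ⟨m, rfl⟩ : ∃ m, n = m + 6 := ⟨n - 6, by omega⟩
    have hm : 1 ≤ m := by omega
    have e1 : m + 6 - 3 * 2 = m := by omega
    have e2 : m + 6 - 3 = m + 3 := by omega
    rw [e1, e2]
    have h1 : (m + 3)! = (m + 3) * ((m + 2) * ((m + 1) * m !)) := by
      rw [Nat.factorial_succ, Nat.factorial_succ, Nat.factorial_succ]
    have h2 : 0 < m ! := Nat.factorial_pos m
    rw [h1]
    have h4 : 24 ≤ (m + 3) * ((m + 2) * (m + 1)) :=
      calc 24 = 4 * (3 * 2) := by norm_num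
        _ ≤ (m + 3) * ((m + 2) * (m + 1)) := Nat.mul_le_mul (by omega) (Nat.mul_le_mul (by omega) (by omega))
    have h5 : 24 * m ! ≤ (m + 3) * ((m + 2) * (m + 1)) * m ! := Nat.mul_le_mul_right _ h4
    have h6 : (2 : ℕ)! = 2 := rfl
    rw [h6]
    nlinarith
  · have h1 : (3 * k - 3)! * (n - 3 * k)! ≤ (n - 3)! := by
      have := Nat.factorial_mul_factorial_dvd_factorial_add (3 * k - 3) (n - 3 * k)
      have e : 3 * k - 3 + (n - 3 * k) = n - 3 := by omega
      rw [e] at this
      exact Nat.le_of_dvd (Nat.factorial_pos _) this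
    have h2 : ∀ j, 3 ≤ j → 2 * (3 ^ j * j !) < 3 * (3 * j - 3)! := by
      intro j hj
      induction j, hj using Nat.le_induction with
      | base => decide
      | succ j hj ih =>
        have e : 3 * (j + 1) - 3 = (3 * j - 3) + 3 := by omega
        have h3 : ((3 * j - 3) + 3)! = (3 * j - 3 + 3) * ((3 * j - 3 + 2) * ((3 * j - 3 + 1) * (3 * j - 3)!)) := by
          rw [Nat.factorial_succ, Nat.factorial_succ, Nat.factorial_succ]
        rw [e, h3, pow_succ, Nat.factorial_succ]
        have h4 : 3 * (j + 1) ≤ (3 * j - 3 + 3) * ((3 * j - 3 + 2) * (3 * j - 3 + 1)) := by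
          obtain ⟨i, rfl⟩ : ∃ i, j = i + 3 := ⟨j - 3, by omega⟩
          have e2 : 3 * (i + 3) - 3 = 3 * i + 6 := by omega
          rw [e2]
          calc 3 * (i + 3 + 1) ≤ (3 * i + 6 + 3) * (2 * 1) := by omega
            _ ≤ (3 * i + 6 + 3) * ((3 * i + 6 + 2) * (3 * i + 6 + 1)) :=
              Nat.mul_le_mul_left _ (Nat.mul_le_mul (by omega) (by omega))
        calc 2 * (3 ^ j * 3 * ((j + 1) * j !)) = (3 * (j + 1)) * (2 * (3 ^ j * j !)) := by ring
          _ < (3 * (j + 1)) * (3 * (3 * j - 3)!) := by
              apply Nat.mul_lt_mul_of_pos_left ih; omega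
          _ ≤ ((3 * j - 3 + 3) * ((3 * j - 3 + 2) * (3 * j - 3 + 1))) * (3 * (3 * j - 3)!) :=
              Nat.mul_le_mul_right _ h4
          _ = _ := by ring
    have h3' := h2 k h3
    have h7 : 0 < (n - 3 * k)! := Nat.factorial_pos _
    calc 2 * ((n - 3 * k)! * 3 ^ k * k !) = (2 * (3 ^ k * k !)) * (n - 3 * k)! := by ring
      _ < (3 * (3 * k - 3)!) * (n - 3 * k)! := Nat.mul_lt_mul_of_pos_right h3' h7
      _ = ((3 * k - 3)! * (n - 3 * k)!) * 3 := by ring
      _ ≤ (n - 3)! * 3 := Nat.mul_le_mul_right _ h1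

section main

variable {n : ℕ}

/-- automorphisms preserve three-cycles -/
theorem isThreeCycle_map (hn : 7 ≤ n) (e : MulAut (alternatingGroup (Fin n))) {g : alternatingGroup (Fin n)}
    (hg : (g : Perm (Fin n)).IsThreeCycle) : (e g : Perm (Fin n)).IsThreeCycle := by
  have : Nontrivial (Fin n) := Fin.nontrivial_iff_two_le.2 (by omega)
  have ho : orderOf (e g : Perm (Fin n)) = 3 := by
    rw [Subgroup.orderOf_coe, MulEquiv.orderOf_eq, ← Subgroup.orderOf_coe]
    exact hg.orderOf
  obtain ⟨j, hj⟩ := cycleType_prime_order (σ := (e g : Perm (Fin n))) (by rw [ho]; exact Nat.prime_three)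
  rw [ho] at hj
  -- centraliser orders
  have hsum : 3 * (j + 1) ≤ n := by
    have h := (e g : Perm (Fin n)).sum_cycleType
    have h2 : (e g : Perm (Fin n)).support.card ≤ n := by
      simpa using Finset.card_le_univ (e g : Perm (Fin n)).support
    rw [hj, Multiset.sum_replicate, smul_eq_mul] at h
    omega
  have hc1 : Nat.card (centralizer ({(g : Perm (Fin n))} : Set (Perm (Fin n)))) = (n - 3)! * 3 := by
    rw [nat_card_centralizer, hg.cycleType]
    simp
  have hc2 : Nat.card (centralizer ({(e g : Perm (Fin n))} : Set (Perm (Fin n)))) =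
      (n - 3 * (j + 1))! * 3 ^ (j + 1) * (j + 1)! := by
    rw [nat_card_centralizer, hj, Multiset.sum_replicate, Multiset.prod_replicate]
    have h0 : (Multiset.replicate (j + 1) 3).toFinset = {3} := by
      rw [Multiset.toFinset_replicate, if_neg (by omega)]
    rw [h0, Finset.prod_singleton, Multiset.count_replicate_self, Fintype.card_fin, smul_eq_mul,
      Nat.mul_comm (j + 1) 3]
  have h1 := card_centralizer_ge g
  have h2 := card_centralizer_le (e g)
  rw [card_centralizer_map] at h2
  rw [hc1] at h1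
  rw [hc2] at h2
  have hj0 : j = 0 := by
    by_contra hne
    have := ineq hn (k := j + 1) (by omega) hsum
    omega
  rw [hj0] at hj
  exact hj

theorem ofNat_val {m i : ℕ} (hi : i < m + 2) : (Fin.ofNat (m + 2) i).val = i := Nat.mod_eq_of_lt hi

theorem ofNat_ne {m i j : ℕ} (hi : i < m + 2) (hj : j < m + 2) (hij : i ≠ j) :
    Fin.ofNat (m + 2) i ≠ Fin.ofNat (m + 2) j := by
  intro h
  apply hij
  rw [← ofNat_val hi, h, ofNat_val hj]

theorem cyc_apply_self {m i : ℕ} (hi : i < m) :
    cyc m i (Fin.ofNat (m + 2) i) = Fin.ofNat (m + 2) m := by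
  rw [cyc_def, Perm.mul_apply, swap_apply_of_ne_of_ne (ofNat_ne (by omega) (by omega) (by omega))
    (ofNat_ne (by omega) (by omega) (by omega)), swap_apply_left]

theorem cyc_apply_m {m i : ℕ} (hi : i < m) :
    cyc m i (Fin.ofNat (m + 2) m) = Fin.ofNat (m + 2) (m + 1) := by
  rw [cyc_def, Perm.mul_apply, swap_apply_left,
    swap_apply_of_ne_of_ne (ofNat_ne (by omega) (by omega) (by omega)) (ofNat_ne (by omega) (by omega) (by omega))]

theorem cyc_apply_m_succ {m i : ℕ} :
    cyc m i (Fin.ofNat (m + 2) (m + 1)) = Fin.ofNat (m + 2) i := by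
  rw [cyc_def, Perm.mul_apply, swap_apply_right, swap_apply_right]

theorem cyc_apply_of_ne {m i j : ℕ} (hi : i < m) (hj : j < m) (hij : i ≠ j) :
    cyc m i (Fin.ofNat (m + 2) j) = Fin.ofNat (m + 2) j := by
  rw [cyc_def, Perm.mul_apply, swap_apply_of_ne_of_ne (ofNat_ne (by omega) (by omega) (by omega))
    (ofNat_ne (by omega) (by omega) (by omega)), swap_apply_of_ne_of_ne
    (ofNat_ne (by omega) (by omega) (by omega)) (ofNat_ne (by omega) (by omega) (by omega))]

theorem isThreeCycle_cyc {m i : ℕ} (hi : i < m) : (cyc m i).IsThreeCycle := by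
  rw [cyc_def, swap_comm]
  exact isThreeCycle_swap_mul_swap_same (ofNat_ne (by omega) (by omega) (by omega))
    (ofNat_ne (by omega) (by omega) (by omega)) (ofNat_ne (by omega) (by omega) (by omega))

theorem cy_ne {m i j : ℕ} (hi : i < m) (hj : j < m) (hij : i ≠ j) : cy m i hi ≠ cy m j hj := by
  intro h
  have h1 : cyc m i = cyc m j := congrArg Subtype.val h
  have h2 := cyc_apply_self hi
  rw [h1, cyc_apply_of_ne hj hi (Ne.symm hij)] at h2
  exact ofNat_ne (by omega) (by omega) (by omega) h2

theorem cy_ne_inv {m i j : ℕ} (hi : i < m) (hj : j < m) (hij : i ≠ j) : cy m j hj ≠ (cy m i hi)⁻¹ := by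
  intro h
  have h1 : cyc m j = (cyc m i)⁻¹ := congrArg Subtype.val h
  have h2 := cyc_apply_of_ne hj hi (Ne.symm hij)
  rw [h1, Perm.inv_eq_iff_eq, cyc_apply_self hi] at h2
  exact ofNat_ne (by omega) (by omega) (by omega) h2

theorem exists_conj {m : ℕ} (hm : 5 ≤ m) (e : MulAut (alternatingGroup (Fin (m + 2)))) :
    ∃ σ : Perm (Fin (m + 2)), ∀ x : alternatingGroup (Fin (m + 2)), (e x : Perm (Fin (m + 2))) = σ * x * σ⁻¹ := by
  classical
  -- the images of the Carmichael generators
  have hU : ∀ i (hi : i < m), (e (cy m i hi) : Perm (Fin (m + 2))).IsThreeCycle := fun i hi =>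
    isThreeCycle_map (by omega) e (isThreeCycle_cyc hi)
  have hne : ∀ i (hi : i < m) j (hj : j < m), i ≠ j →
      (e (cy m i hi) : Perm (Fin (m + 2))) ≠ e (cy m j hj) := fun i hi j hj hij h =>
    cy_ne hi hj hij (e.injective (Subtype.ext h))
  have hni : ∀ i (hi : i < m) j (hj : j < m), i ≠ j →
      (e (cy m j hj) : Perm (Fin (m + 2))) ≠ (e (cy m i hi) : Perm (Fin (m + 2)))⁻¹ := fun i hi j hj hij h =>
    cy_ne_inv hi hj hij (e.injective (Subtype.ext (by rw [h, map_inv]; rfl)))
  have hsq : ∀ i (hi : i < m) j (hj : j < m), i ≠ j →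
      ((e (cy m i hi) : Perm (Fin (m + 2))) * e (cy m j hj)) ^ 2 = 1 := fun i hi j hj hij => by
    have h := congrArg (fun x => (e x : Perm (Fin (m + 2)))) (cy_sq hi hj hij)
    simpa using h
  have harc : ∀ i (hi : i < m) j (hj : j < m), i ≠ j →
      ∃ r, (e (cy m i hi) : Perm (Fin (m + 2))) r = (e (cy m j hj) : Perm (Fin (m + 2))) r ∧
        (e (cy m i hi) : Perm (Fin (m + 2))) r ≠ r := fun i hi j hj hij =>
    exists_arc (hU i hi) (hU j hj) (hne i hi j hj hij) (hni i hi j hj hij) (hsq i hi j hj hij)
  have h0 : 0 < m := by omega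
  have h1 : 1 < m := by omega
  obtain ⟨q, hq, hq'⟩ := harc 0 h0 1 h1 (by omega)
  obtain ⟨p, hp⟩ : ∃ p, p = (e (cy m 0 h0) : Perm (Fin (m + 2))) q := ⟨_, rfl⟩
  have hpq : p ≠ q := by rw [hp]; exact hq'
  have hall : ∀ i (hi : i < m), (e (cy m i hi) : Perm (Fin (m + 2))) q = p := by
    intro i hi
    by_cases hi0 : i = 0
    · subst hi0; exact hp.symm
    by_cases hi1 : i = 1
    · subst hi1; rw [hp, hq]
    rw [hp]
    exact arc_of_three (hU 0 h0) (hU 1 h1) (hU i hi) (hne 0 h0 1 h1 (by omega)) hq' hq
      (harc 0 h0 i hi (Ne.symm hi0)) (harc 1 h1 i hi (Ne.symm hi1))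
  have hqm : ∀ i (hi : i < m), (e (cy m i hi) : Perm (Fin (m + 2))) q ≠ q := fun i hi => by
    rw [hall i hi]; exact hpq
  -- the third point
  have hcq : ∀ i (hi : i < m), (e (cy m i hi) : Perm (Fin (m + 2))) p ≠ q := fun i hi => by
    rw [← hall i hi]; exact apply_two_ne (hU i hi) (hqm i hi)
  have hcp : ∀ i (hi : i < m), (e (cy m i hi) : Perm (Fin (m + 2))) p ≠ p := fun i hi h => by
    apply hqm i hi
    rw [← hall i hi] at h
    exact (e (cy m i hi) : Perm (Fin (m + 2))).injective h
  have hcc : ∀ i (hi : i < m), (e (cy m i hi) : Perm (Fin (m + 2)))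
      ((e (cy m i hi) : Perm (Fin (m + 2))) p) = q := fun i hi => by
    rw [← hall i hi]; exact apply_three (hU i hi) q
  have hinj : ∀ i (hi : i < m) j (hj : j < m), i ≠ j →
      (e (cy m i hi) : Perm (Fin (m + 2))) p ≠ (e (cy m j hj) : Perm (Fin (m + 2))) p := by
    intro i hi j hj hij h
    apply hne i hi j hj hij
    apply eq_of_arc (hU i hi) (hU j hj) (hqm i hi)
    · rw [hall, hall]
    · rw [hall, hall]; exact h
  have hfix : ∀ i (hi : i < m) j (hj : j < m), i ≠ j →
      (e (cy m i hi) : Perm (Fin (m + 2))) ((e (cy m j hj) : Perm (Fin (m + 2))) p) =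
        (e (cy m j hj) : Perm (Fin (m + 2))) p := by
    intro i hi j hj hij
    apply apply_of_not (hU i hi) (hqm i hi)
    · exact hcq j hj
    · rw [hall]; exact hcp j hj
    · rw [hall]; exact (hinj i hi j hj hij).symm
  -- the permutation
  let f : Fin (m + 2) → Fin (m + 2) := fun x =>
    if h : x.val < m then (e (cy m x.val h) : Perm (Fin (m + 2))) p else if x.val = m then q else p
  have hf1 : ∀ i (hi : i < m), f (Fin.ofNat (m + 2) i) = (e (cy m i hi) : Perm (Fin (m + 2))) p := by
    intro i hi
    have hv : (Fin.ofNat (m + 2) i).val = i := ofNat_val (by omega)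
    have hlt : (Fin.ofNat (m + 2) i).val < m := by rw [hv]; exact hi
    change (if h : (Fin.ofNat (m + 2) i).val < m then
      (e (cy m (Fin.ofNat (m + 2) i).val h) : Perm (Fin (m + 2))) p else
        if (Fin.ofNat (m + 2) i).val = m then q else p) = _
    rw [dif_pos hlt]
    congr 3
    congr 1
  have hf2 : f (Fin.ofNat (m + 2) m) = q := by
    have hv : (Fin.ofNat (m + 2) m).val = m := ofNat_val (by omega)
    change (if h : (Fin.ofNat (m + 2) m).val < m then
      (e (cy m (Fin.ofNat (m + 2) m).val h) : Perm (Fin (m + 2))) p else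
        if (Fin.ofNat (m + 2) m).val = m then q else p) = _
    rw [dif_neg (by omega), if_pos hv]
  have hf3 : f (Fin.ofNat (m + 2) (m + 1)) = p := by
    have hv : (Fin.ofNat (m + 2) (m + 1)).val = m + 1 := ofNat_val (by omega)
    change (if h : (Fin.ofNat (m + 2) (m + 1)).val < m then
      (e (cy m (Fin.ofNat (m + 2) (m + 1)).val h) : Perm (Fin (m + 2))) p else
        if (Fin.ofNat (m + 2) (m + 1)).val = m then q else p) = _
    rw [dif_neg (by omega), if_neg (by omega)]
  have hcases : ∀ x : Fin (m + 2), (∃ i, i < m ∧ x = Fin.ofNat (m + 2) i) ∨ x = Fin.ofNat (m + 2) m ∨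
      x = Fin.ofNat (m + 2) (m + 1) := by
    intro x
    have hx := x.isLt
    rcases Nat.lt_or_ge x.val m with h | h
    · left; exact ⟨x.val, h, Fin.ext (ofNat_val hx).symm⟩
    rcases Nat.lt_or_ge x.val (m + 1) with h' | h'
    · right; left
      apply Fin.ext; rw [ofNat_val (by omega)]; omega
    · right; right
      apply Fin.ext; rw [ofNat_val (by omega)]; omega
  have hfi : Function.Injective f := by
    intro x y hxy
    rcases hcases x with ⟨i, hi, rfl⟩ | rfl | rfl <;> rcases hcases y with ⟨j, hj, rfl⟩ | rfl | rfl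
    · rw [hf1 i hi, hf1 j hj] at hxy
      by_contra hne'
      exact hinj i hi j hj (fun h => hne' (by rw [h])) hxy
    · rw [hf1 i hi, hf2] at hxy; exact absurd hxy (hcq i hi)
    · rw [hf1 i hi, hf3] at hxy; exact absurd hxy (hcp i hi)
    · rw [hf1 j hj, hf2] at hxy; exact absurd hxy.symm (hcq j hj)
    · rfl
    · rw [hf2, hf3] at hxy; exact absurd hxy.symm hpq
    · rw [hf1 j hj, hf3] at hxy; exact absurd hxy.symm (hcp j hj)
    · rw [hf2, hf3] at hxy; exact absurd hxy hpq
    · rfl
  let σ : Perm (Fin (m + 2)) := Equiv.ofBijective f (Finite.injective_iff_bijective.1 hfi)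
  have hσ : ∀ x, σ x = f x := fun x => rfl
  have hkey : ∀ i (hi : i < m), (e (cy m i hi) : Perm (Fin (m + 2))) = σ * cyc m i * σ⁻¹ := by
    intro i hi
    rw [eq_mul_inv_iff_mul_eq]
    ext1 x
    rw [Perm.mul_apply, Perm.mul_apply, hσ, hσ]
    rcases hcases x with ⟨j, hj, rfl⟩ | rfl | rfl
    · by_cases hij : i = j
      · subst hij
        rw [cyc_apply_self hi, hf1 i hi, hf2, hcc i hi]
      · rw [cyc_apply_of_ne hi hj hij, hf1 j hj, hfix i hi j hj hij]
    · rw [cyc_apply_m hi, hf2, hf3, hall i hi]
    · rw [cyc_apply_m_succ, hf3, hf1 i hi]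
  refine ⟨σ, fun x => ?_⟩
  have h := hom_ext (m := m) (by omega)
    (f := (alternatingGroup (Fin (m + 2))).subtype.comp e.toMonoidHom)
    (g := (MulAut.conj σ).toMonoidHom.comp (alternatingGroup (Fin (m + 2))).subtype)
    (fun i hi => hkey i hi)
  exact DFunLike.congr_fun h x

/-- the centraliser of the alternating group in the symmetric group is trivial -/
theorem eq_one_of_centralizes {m : ℕ} (hm : 2 ≤ m) {σ : Perm (Fin (m + 2))}
    (h : ∀ x : alternatingGroup (Fin (m + 2)), σ * x * σ⁻¹ = x) : σ = 1 := by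
  by_contra hne
  obtain ⟨a, ha⟩ : ∃ a, σ a ≠ a := by
    by_contra hcon
    push Not at hcon
    exact hne (Equiv.ext hcon)
  obtain ⟨c, hc⟩ : ∃ c, c ∉ ({a, σ a} : Finset (Fin (m + 2))) := by
    by_contra hcon
    push Not at hcon
    have h1 : (Finset.univ : Finset (Fin (m + 2))) ⊆ {a, σ a} := fun x _ => hcon x
    have h2 := Finset.card_le_card h1
    have h3 := Finset.card_le_two (a := a) (b := σ a)
    rw [Finset.card_univ, Fintype.card_fin] at h2
    omega
  obtain ⟨d, hd⟩ : ∃ d, d ∉ ({a, σ a, c} : Finset (Fin (m + 2))) := by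
    by_contra hcon
    push Not at hcon
    have h1 : (Finset.univ : Finset (Fin (m + 2))) ⊆ {a, σ a, c} := fun x _ => hcon x
    have h2 := Finset.card_le_card h1
    have h3 := Finset.card_le_three (a := a) (b := σ a) (c := c)
    rw [Finset.card_univ, Fintype.card_fin] at h2
    omega
  simp only [Finset.mem_insert, Finset.mem_singleton, not_or] at hc hd
  -- the three-cycle (a c d) does not move `σ a`
  have h3 : (swap a c * swap a d).IsThreeCycle :=
    isThreeCycle_swap_mul_swap_same (Ne.symm hc.1) (Ne.symm hd.1) (Ne.symm hd.2.2)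
  have h4 := h ⟨_, h3.mem_alternatingGroup⟩
  have h5 := congrArg (fun f : Perm (Fin (m + 2)) => f (σ a)) h4
  have h6 : σ⁻¹ (σ a) = a := by rw [Perm.inv_eq_iff_eq]
  simp only [Perm.mul_apply, h6] at h5
  rw [swap_apply_left, swap_apply_of_ne_of_ne hd.1 hd.2.2, swap_apply_of_ne_of_ne ha (Ne.symm hd.2.1),
    swap_apply_of_ne_of_ne ha (Ne.symm hc.2)] at h5
  exact hd.1 (σ.injective h5)

theorem conj_unique {m : ℕ} (hm : 2 ≤ m) {σ τ : Perm (Fin (m + 2))}
    (h : ∀ x : alternatingGroup (Fin (m + 2)), σ * x * σ⁻¹ = τ * x * τ⁻¹) : σ = τ := by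
  have h1 : τ⁻¹ * σ = 1 := by
    apply eq_one_of_centralizes hm
    intro x
    have h2 : τ⁻¹ * σ * x * (τ⁻¹ * σ)⁻¹ = τ⁻¹ * (σ * x * σ⁻¹) * τ := by group
    rw [h2, h x]; group
  rw [inv_mul_eq_one] at h1
  exact h1.symm

end main

/-- For `7 ≤ n`, the automorphism group of `A_n` maps to `S_n`, every automorphism being conjugation by its
image. -/
theorem exists_autHom (n : ℕ) (hn : 7 ≤ n) :
    ∃ ψ : MulAut (alternatingGroup (Fin n)) →* Equiv.Perm (Fin n), ∀ (e : MulAut (alternatingGroup (Fin n)))
      (x : alternatingGroup (Fin n)), ((e x : alternatingGroup (Fin n)) : Perm (Fin n)) = ψ e * x * (ψ e)⁻¹ := by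
  obtain ⟨m, rfl⟩ : ∃ m, n = m + 2 := ⟨n - 2, by omega⟩
  choose f hf using fun e => exists_conj (m := m) (by omega) e
  refine ⟨MonoidHom.mk' f fun a b => ?_, hf⟩
  apply conj_unique (m := m) (by omega)
  intro x
  rw [← hf (a * b) x, MulAut.mul_apply, hf a, hf b]
  group

theorem exists_autHom' (n : ℕ) (hn : n = 8 ∨ n = 11) :
    ∃ ψ : MulAut (alternatingGroup (Fin n)) →* Equiv.Perm (Fin n), ∀ (e : MulAut (alternatingGroup (Fin n)))
      (x : alternatingGroup (Fin n)), ((e x : alternatingGroup (Fin n)) : Perm (Fin n)) = ψ e * x * (ψ e)⁻¹ :=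
  exists_autHom n (by omega)

end Cfsg.Agent.StandardComponent.AltAut
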