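import Cfsg.Agent.SporRec.TwoAn
import Cfsg.Agent.Lib.Cores

/-!
# Double covers of alternating groups: conjugacy of involutions, odd cores, Sylow 2-subgroups

Complements to `Cfsg.Agent.SporRec.TwoAn.Cover`, for a cover `K` of the alternating group of `α`.
-/

set_option autoImplicit false

namespace Cfsg.Agent.StandardComponent.CoverExtra

open Equiv Cfsg.Agent.SporRec.TwoAn

variable {α : Type*} [Fintype α] [DecidableEq α]

/-- Involutions of the symmetric group moving the same positive number of points are conjugate by an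
even permutation. -/
theorem exists_even_conj {σ τ : Perm α} (hσ : σ * σ = 1) (hτ : τ * τ = 1) (h1 : σ ≠ 1)
    (hc : σ.support.card = τ.support.card) : ∃ ρ ∈ alternatingGroup α, ρ * σ * ρ⁻¹ = τ := by
  have : Fact (Nat.Prime 2) := ⟨Nat.prime_two⟩
  have e1 := Perm.cycleType_of_pow_prime_eq_one (σ := σ) (p := 2) (by rw [pow_two, hσ])
  have e2 := Perm.cycleType_of_pow_prime_eq_one (σ := τ) (p := 2) (by rw [pow_two, hτ])
  have s1 := σ.sum_cycleType
  have s2 := τ.sum_cycleType
  rw [e1, Multiset.sum_replicate, smul_eq_mul] at s1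
  rw [e2, Multiset.sum_replicate, smul_eq_mul] at s2
  have h3 : σ.cycleType.card = τ.cycleType.card := by omega
  have h4 : IsConj σ τ := Perm.isConj_of_cycleType_eq (by rw [e1, e2, h3])
  obtain ⟨ρ, hρ⟩ := isConj_iff.1 h4
  obtain ⟨a, ha⟩ : ∃ a, σ a ≠ a := by
    by_contra h
    push Not at h
    exact h1 (Perm.ext h)
  rcases Int.units_eq_one_or (Perm.sign ρ) with hs | hs
  · exact ⟨ρ, Perm.mem_alternatingGroup.2 hs, hρ⟩
  · refine ⟨ρ * swap a (σ a), ?_, ?_⟩
    · rw [Perm.mem_alternatingGroup, map_mul, hs, Perm.sign_swap ha.symm]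
      decide
    · have hσσ : σ (σ a) = a := by
        have := congrArg (fun f : Perm α => f a) hσ
        simpa using this
      have h5 : swap a (σ a) * σ * (swap a (σ a))⁻¹ = σ := by
        rw [mul_inv_eq_iff_eq_mul, Equiv.swap_comm a (σ a)]
        have h6 := Equiv.swap_mul_eq_mul_swap σ (σ a) a
        rw [show σ⁻¹ a = σ a by rw [Perm.inv_eq_iff_eq, hσσ], show σ⁻¹ (σ a) = a by
          rw [Perm.inv_eq_iff_eq]] at h6
        rw [h6, Equiv.swap_comm a (σ a)]
      calc ρ * swap a (σ a) * σ * (ρ * swap a (σ a))⁻¹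
          = ρ * (swap a (σ a) * σ * (swap a (σ a))⁻¹) * ρ⁻¹ := by group
        _ = τ := by rw [h5, hρ]

variable {C : Type*} [Group C] (K : Cover α C)

/-- Elements over involutions moving the same positive number of points are conjugate. -/
theorem exists_conj {g h : C} (hg : K.π g * K.π g = 1) (hh : K.π h * K.π h = 1) (h1 : K.π g ≠ 1)
    (hc : (K.π g).support.card = (K.π h).support.card) : ∃ w, w * g * w⁻¹ = h := by
  obtain ⟨ρ, hρ, e⟩ := exists_even_conj hg hh h1 hc
  obtain ⟨w, rfl⟩ := K.exists_lift hρ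
  rw [← map_mul, ← map_inv, ← map_mul] at e
  rcases K.lift_eq e with h2 | h2
  · exact ⟨w, h2⟩
  · have hh1 : K.π h ≠ 1 := by
      intro h3
      apply h1
      rw [h3, Perm.support_one, Finset.card_empty, Finset.card_eq_zero,
        Perm.support_eq_empty_iff] at hc
      exact hc
    obtain ⟨v, hv⟩ := K.exists_conj_mul_z hh hh1
    refine ⟨v * w, ?_⟩
    calc v * w * g * (v * w)⁻¹ = v * (w * g * w⁻¹) * v⁻¹ := by group
      _ = v * (h * K.z) * v⁻¹ := by rw [h2]
      _ = (v * h * v⁻¹) * (v * K.z * v⁻¹) := by group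
      _ = h * K.z * K.z := by rw [hv, K.z_comm v, mul_inv_cancel_right]
      _ = h := by rw [mul_assoc, K.z_mul_z, mul_one]

/-- On fewer than sixteen points the non-central involutions form a single class. -/
theorem exists_conj_of_card_lt (hα : Fintype.card α < 16) {g h : C} (hg : g * g = 1)
    (hh : h * h = 1) (hg1 : K.π g ≠ 1) (hh1 : K.π h ≠ 1) : ∃ w, w * g * w⁻¹ = h := by
  have key : ∀ x : C, x * x = 1 → K.π x ≠ 1 → (K.π x).support.card = 8 := by
    intro x hx hx1
    obtain ⟨-, k, hk⟩ := K.sq_eq_one_iff.1 hx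
    have h2 : (K.π x).support.card ≤ Fintype.card α := Finset.card_le_univ _
    have h3 : (K.π x).support.card ≠ 0 := by
      rw [Ne, Finset.card_eq_zero, Perm.support_eq_empty_iff]
      exact hx1
    omega
  exact exists_conj K (K.sq_eq_one_iff.1 hg).1 (K.sq_eq_one_iff.1 hh).1 hg1
    (by rw [key g hg hg1, key h hh hh1])

/-- A non-central element over an involution does not centralise a Sylow 2-subgroup. -/
theorem not_commute_sylow [Finite C] (P : Subgroup C) (hP : Odd P.index) {t : C}
    (ht : K.π t * K.π t = 1) (h1 : K.π t ≠ 1) : ¬ ∀ x ∈ P, x * t = t * x := by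
  intro hx
  obtain ⟨w, hw⟩ := K.exists_conj_mul_z ht h1
  -- `U` is the stabiliser of `{t, t z}`, `T` the centraliser of `t`
  let U : Subgroup C :=
    { carrier := {g | g * t * g⁻¹ = t ∨ g * t * g⁻¹ = t * K.z}
      mul_mem' := by
        intro a b ha hb
        have e : ∀ y : C, a * b * y * (a * b)⁻¹ = a * (b * y * b⁻¹) * a⁻¹ := fun y => by group
        have e2 : a * (t * K.z) * a⁻¹ = (a * t * a⁻¹) * K.z := by
          rw [mul_assoc a, mul_assoc t, ← K.z_comm a⁻¹]; group
        show _ ∨ _
        rw [e]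
        rcases hb with hb | hb
        · rw [hb]; exact ha
        · rw [hb, e2]
          rcases ha with ha | ha
          · rw [ha]; exact Or.inr rfl
          · rw [ha, mul_assoc, K.z_mul_z, mul_one]; exact Or.inl rfl
      one_mem' := Or.inl (by rw [one_mul, inv_one, mul_one])
      inv_mem' := by
        intro a ha
        show _ ∨ _
        rw [inv_inv]
        rcases ha with ha | ha
        · left
          rw [mul_inv_eq_iff_eq_mul] at ha
          rw [mul_assoc, ← ha, inv_mul_cancel_left]
        · right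
          rw [mul_inv_eq_iff_eq_mul] at ha
          have h3 : a * (t * K.z) = t * a := by
            calc a * (t * K.z) = a * t * K.z := by group
              _ = t * K.z * a * K.z := by rw [ha]
              _ = t * (a * K.z) * K.z := by rw [K.z_comm a]; group
              _ = t * a * (K.z * K.z) := by group
              _ = t * a := by rw [K.z_mul_z, mul_one]
          rw [mul_assoc, ← h3, inv_mul_cancel_left] }
  have hwU : w ∈ U := Or.inr hw
  let T : Subgroup C := Subgroup.centralizer {t}
  have hT : ∀ g, g ∈ T ↔ g * t * g⁻¹ = t := fun g => by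
    rw [Subgroup.mem_centralizer_singleton_iff, mul_inv_eq_iff_eq_mul]
  have hTU : T ≤ U := fun g hg => Or.inl ((hT g).1 hg)
  have hPT : P ≤ T := fun x hxP => Subgroup.mem_centralizer_singleton_iff.2 (hx x hxP)
  have hrel : T.relIndex U = 2 := by
    rw [Subgroup.relIndex, Subgroup.index_eq_two_iff]
    refine ⟨⟨w, hwU⟩, ?_⟩
    rintro ⟨b, hb⟩
    have hz1 : t * K.z ≠ t := K.mul_z_ne t
    have e3 : b * w * t * (b * w)⁻¹ = b * t * b⁻¹ * K.z := by
      calc b * w * t * (b * w)⁻¹ = b * (w * t * w⁻¹) * b⁻¹ := by group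
        _ = b * t * (K.z * b⁻¹) := by rw [hw]; group
        _ = b * t * b⁻¹ * K.z := by rw [← K.z_comm b⁻¹]; group
    rw [Subgroup.mem_subgroupOf, Subgroup.mem_subgroupOf]
    show Xor (b * w ∈ T) (b ∈ T)
    rw [hT, hT, e3]
    rcases hb with hb | hb
    · rw [hb]
      exact Or.inr ⟨rfl, hz1⟩
    · rw [hb, mul_assoc, K.z_mul_z, mul_one]
      exact Or.inl ⟨rfl, hz1⟩
  have h5 : T.index = 2 * U.index := by
    rw [← Subgroup.relIndex_mul_index hTU, hrel]
  have h6 : T.index ∣ P.index := Subgroup.index_dvd_of_le hPT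
  rw [h5] at h6
  have h7 : 2 ∣ P.index := (Dvd.intro _ rfl).trans h6
  exact (Nat.not_even_iff_odd.2 hP) (even_iff_two_dvd.2 h7)

include K in
/-- A double cover of an alternating group of degree at least five has no non-trivial normal
subgroup of odd order. -/
theorem odd_normal_eq_bot [Finite C] (hα : 5 ≤ Fintype.card α) (N : Subgroup C) (hN : N.Normal)
    (hodd : Odd (Nat.card N)) : N = ⊥ := by
  have hsimple : IsSimpleGroup (alternatingGroup α) :=
    alternatingGroup.isSimpleGroup (by rwa [Nat.card_eq_fintype_card])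
  have hodd2 : ∀ x ∈ N, Odd (orderOf x) := fun x hx => by
    have h1 := orderOf_dvd_natCard (⟨x, hx⟩ : N)
    rw [Subgroup.orderOf_mk] at h1
    exact Odd.of_dvd_nat hodd h1
  let f : C →* alternatingGroup α := K.π.codRestrict (alternatingGroup α) K.mem_alternating
  have hf : Function.Surjective f := by
    rintro ⟨σ, hσ⟩
    obtain ⟨g, rfl⟩ := K.exists_lift hσ
    exact ⟨g, rfl⟩
  have hNf : (N.map f).Normal := hN.map f hf
  have h2 : N.map f ≠ ⊤ := by
    intro htop
    -- an element of order two of the alternating group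
    obtain ⟨e⟩ : Nonempty (Fin 4 ↪ α) := Function.Embedding.nonempty_of_card_le (by
      rw [Fintype.card_fin]; omega)
    have hne : ∀ i j : Fin 4, i ≠ j → e i ≠ e j := fun i j h h' => h (e.injective h')
    have hmem : swap (e 0) (e 1) * swap (e 2) (e 3) ∈ alternatingGroup α :=
      Cover.swap_mul_swap_mem _ _ _ _ (hne _ _ (by decide)) (hne _ _ (by decide))
    have h3 : (⟨_, hmem⟩ : alternatingGroup α) ∈ N.map f := by rw [htop]; trivial
    obtain ⟨x, hx, hxf⟩ := h3
    have h4 : K.π x = swap (e 0) (e 1) * swap (e 2) (e 3) := congrArg Subtype.val hxf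
    have h5 : x * x = K.z := K.dbl _ _ _ _ (hne _ _ (by decide)) (hne _ _ (by decide))
      (hne _ _ (by decide)) (hne _ _ (by decide)) (hne _ _ (by decide)) (hne _ _ (by decide)) x h4
    have h6 := hodd2 K.z (by rw [← h5]; exact N.mul_mem hx hx)
    rw [K.orderOf_z] at h6
    exact absurd h6 (by decide)
  have h3 : N.map f = ⊥ := (hNf.eq_bot_or_eq_top).resolve_right h2
  rw [Subgroup.eq_bot_iff_forall]
  intro x hx
  have h4 : f x = 1 := by
    have : f x ∈ N.map f := ⟨x, hx, rfl⟩
    rw [h3] at this
    exact Subgroup.mem_bot.1 this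
  have h5 : K.π x = 1 := congrArg Subtype.val h4
  rcases (K.ker x).1 h5 with h6 | h6
  · exact h6
  · exfalso
    have h7 := hodd2 x hx
    rw [h6, K.orderOf_z] at h7
    exact absurd h7 (by decide)

include K in
/-- The order of a double cover of an alternating group. -/
theorem card_eq [Finite C] (hα : 2 ≤ Fintype.card α) : Nat.card C = (Fintype.card α).factorial := by
  have : Nontrivial α := Fintype.one_lt_card_iff_nontrivial.1 hα
  have h1 := K.π.ker.card_mul_index
  have h2 : Nat.card K.π.ker = 2 := by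
    have h3 : (K.π.ker : Set C) = {1, K.z} := by
      ext x
      rw [Set.mem_insert_iff, Set.mem_singleton_iff, SetLike.mem_coe, MonoidHom.mem_ker]
      exact K.ker x
    rw [← SetLike.coe_sort_coe, h3, Nat.card_coe_set_eq, Set.ncard_pair K.z_ne.symm]
  have h3 : K.π.ker.index = Nat.card (alternatingGroup α) := by
    rw [Subgroup.index_ker, K.range_eq]
  have h4 := two_mul_nat_card_alternatingGroup (α := α)
  rw [h2, h3, h4, Nat.card_perm, Nat.card_eq_fintype_card] at h1
  exact h1.symm

end Cfsg.Agent.StandardComponent.CoverExtra
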