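import Cfsg.Agent.StandardComponent.AltMain

/-!
# Standard components of type `2.A_n`: summary of the fusion results
-/

set_option autoImplicit false

namespace Cfsg.Agent.StandardComponent.AltIface

open Equiv Cfsg.Agent.StandardComponent

variable {G : Type*} [Group G] {n : ℕ} {z : G}

theorem pair (S : AltStd G n z) (g : G) (h : g * z * g⁻¹ * z = z * (g * z * g⁻¹)) (hne : g * z * g⁻¹ ≠ z) :
    S.Pair (S.conj g) := ⟨h.symm, hne.symm, g, rfl⟩

/-- Conjugates of `z` commuting with `z` lie in the component. -/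
theorem inL (S : AltStd G n z) (hn : 8 ≤ n) (hn' : n < 16) (g : G) (h : g * z * g⁻¹ * z = z * (g * z * g⁻¹)) :
    g * z * g⁻¹ ∈ S.L := by
  by_cases hne : g * z * g⁻¹ = z
  · rw [hne]; exact S.z_mem
  · exact (pair S g h hne).mem_L hn hn'

/-- The involution `z` is the only one centralizing the component. -/
theorem eq_one_or (S : AltStd G n z) (hn : 8 ≤ n) (hn' : n < 16) (g : G) (h : g * z * g⁻¹ * z = z * (g * z * g⁻¹))
    (hne : g * z * g⁻¹ ≠ z) (k : G) (hk : ∀ x ∈ S.L, k * x = x * k) (hk2 : k * k = 1) : k = 1 ∨ k = z :=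
  (pair S g h hne).eq_z_of_sq hn hn' hk (hk _ (inL S hn hn' g h)) hk2

/-- `z` is not a square in the centralizer of the component. -/
theorem sq_ne (S : AltStd G n z) (hn : 8 ≤ n) (hn' : n < 16) (g : G) (h : g * z * g⁻¹ * z = z * (g * z * g⁻¹))
    (hne : g * z * g⁻¹ ≠ z) (k : G) (hk : ∀ x ∈ S.L, k * x = x * k) : k * k ≠ z :=
  (pair S g h hne).symm.sq_ne hn hn' hk

/-- The 2-elements of the centralizer of the component are `1` and `z`. -/
theorem eq_one_or_of_pow (S : AltStd G n z) (hn : 8 ≤ n) (hn' : n < 16) (g : G)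
    (h : g * z * g⁻¹ * z = z * (g * z * g⁻¹)) (hne : g * z * g⁻¹ ≠ z) (k : G) (hk : ∀ x ∈ S.L, k * x = x * k)
    {m : ℕ} (hm : k ^ 2 ^ m = 1) : k = 1 ∨ k = z :=
  (pair S g h hne).eq_one_or_eq_z hn hn' hk hm

/-- Elements of odd order centralizing `L` fix the points moved by `z` in the action on the component of a commuting
conjugate. -/
theorem fixSupp (S : AltStd G n z) (hn : 8 ≤ n) (hn' : n < 16) (g : G) (h : g * z * g⁻¹ * z = z * (g * z * g⁻¹))
    (hne : g * z * g⁻¹ ≠ z) (y : G) (hy : ∀ x ∈ S.L, y * x = x * y) (hodd : Odd (orderOf y)) (i : Fin n)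
    (hi : (S.conj g).φ z i ≠ i) : (S.conj g).φ y i = i :=
  (pair S g h hne).fix_of_odd hn hn' hy hodd (pow_orderOf_eq_one y) hi

/-- The support of `z` in the action on the component of a commuting conjugate has 8 points. -/
theorem card_support (S : AltStd G n z) (hn : 8 ≤ n) (hn' : n < 16) (g : G)
    (h : g * z * g⁻¹ * z = z * (g * z * g⁻¹)) (hne : g * z * g⁻¹ ≠ z) : ((S.conj g).φ z).support.card = 8 :=
  (pair S g h hne).card_support hn hn'

/-- The support of a commuting conjugate in the action on the component of `z` has 8 points. -/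
theorem card_support' (S : AltStd G n z) (hn : 8 ≤ n) (hn' : n < 16) (g : G)
    (h : g * z * g⁻¹ * z = z * (g * z * g⁻¹)) (hne : g * z * g⁻¹ ≠ z) : (S.φ (g * z * g⁻¹)).support.card = 8 :=
  (pair S g h hne).symm.card_support hn hn'

end Cfsg.Agent.StandardComponent.AltIface
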