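import Cfsg.Agent.StandardComponent.AltClose
import Cfsg.Agent.StandardComponent.AltIface
import Cfsg.Agent.StandardComponent.AltExists
import Cfsg.Agent.S0215

/-!
# Standard subgroups which are double covers of `A_n`, `8 ≤ n < 16`, in simple groups

In a finite simple group a standard subgroup `L = 2.A_n`, `8 ≤ n < 16`, is the centralizer of the involution in its
centre.
-/

set_option autoImplicit false

namespace Cfsg.Agent.StandardComponent.AltFinal

open Cfsg

/-- In a non-abelian simple group an involution commutes with a conjugate different from it. -/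
theorem exists_conj {G : Type*} [Group G] [Finite G] [IsSimpleGroup G] (hna : ¬ IsMulCommutative G) {z : G}
    (hz : orderOf z = 2) : ∃ g : G, g * z * g⁻¹ ≠ z ∧ g * z * g⁻¹ * z = z * (g * z * g⁻¹) := by
  have : Fact (Nat.Prime 2) := ⟨Nat.prime_two⟩
  by_contra hcon
  push Not at hcon
  -- a Sylow 2-subgroup of the centralizer of `z`, extended to one of `G`, centralizes a central involution; we use a
  -- Sylow 2-subgroup of `G` containing `z`
  have hzz : z * z = 1 := by rw [← pow_two, ← hz, pow_orderOf_eq_one]
  have hzp : IsPGroup 2 (Subgroup.zpowers z) := IsPGroup.of_card (n := 1) (by rw [Nat.card_zpowers, hz, pow_one])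
  obtain ⟨P, hP⟩ := hzp.exists_le_sylow
  have hzP : z ∈ P := hP (Subgroup.mem_zpowers z)
  -- `z` is central in `P`: otherwise a conjugate of `z` in its normalizer would commute with `z`
  have hcen : ∀ x ∈ P, x * z = z * x := by
    by_contra hx
    push Not at hx
    -- the centralizer of `z` in `P` is proper
    set C : Subgroup P := Subgroup.centralizer {(⟨z, hzP⟩ : P)} with hC
    have hCtop : C ≠ ⊤ := by
      intro h
      obtain ⟨x, hxP, hxz⟩ := hx
      have h1 : (⟨x, hxP⟩ : P) ∈ C := by rw [h]; trivial
      exact hxz (congrArg Subtype.val (Subgroup.mem_centralizer_singleton_iff.1 h1))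
    have hnil : Group.IsNilpotent P := P.2.isNilpotent
    have hlt : C < Subgroup.normalizer (C : Set P) :=
      Group.normalizerCondition_of_isNilpotent C (lt_top_iff_ne_top.2 hCtop)
    obtain ⟨y, hy, hyC⟩ := Set.exists_of_ssubset hlt
    have h1 : y * ⟨z, hzP⟩ * y⁻¹ ∈ C := (Subgroup.mem_normalizer_iff.1 hy _).1
      (Subgroup.mem_centralizer_singleton_iff.2 rfl)
    have h2 := Subgroup.mem_centralizer_singleton_iff.1 h1
    have h3 : (y : G) * z * (y : G)⁻¹ * z = z * (y * z * (y : G)⁻¹) := congrArg Subtype.val h2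
    by_cases h4 : (y : G) * z * (y : G)⁻¹ = z
    · apply hyC
      refine Subgroup.mem_centralizer_singleton_iff.2 (Subtype.ext ?_)
      rwa [mul_inv_eq_iff_eq_mul] at h4
    · exact hcon y h4 h3
  obtain ⟨N, hN, hNodd, hNz⟩ := Cfsg.Agent.S0215.result P z hz hzP (by
    intro g hg
    by_contra hne
    exact hcon g hne (hcen _ hg))
  have hN1 : N = ⊥ := by
    rcases hN.eq_bot_or_eq_top with h | h
    · exact h
    · exfalso
      have h1 := orderOf_dvd_natCard z
      rw [h, Subgroup.card_top] at hNodd
      rw [hz] at h1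
      exact (Nat.not_even_iff_odd.2 hNodd) (even_iff_two_dvd.2 h1)
  have hzc : z ∈ Subgroup.center G := by
    rw [Subgroup.mem_center_iff]
    intro g
    have h1 := hNz g
    rw [hN1, Subgroup.mem_bot, mul_inv_eq_one, mul_inv_eq_iff_eq_mul] at h1
    exact h1.symm
  have hcent : Subgroup.center G = ⊤ := by
    rcases (inferInstance : (Subgroup.center G).Normal).eq_bot_or_eq_top with h | h
    · exfalso
      rw [h, Subgroup.mem_bot] at hzc
      rw [hzc, orderOf_one] at hz
      exact absurd hz (by decide)
    · exact h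
  apply hna
  refine ⟨⟨fun a b => ?_⟩⟩
  have h1 : b ∈ Subgroup.center G := by rw [hcent]; trivial
  exact (Subgroup.mem_center_iff.1 h1 a)

/-- A standard subgroup `2.A_n`, `8 ≤ n < 16`, of a simple group is the centralizer of its central involution. -/
theorem exists_centralizer_eq {G : Type*} [Group G] [Finite G] [IsSimpleGroup G] (hna : ¬ IsMulCommutative G)
    (hSE : ∀ H : Subgroup G, IsStronglyEmbedded H → (oddCore H).map H.subtype ≤ oddCore G)
    (L : Subgroup G) (hL : IsStandardSubgroup L) {n : ℕ} (hn : 8 ≤ n) (hn' : n < 16)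
    (hLX : IsNonsplitDoubleCover ↥L ↥(alternatingGroup (Fin n))) :
    ∃ z : G, orderOf z = 2 ∧ Subgroup.centralizer ({z} : Set G) = L := by
  obtain ⟨z, S, rfl⟩ := AltExists.exists_altStd L hL (by omega) hLX
  have hz : orderOf z = 2 := orderOf_eq_prime (by rw [pow_two, S.z_sq]) S.z_ne
  obtain ⟨g, hg1, hg2⟩ := exists_conj hna hz
  refine ⟨z, hz, ?_⟩
  refine AltClose.centralizer_eq (by omega) hn' hSE ?_ ?_ S ⟨?_, ?_⟩ ⟨g, hg1, hg2⟩
  · intro z S g h
    exact AltIface.inL S hn hn' g h
  · intro z S g h hne y hy ho i hi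
    exact AltIface.fixSupp S hn hn' g h hne y hy ho i hi
  · exact AltIface.eq_one_or S hn hn' g hg2 hg1
  · exact AltIface.sq_ne S hn hn' g hg2 hg1

end Cfsg.Agent.StandardComponent.AltFinal
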