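import Cfsg.Agent.StdAlt.First

/-!
# Good pairs do not exist when the local lemma holds

`Loc Y`: for subgroups `J ≤ B` of `Y` with `[C(a), B] ≤ J` for the involutions `a` of `B` and `4 ∣ |B|`, the
subgroup `J` is all of `Y`, or `J = B` is abelian and not centralized by the centralizer of one of its
involutions.
-/

set_option autoImplicit false

namespace Cfsg.Agent.StandardComponent.FiRedPair

open Subgroup Cfsg.Agent.StdAlt.Conj Cfsg.Agent.StdAlt.Pairs

/-- The hypothesis on `J ≤ B`. -/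
structure Hyp {X : Type*} [Group X] (J B : Subgroup X) : Prop where
  le : J ≤ B
  com : ∀ a ∈ B, a ≠ 1 → a * a = 1 → ∀ x, x * a = a * x → ∀ β ∈ B, x * β * x⁻¹ * β⁻¹ ∈ J

/-- the exceptional case -/
def Spec {X : Type*} [Group X] (J B : Subgroup X) : Prop :=
  B ≤ J ∧ (∀ x ∈ B, ∀ y ∈ B, x * y = y * x) ∧
    ∃ i ∈ B, i ≠ 1 ∧ i * i = 1 ∧ ∃ h, h * i = i * h ∧ ∃ β ∈ B, h * β ≠ β * h

/-- the local lemma -/
def Loc (Y : Type*) [Group Y] : Prop :=
  ∀ J B : Subgroup Y, Hyp J B → 4 ∣ Nat.card B → J = ⊤ ∨ Spec J B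

variable {G : Type*} [Group G]

/-- the image of `C A ⊓ N B` in `B` -/
def proj (A B : Subgroup G) : Subgroup G where
  carrier := {x | x ∈ B ∧ ∃ k ∈ C B, x * k ∈ C A}
  one_mem' := ⟨B.one_mem, 1, one_mem _, by rw [mul_one]; exact one_mem _⟩
  mul_mem' := by
    rintro x y ⟨hx, k, hk, hxk⟩ ⟨hy, l, hl, hyl⟩
    refine ⟨B.mul_mem hx hy, k * l, mul_mem hk hl, ?_⟩
    have := mul_mem hxk hyl
    rwa [show x * k * (y * l) = x * (k * y) * l by group, comm_of_C hk hy,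
      show x * (y * k) * l = x * y * (k * l) by group] at this
  inv_mem' := by
    rintro x ⟨hx, k, hk, hxk⟩
    refine ⟨B.inv_mem hx, k⁻¹, inv_mem hk, ?_⟩
    have := inv_mem hxk
    rwa [mul_inv_rev, comm_of_C (inv_mem hk) (B.inv_mem hx)] at this

theorem mem_proj {A B : Subgroup G} {x : G} :
    x ∈ proj A B ↔ x ∈ B ∧ ∃ k ∈ C B, x * k ∈ C A := Iff.rfl

variable {A B : Subgroup G}

/-- involutions of `proj` come from involutions of `C A` -/
theorem exists_inv [Finite G] (hA : TE A) (hB : TE B) (hcj : Cj A B) (hne : A ≠ B) {a : G}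
    (ha : a ∈ proj A B) (ha1 : a ≠ 1) (haa : a * a = 1) :
    ∃ l ∈ C B, a * l ∈ C A ∧ a * l ≠ 1 ∧ a * l * (a * l) = 1 := by
  obtain ⟨haB, k, hk, hak⟩ := ha
  have hka : k * a = a * k := comm_of_C hk haB
  have hkk : k * k ∈ C A := by
    have := mul_mem hak hak
    rwa [show a * k * (a * k) = a * (k * a) * k by group, hka,
      show a * (a * k) * k = (a * a) * (k * k) by group, haa, one_mul] at this
  have hkkB : k * k ∈ C B := mul_mem hk hk
  have hodd : Odd (orderOf (k * k)) := by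
    rw [← Nat.not_even_iff_odd]
    intro hev
    obtain ⟨m, hm⟩ := hev.two_dvd
    have hpos : 0 < orderOf (k * k) := orderOf_pos _
    have hm0 : m ≠ 0 := by
      rintro rfl
      omega
    have h1 : orderOf ((k * k) ^ m) = 2 := by
      rw [orderOf_pow' _ hm0, hm, Nat.gcd_eq_right (Dvd.intro_left 2 rfl),
        Nat.mul_div_cancel _ (Nat.pos_of_ne_zero hm0)]
    refine hne (hA.eq_of_mem hcj (k := (k * k) ^ m) ?_ ?_ (pow_mem hkk m) (pow_mem hkkB m))
    · intro e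
      rw [e, orderOf_one] at h1
      exact absurd h1 (by norm_num)
    · rw [← sq, ← h1]; exact pow_orderOf_eq_one _
  obtain ⟨m, hm⟩ := hodd
  refine ⟨k ^ (2 * m + 1), pow_mem hk _, ?_, ?_, ?_⟩
  · have h1 : a * k ^ (2 * m + 1) = (a * k) ^ (2 * m + 1) := by
      have hc : Commute a k := hka.symm
      have h2 : a ^ (2 * m + 1) = a := by rw [pow_succ, pow_mul, sq, haa, one_pow, one_mul]
      rw [hc.mul_pow, h2]
    rw [h1]
    exact pow_mem hak _
  · intro e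
    apply ha1
    have h1 : a = (k ^ (2 * m + 1))⁻¹ := eq_inv_of_mul_eq_one_left e
    exact hB.disj a haB (h1 ▸ inv_mem (pow_mem hk _))
  · have hc : Commute a (k ^ (2 * m + 1)) := (show Commute a k from hka.symm).pow_right _
    rw [← sq, hc.mul_pow, sq a, haa, one_mul, ← pow_mul, mul_comm, pow_mul, sq k, ← hm]
    exact pow_orderOf_eq_one _

theorem com_proj [Finite G] (hA : TE A) (hB : TE B) (hcj : Cj A B) (hne : A ≠ B) {a : G}
    (ha : a ∈ proj A B) (ha1 : a ≠ 1) (haa : a * a = 1) {x : G} (hx : x ∈ B) (hxa : x * a = a * x)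
    {β : G} (hβ : β ∈ proj A B) : x * β * x⁻¹ * β⁻¹ ∈ C A := by
  obtain ⟨l, hl, h1, h2, h3⟩ := exists_inv hA hB hcj hne ha ha1 haa
  have hxN : x ∈ N A := by
    apply hA.nrm h1 h2 h3
    rw [← mul_assoc, hxa, mul_assoc, ← comm_of_C hl hx, mul_assoc]
  obtain ⟨hβB, k, hk, hβk⟩ := hβ
  have h4 := mul_mem (conj_mem_C hxN hβk) (inv_mem hβk)
  have h5 : x * (β * k) * x⁻¹ * (β * k)⁻¹ = x * β * x⁻¹ * β⁻¹ := by
    have e1 : x * (β * k) * x⁻¹ * (β * k)⁻¹ = x * β * (k * x⁻¹) * k⁻¹ * β⁻¹ := by group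
    rw [e1, comm_of_C hk (B.inv_mem hx)]
    group
  rwa [h5] at h4

/-- the order of `proj` -/
theorem four_dvd_proj [Finite G] (hA : TE A) (hB : TE B) (hcj : Cj A B) (hne : A ≠ B)
    (hinn : ∀ g ∈ N B, ∃ b ∈ B, b⁻¹ * g ∈ C B) (h4 : 4 ∣ Nat.card ↥(C A ⊓ N B)) :
    4 ∣ Nat.card (proj A B) := by
  choose! f hfB hfC using hinn
  have huniq : ∀ g ∈ N B, ∀ b ∈ B, b⁻¹ * g ∈ C B → b = f g := by
    intro g hg b hb hbg
    have h1 : b⁻¹ * f g ∈ C B := by
      have := mul_mem hbg (inv_mem (hfC g hg))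
      rwa [show b⁻¹ * g * ((f g)⁻¹ * g)⁻¹ = b⁻¹ * f g by group] at this
    exact inv_mul_eq_one.1 (hB.disj _ (B.mul_mem (B.inv_mem hb) (hfB g hg)) h1)
  let φ : ↥(C A ⊓ N B) →* G := MonoidHom.mk' (fun g => f g) (by
    intro g h
    symm
    apply huniq _ (mul_mem g.2.2 h.2.2) _ (B.mul_mem (hfB g g.2.2) (hfB h h.2.2))
    have h1 := hfC g g.2.2
    have h2 := hfC h h.2.2
    have e1 : (f g * f h)⁻¹ * ((g : G) * h) = ((f h)⁻¹ * ((f g)⁻¹ * g)) * h := by group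
    rw [e1, ← comm_of_C h1 (B.inv_mem (hfB h h.2.2)), mul_assoc]
    exact mul_mem h1 h2)
  have hrange : φ.range = proj A B := by
    ext x
    constructor
    · rintro ⟨g, rfl⟩
      refine ⟨hfB g g.2.2, (f g)⁻¹ * g, hfC g g.2.2, ?_⟩
      show f g * ((f g)⁻¹ * (g : G)) ∈ C A
      rw [mul_inv_cancel_left]
      exact g.2.1
    · rintro ⟨hx, k, hk, hxk⟩
      have hN : x * k ∈ N B := mul_mem (le_N hx) (C_le_N hk)
      refine ⟨⟨x * k, hxk, hN⟩, ?_⟩
      exact (huniq _ hN x hx (by rw [inv_mul_cancel_left]; exact hk)).symm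
  have hker : Odd (Nat.card φ.ker) := by
    rw [← Nat.not_even_iff_odd]
    intro hev
    obtain ⟨x, hx⟩ := exists_prime_orderOf_dvd_card' (G := φ.ker) 2 hev.two_dvd
    have ho : orderOf (((x : ↥(C A ⊓ N B)) : G)) = 2 := by
      rw [Subgroup.orderOf_coe, Subgroup.orderOf_coe]; exact hx
    have hxB : ((x : ↥(C A ⊓ N B)) : G) ∈ C B := by
      have h1 := hfC _ (x : ↥(C A ⊓ N B)).2.2
      have h2 : f ((x : ↥(C A ⊓ N B)) : G) = 1 := x.2
      rwa [h2, inv_one, one_mul] at h1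
    refine hne (hA.eq_of_mem hcj (k := ((x : ↥(C A ⊓ N B)) : G)) ?_ ?_
      (x : ↥(C A ⊓ N B)).2.1 hxB)
    · intro e
      rw [e, orderOf_one] at ho
      exact absurd ho (by norm_num)
    · rw [← sq, ← ho]; exact pow_orderOf_eq_one _
  have hcard := φ.ker.card_mul_index
  rw [Subgroup.index_ker, hrange] at hcard
  rw [← hcard] at h4
  have hcop : Nat.Coprime 4 (Nat.card φ.ker) := by
    rw [show (4 : ℕ) = 2 ^ 2 by norm_num]
    exact Nat.Coprime.pow_left 2 (Nat.coprime_two_left.2 hker)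
  exact hcop.dvd_of_dvd_mul_left h4

/-- one side of a pair -/
theorem side [Finite G] (hA : TE A) (hB : TE B) (hcj : Cj A B) (hne : A ≠ B)
    (hinn : ∀ g ∈ N B, ∃ b ∈ B, b⁻¹ * g ∈ C B) (hloc : Loc B) (h4 : 4 ∣ Nat.card ↥(C A ⊓ N B)) :
    B ≤ C A ∨ Spec ((C A).subgroupOf B) ((proj A B).subgroupOf B) := by
  have hle : proj A B ≤ B := fun x hx => hx.1
  have hH : Hyp ((C A).subgroupOf B) ((proj A B).subgroupOf B) := by
    refine ⟨?_, ?_⟩
    · intro x hx
      rw [mem_subgroupOf] at hx ⊢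
      exact ⟨x.2, 1, one_mem _, by rw [mul_one]; exact hx⟩
    · intro a ha ha1 haa x hxa β hβ
      rw [mem_subgroupOf] at ha hβ ⊢
      exact com_proj hA hB hcj hne ha (fun e => ha1 (Subtype.ext e)) (congrArg Subtype.val haa) x.2
        (congrArg Subtype.val hxa) hβ
  have hc : 4 ∣ Nat.card ((proj A B).subgroupOf B) := by
    rw [Nat.card_congr (subgroupOfEquivOfLe hle).toEquiv]
    exact four_dvd_proj hA hB hcj hne hinn h4
  rcases hloc _ _ hH hc with h | h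
  · left
    exact subgroupOf_eq_top.1 h
  · exact Or.inr h

/-- **no good pair** -/
theorem not_good [Finite G] (hA : TE A) (h4C : 4 ∣ Nat.card (C A))
    (hnc : ∀ B, Cj A B → A ≠ B → ¬ B ≤ C A)
    (hinn : ∀ B, Cj A B → ∀ g ∈ N B, ∃ b ∈ B, b⁻¹ * g ∈ C B) (hloc : ∀ B, Cj A B → Loc B) :
    ¬ Good A := by
  rintro ⟨B, hcj, hne, h4⟩
  have hB := hA.of_cj hcj
  obtain ⟨hle, hcomm, i, hi, hi1, hii, -⟩ :=
    (side hA hB hcj hne (hinn B hcj) (hloc B hcj) h4).resolve_left (hnc B hcj hne)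
  have hiA : (i : G) ∈ C A := mem_subgroupOf.1 (hle hi)
  have hi1' : (i : G) ≠ 1 := fun e => hi1 (Subtype.ext e)
  have hii' : (i : G) * i = 1 := congrArg Subtype.val hii
  -- `C B ≤ N A`
  have hCB : ∀ k ∈ C B, k ∈ N A := fun k hk => hA.nrm hiA hi1' hii' (comm_of_C hk i.2)
  have h4' : 4 ∣ Nat.card ↥(C B ⊓ N A) := by
    rw [inf_eq_left.2 (fun k hk => hCB k hk), ← hcj.card_C]
    exact h4C
  have hcj' : Cj B A := hcj.symm
  have hnc' : ¬ A ≤ C B := by
    intro h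
    apply hnc B hcj hne
    intro b hb
    rw [mem_C]
    intro a ha
    exact (comm_of_C (h ha) hb).symm
  obtain ⟨hle', hcomm', i', hi', hi1'', hii'', h, hhi, β, hβ, hhβ⟩ :=
    (side hB hA hcj' hne.symm (hinn A (Cj.refl A)) (hloc A (Cj.refl A)) h4').resolve_left hnc'
  apply hhβ
  have hiB : (i' : G) ∈ C B := mem_subgroupOf.1 (hle' hi')
  have hβB : (β : G) ∈ C B := mem_subgroupOf.1 (hle' hβ)
  have hhN : (h : G) ∈ N B := hB.nrm hiB (fun e => hi1'' (Subtype.ext e)) (congrArg Subtype.val hii'')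
    (congrArg Subtype.val hhi)
  obtain ⟨b, hb, hk⟩ := hinn B hcj _ hhN
  set k := b⁻¹ * (h : G) with hkdef
  obtain ⟨a', ha', hc⟩ := hinn A (Cj.refl A) k (hCB k hk)
  have ha'p : a' ∈ proj B A := ⟨ha', a'⁻¹ * k, hc, by rw [mul_inv_cancel_left]; exact hk⟩
  have h1 : a' * β = β * a' := by
    have := hcomm' ⟨a', ha'⟩ (mem_subgroupOf.2 ha'p) β hβ
    exact congrArg Subtype.val this
  have h2 : (a'⁻¹ * k) * β = β * (a'⁻¹ * k) := comm_of_C hc β.2
  have h3 : k * β = β * k := by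
    have e : k = a' * (a'⁻¹ * k) := (mul_inv_cancel_left _ _).symm
    rw [e, mul_assoc, h2, ← mul_assoc, h1, mul_assoc]
  apply Subtype.ext
  show (h : G) * β = β * h
  have e : (h : G) = b * k := (mul_inv_cancel_left _ _).symm
  rw [e, mul_assoc, h3, ← mul_assoc, ← comm_of_C hβB hb, mul_assoc]

end Cfsg.Agent.StandardComponent.FiRedPair
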