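import Cfsg.Prelude.Def_ClassificationK
import Cfsg.Agent.StandardComponent.FiRedPair
import Cfsg.Agent.StandardComponent.CentCore

/-!
# Standard simple subgroups of simple locally balanced groups without good pairs

If there is no good pair and the outer hypothesis holds then `4 ∤ |C(A)|`, and some involution `t` of `C(A)` satisfies
`C(A) ∩ C(t) = {1, t}`.
-/

set_option autoImplicit false

namespace Cfsg.Agent.StandardComponent.FiRedGen

open Subgroup Cfsg.Agent.StdAlt.Conj Cfsg.Agent.StdAlt.Pairs Cfsg.Agent.StdAlt.First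

variable {G : Type*} [Group G]

theorem center_eq_bot [IsSimpleGroup G] (hG : ¬ IsMulCommutative G) : Subgroup.center G = ⊥ := by
  rcases (inferInstance : (Subgroup.center G).Normal).eq_bot_or_eq_top with h | h
  · exact h
  · exfalso
    apply hG
    refine ⟨⟨fun a b => ?_⟩⟩
    have : b ∈ Subgroup.center G := by rw [h]; trivial
    exact (Subgroup.mem_center_iff.1 this a)

theorem oddCore_eq_bot [Finite G] [IsSimpleGroup G] (h2 : 2 ∣ Nat.card G) : Cfsg.oddCore G = ⊥ := by
  rcases (Cfsg.pPrimeCore_normal 2 G).eq_bot_or_eq_top with h | h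
  · exact h
  · exfalso
    have h1 := Cfsg.Agent.Lib.Cores.pPrimeCore_coprime (G := G) 2
    rw [h, Subgroup.card_top] at h1
    have h3 := Nat.coprime_two_right.1 h1
    exact (Nat.not_even_iff_odd.2 h3) (even_iff_two_dvd.2 h2)

/-- the centralizer of a proper standard subgroup of a nonabelian simple group -/
theorem not_normal [Finite G] [IsSimpleGroup G] (hG : ¬ IsMulCommutative G) {A : Subgroup G}
    (hs : IsSimpleGroup A) (hev : 2 ∣ Nat.card (C A)) : ¬ A.Normal := by
  intro hn
  rcases hn.eq_bot_or_eq_top with h | h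
  · have := hs.toNontrivial
    rw [h] at this
    exact (not_nontrivial_iff_subsingleton.2 inferInstance) this
  · have h1 : C A ≤ Subgroup.center G := by
      intro x hx
      rw [Subgroup.mem_center_iff]
      intro g
      exact (comm_of_C hx (by rw [h]; trivial)).symm
    rw [center_eq_bot hG, le_bot_iff] at h1
    rw [h1, card_bot] at hev
    exact absurd hev (by norm_num)

theorem not_four_dvd [Finite G] [IsSimpleGroup G] (hG : ¬ IsMulCommutative G)
    (hcomm : Cfsg.oddCore G = ⊥ → CommHalf G) {A : Subgroup G} (hA : TE A) (hs : IsSimpleGroup A) (hout : Outer A) (hng : 4 ∣ Nat.card (C A) → ¬ Good A) {s : G} (hsA : s ∈ A)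
    (hs1 : s ≠ 1) (hss : s * s = 1) : ¬ 4 ∣ Nat.card (C A) := by
  intro h4
  have h2 : 2 ∣ Nat.card (C A) := Dvd.dvd.trans (by norm_num) h4
  have h2G : 2 ∣ Nat.card G := h2.trans (card_subgroup_dvd_card _)
  rcases normal_or_good hA hs (hcomm (oddCore_eq_bot h2G)) hout h4 hsA hs1 hss with h | h
  · exact not_normal hG hs h2 h
  · exact hng h4 h

/-- the involution -/
theorem exists_inv [Finite G] {A : Subgroup G} (hA : TE A)
    (hbal : ∀ t : G, orderOf t = 2 → Cfsg.centralizerPPrimeCore 2 t = ⊥) (h2 : 2 ∣ Nat.card (C A))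
    (h4 : ¬ 4 ∣ Nat.card (C A)) :
    ∃ t : G, orderOf t = 2 ∧ t ∈ C A ∧ ∀ k ∈ C A, k * t = t * k → k = 1 ∨ k = t := by
  obtain ⟨t', ht'⟩ := exists_prime_orderOf_dvd_card' (G := C A) 2 h2
  set t := (t' : G) with htdef
  have htC : t ∈ C A := t'.2
  have ho : orderOf t = 2 := by rw [htdef, Subgroup.orderOf_coe]; exact ht'
  have htt : t * t = 1 := by rw [← sq, ← ho]; exact pow_orderOf_eq_one t
  have ht1 : t ≠ 1 := by
    intro e
    rw [e, orderOf_one] at ho
    exact absurd ho (by norm_num)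
  refine ⟨t, ho, htC, ?_⟩
  set H := C A ⊓ centralizer ({t} : Set G) with hH
  have htH : t ∈ H := ⟨htC, mem_cent.2 rfl⟩
  have h4H : ¬ 4 ∣ Nat.card H := fun h => h4 (h.trans (card_dvd_of_le inf_le_left))
  have hHt : ∀ x ∈ H, x * t = t * x := fun x hx => mem_cent.1 hx.2
  -- the complement of `⟨t⟩` in `H`
  set T : Subgroup H := zpowers ⟨t, htH⟩ with hT
  have hTo : orderOf (⟨t, htH⟩ : H) = 2 := by rw [Subgroup.orderOf_mk]; exact ho
  have hTcard : Nat.card T = 2 := by rw [hT, Nat.card_zpowers, hTo]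
  have hTmem : ∀ x ∈ T, x = 1 ∨ x = ⟨t, htH⟩ := by
    intro x hx
    obtain ⟨i, rfl⟩ := mem_zpowers_iff.1 hx
    rcases Int.even_or_odd' i with ⟨j, rfl | rfl⟩
    · left
      rw [zpow_mul, zpow_ofNat, sq, show (⟨t, htH⟩ : H) * ⟨t, htH⟩ = 1 from Subtype.ext htt, one_zpow]
    · right
      rw [zpow_add, zpow_mul, zpow_ofNat, sq, show (⟨t, htH⟩ : H) * ⟨t, htH⟩ = 1 from Subtype.ext htt,
        one_zpow, one_mul, zpow_one]
  have hcen : ∀ n ∈ T, ∀ x : H, x * n = n * x := by
    intro n hn x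
    rcases hTmem n hn with rfl | rfl
    · rw [mul_one, one_mul]
    · exact Subtype.ext (hHt x x.2)
  have hTn : T.Normal := ⟨fun n hn g => by rw [hcen n hn g, mul_inv_cancel_right]; exact hn⟩
  have hindex : Nat.card H = 2 * T.index := by rw [← T.card_mul_index, hTcard]
  have hodd : ¬ 2 ∣ T.index := by
    rintro ⟨m, hm⟩
    exact h4H ⟨m, by rw [hindex, hm]; ring⟩
  have hcop : Nat.Coprime (Nat.card T) T.index := by
    rw [hTcard]
    exact (Nat.Prime.coprime_iff_not_dvd Nat.prime_two).2 hodd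
  obtain ⟨M, hM⟩ := Subgroup.exists_right_complement'_of_coprime hcop
  have hMcard : Nat.card M = T.index := by
    have h1 := hM.card_mul_card
    rw [hTcard, hindex] at h1
    omega
  have hMdec : ∀ x : H, ∃ n ∈ T, ∃ m ∈ M, x = n * m := by
    intro x
    obtain ⟨⟨n, m⟩, hnm⟩ := hM.2 x
    exact ⟨n, n.2, m, m.2, hnm.symm⟩
  have hModd : ∀ m ∈ M, Odd (orderOf m) := by
    intro m hm
    have h1 := Subgroup.orderOf_dvd_natCard M hm
    rw [hMcard] at h1
    rw [← Nat.not_even_iff_odd]
    intro h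
    exact hodd (h.two_dvd.trans h1)
  -- elements of odd order of `H` lie in `M`
  have hMmem : ∀ x : H, Odd (orderOf x) → x ∈ M := by
    intro x hx
    obtain ⟨n, hn, m, hm, hnm⟩ := hMdec x
    rcases hTmem n hn with h1 | h1
    · rw [hnm, h1, one_mul]; exact hm
    · exfalso
      have hc : Commute (⟨t, htH⟩ : H) m := (hcen _ (mem_zpowers _) m).symm
      have h3 : x ^ orderOf m = ⟨t, htH⟩ := by
        rw [hnm, h1, hc.mul_pow, pow_orderOf_eq_one, mul_one]
        obtain ⟨j, hj⟩ := hModd m hm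
        rw [hj, pow_succ, pow_mul, sq, show (⟨t, htH⟩ : H) * ⟨t, htH⟩ = 1 from Subtype.ext htt,
          one_pow, one_mul]
      have h4 : orderOf (x ^ orderOf m) ∣ orderOf x := orderOf_pow_dvd _
      rw [h3, hTo] at h4
      exact (Nat.not_even_iff_odd.2 hx) (even_iff_two_dvd.2 h4)
  have hMbot : M.map H.subtype ≤ Cfsg.centralizerPPrimeCore 2 t := by
    apply Cfsg.Agent.StandardComponent.CentCore.le_core t
    · rintro _ ⟨m, _, rfl⟩; exact hHt m m.2
    · rintro k hk _ ⟨m, hm, rfl⟩
      have hkN : k ∈ N A := hA.nrm htC ht1 htt hk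
      have hmem : k * m * k⁻¹ ∈ H := by
        refine ⟨conj_mem_C hkN m.2.1, mem_cent.2 ?_⟩
        have h1 := hHt m m.2
        have h2 : k⁻¹ * t = t * k⁻¹ := by
          rw [inv_mul_eq_iff_eq_mul, ← mul_assoc, hk, mul_inv_cancel_right]
        calc k * m * k⁻¹ * t = k * m * (k⁻¹ * t) := by group
          _ = k * (m * t) * k⁻¹ := by rw [h2]; group
          _ = (k * t) * m * k⁻¹ := by rw [h1]; group
          _ = t * (k * m * k⁻¹) := by rw [hk]; group
      refine ⟨⟨k * m * k⁻¹, hmem⟩, hMmem _ ?_, rfl⟩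
      rw [Subgroup.orderOf_mk]
      have h1 : orderOf (k * (m : G) * k⁻¹) = orderOf (m : G) := by
        have := orderOf_injective (MulAut.conj k).toMonoidHom (MulAut.conj k).injective (m : G)
        simpa using this
      rw [h1, Subgroup.orderOf_coe]
      exact hModd m hm
    · rw [Subgroup.card_map_of_injective H.subtype_injective, hMcard]
      exact Nat.not_even_iff_odd.1 (fun h => hodd h.two_dvd)
  rw [hbal t ho, le_bot_iff] at hMbot
  intro k hk hkt
  obtain ⟨n, hn, m, hm, hkm⟩ := hMdec ⟨k, hk, mem_cent.2 hkt⟩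
  have hm1 : (m : G) = 1 := by
    have : (m : G) ∈ M.map H.subtype := ⟨m, hm, rfl⟩
    rw [hMbot] at this
    exact Subgroup.mem_bot.1 this
  have hk1 : k = (n : G) := by
    have := congrArg Subtype.val hkm
    simp only [Subgroup.coe_mul] at this
    rw [this, hm1, mul_one]
  rcases hTmem n hn with h | h
  · left; rw [hk1, h]; rfl
  · right; rw [hk1, h]

end Cfsg.Agent.StandardComponent.FiRedGen
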