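import Cfsg.Agent.StandardComponent.AltStd
import Cfsg.Agent.StandardComponent.CoverExtra
import Cfsg.Agent.Classification.TransferSign

/-!
# Standard components of type `2.A_n`: the centralizer of `z` has odd index and induces `A_n`

Everything is stated for `S : AltStd G n z` under the hypothesis that every conjugate of `z` commuting with `z` lies in
the component, and (from some point on) that `z` is the only involution of `C_G(L)` and is no square there.
-/

set_option autoImplicit false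

namespace Cfsg.Agent.StandardComponent.AltTransfer

open Equiv Cfsg.Agent.SporRec.TwoAn

/-- A subgroup `C` has odd index if it contains a `2`-subgroup `P` such that `C` is the only coset of `C` fixed by
`P`. -/
theorem odd_index_of_unique {G : Type*} [Group G] [Finite G] {C P : Subgroup G} (hP : IsPGroup 2 P) (hPC : P ≤ C)
    (h : ∀ g : G, (∀ x ∈ P, g⁻¹ * x * g ∈ C) → g ∈ C) : Odd C.index := by
  have : Fact (Nat.Prime 2) := ⟨Nat.prime_two⟩
  have h1 := hP.card_modEq_card_fixedPoints (G ⧸ C)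
  have h2 : MulAction.fixedPoints P (G ⧸ C) = {((1 : G) : G ⧸ C)} := by
    ext q
    rw [Set.mem_singleton_iff, MulAction.mem_fixedPoints]
    constructor
    · intro hq
      obtain ⟨g, rfl⟩ := QuotientGroup.mk_surjective q
      rw [eq_comm, QuotientGroup.eq, inv_one, one_mul]
      apply h
      intro x hx
      have h3 := hq ⟨x, hx⟩
      have h4 : ((x * g : G) : G ⧸ C) = (g : G ⧸ C) := h3
      rw [eq_comm, QuotientGroup.eq] at h4
      rwa [mul_assoc]
    · rintro rfl ⟨x, hx⟩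
      have h4 : ((x * 1 : G) : G ⧸ C) = ((1 : G) : G ⧸ C) := by
        rw [eq_comm, QuotientGroup.eq, inv_one, one_mul, mul_one]
        exact hPC hx
      exact h4
  rw [h2, Nat.card_eq_fintype_card (α := ({((1 : G) : G ⧸ C)} : Set (G ⧸ C))), Set.card_singleton] at h1
  rw [Nat.odd_iff]
  exact h1

/-- A subgroup of odd index meets all involutions of a group up to conjugation. -/
theorem exists_conj_mem_of_odd_relIndex {G : Type*} [Group G] [Finite G] {H C : Subgroup G}
    (hC : Odd (C.relIndex H)) {x : G} (hx : x ∈ H) (hx2 : x * x = 1) : ∃ h ∈ H, h⁻¹ * x * h ∈ C := by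
  have : Fact (Nat.Prime 2) := ⟨Nat.prime_two⟩
  have hP : IsPGroup 2 (Subgroup.zpowers (⟨x, hx⟩ : H)) := by
    intro y
    obtain ⟨y, k, rfl⟩ := y
    refine ⟨1, Subtype.ext ?_⟩
    show ((⟨x, hx⟩ : H) ^ k) ^ 2 ^ 1 = 1
    have h1 : (⟨x, hx⟩ : H) ^ (2 : ℤ) = 1 := by
      rw [zpow_ofNat, pow_two]; exact Subtype.ext hx2
    rw [pow_one, ← zpow_natCast, ← zpow_mul, mul_comm, zpow_mul]
    rw [show ((2 : ℕ) : ℤ) = 2 from rfl, h1, one_zpow]
  have hodd : ¬ 2 ∣ Nat.card (H ⧸ C.subgroupOf H) := by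
    intro h
    exact (Nat.not_even_iff_odd.2 hC) (even_iff_two_dvd.2 h)
  obtain ⟨q, hq⟩ := hP.nonempty_fixed_point_of_prime_not_dvd_card (H ⧸ C.subgroupOf H) hodd
  obtain ⟨⟨h, hh⟩, rfl⟩ := QuotientGroup.mk_surjective q
  refine ⟨h, hh, ?_⟩
  have h2 := hq ⟨⟨x, hx⟩, Subgroup.mem_zpowers _⟩
  have h3 : (((⟨x, hx⟩ : H) * ⟨h, hh⟩ : H) : H ⧸ C.subgroupOf H) = ((⟨h, hh⟩ : H) : H ⧸ C.subgroupOf H) := h2
  rw [eq_comm, QuotientGroup.eq, Subgroup.mem_subgroupOf] at h3
  rw [mul_assoc]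
  exact h3

/-- A subgroup of odd index meets all involutions of a group up to conjugation. -/
theorem exists_conj_mem_of_odd {G : Type*} [Group G] [Finite G] {H C : Subgroup G} (hCH : C ≤ H) (hC : Odd C.index)
    {x : G} (hx : x ∈ H) (hx2 : x * x = 1) : ∃ h ∈ H, h⁻¹ * x * h ∈ C := by
  refine exists_conj_mem_of_odd_relIndex ?_ hx hx2
  rw [← Subgroup.relIndex_mul_index hCH] at hC
  exact (Nat.odd_mul.1 hC).1

section

variable {G : Type*} [Group G] {n : ℕ} {z : G} (S : AltStd G n z)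

theorem mem_cent {x : G} : x ∈ Subgroup.centralizer ({z} : Set G) ↔ x * z = z * x :=
  Subgroup.mem_centralizer_singleton_iff

include S in
theorem L_le : S.L ≤ Subgroup.centralizer ({z} : Set G) := fun x hx => mem_cent.2 (S.comm x hx)

theorem cover_π (x : S.L) : S.cover.π x = S.φ x := rfl

theorem cover_z : (S.cover.z : G) = z := rfl

/-- Every conjugate of `z` commuting with `z` lies in the component. -/
def InL : Prop := ∀ g : G, g * z * g⁻¹ * z = z * (g * z * g⁻¹) → g * z * g⁻¹ ∈ S.L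

/-- `z` is the only involution centralizing the component, and is not the square of an element centralizing it. -/
def SmallK : Prop := (∀ k : G, (∀ x ∈ S.L, k * x = x * k) → k * k = 1 → k = 1 ∨ k = z) ∧
  ∀ k : G, (∀ x ∈ S.L, k * x = x * k) → k * k ≠ z

variable {S}

theorem not_commute_sylow [Finite G] (P : Sylow 2 S.L) {t : G} (ht : t ∈ S.L) (ht2 : t * t = 1) (h1 : S.φ t ≠ 1) :
    ¬ ∀ x ∈ P, (x : G) * t = t * x := by
  intro hx
  have : Fact (Nat.Prime 2) := ⟨Nat.prime_two⟩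
  have hodd : Odd (P : Subgroup S.L).index := by
    rw [← Nat.not_even_iff_odd, even_iff_two_dvd]
    exact P.not_dvd_index
  refine CoverExtra.not_commute_sylow S.cover (P : Subgroup S.L) hodd (t := ⟨t, ht⟩) ?_ h1 ?_
  · show S.φ t * S.φ t = 1
    rw [← S.φ_mul t t (S.comm t ht) (S.comm t ht), ht2, S.φ_one]
  · intro x hxP
    exact Subtype.ext (hx x hxP)

/-- The centralizer of `z` has odd index. -/
theorem odd_index [Finite G] (hL : InL S) : Odd (Subgroup.centralizer ({z} : Set G)).index := by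
  have : Fact (Nat.Prime 2) := ⟨Nat.prime_two⟩
  have hzp : IsPGroup 2 (Subgroup.zpowers (⟨z, S.z_mem⟩ : S.L)) := by
    intro y
    obtain ⟨y, k, rfl⟩ := y
    refine ⟨1, Subtype.ext ?_⟩
    show ((⟨z, S.z_mem⟩ : S.L) ^ k) ^ 2 ^ 1 = 1
    have h1 : (⟨z, S.z_mem⟩ : S.L) ^ (2 : ℤ) = 1 := by
      rw [zpow_ofNat, pow_two]; exact Subtype.ext S.z_sq
    rw [pow_one, ← zpow_natCast, ← zpow_mul, mul_comm, zpow_mul]
    rw [show ((2 : ℕ) : ℤ) = 2 from rfl, h1, one_zpow]
  obtain ⟨P, hP⟩ := hzp.exists_le_sylow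
  have hzP : (⟨z, S.z_mem⟩ : S.L) ∈ P := hP (Subgroup.mem_zpowers _)
  refine odd_index_of_unique (P := (P : Subgroup S.L).map S.L.subtype) (P.2.map _) ?_ ?_
  · rintro _ ⟨x, -, rfl⟩
    exact L_le S x.2
  · intro g hg
    have hcomm : ∀ x ∈ P, (x : G) * (g * z * g⁻¹) = g * z * g⁻¹ * x := by
      intro x hx
      have h1 := mem_cent.1 (hg x ⟨x, hx, rfl⟩)
      calc (x : G) * (g * z * g⁻¹) = g * (g⁻¹ * x * g * z) * g⁻¹ := by group
        _ = g * (z * (g⁻¹ * x * g)) * g⁻¹ := by rw [h1]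
        _ = g * z * g⁻¹ * x := by group
    have hz1 : z * (g * z * g⁻¹) = g * z * g⁻¹ * z := hcomm _ hzP
    have hmem := hL g hz1.symm
    have hsq : g * z * g⁻¹ * (g * z * g⁻¹) = 1 := by
      rw [show g * z * g⁻¹ * (g * z * g⁻¹) = g * (z * z) * g⁻¹ by group, S.z_sq, mul_one, mul_inv_cancel]
    by_cases h1 : S.φ (g * z * g⁻¹) = 1
    · rcases S.φ_L _ hmem h1 with h2 | h2
      · exfalso
        apply S.z_ne
        rw [mul_inv_eq_one, mul_eq_left] at h2
        exact h2
      · rw [mem_cent]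
        rwa [mul_inv_eq_iff_eq_mul] at h2
    · exact absurd hcomm (not_commute_sylow P hmem hsq h1)

/-- `2`-elements of the centralizer of the component are `1` or `z`. -/
theorem eq_of_pow_two_pow (hK : SmallK S) (j : ℕ) : ∀ k : G, (∀ x ∈ S.L, k * x = x * k) → k ^ 2 ^ j = 1 →
    k = 1 ∨ k = z := by
  induction j with
  | zero =>
    intro k _ h
    left
    rwa [pow_zero, pow_one] at h
  | succ j ih =>
    intro k hk h
    have h1 : ∀ x ∈ S.L, k * k * x = x * (k * k) := fun x hx => by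
      rw [mul_assoc, hk x hx, ← mul_assoc, hk x hx, mul_assoc]
    rcases ih (k * k) h1 (by rw [← pow_two, ← pow_mul, ← pow_succ', h]) with h2 | h2
    · exact hK.1 k hk h2
    · exact absurd h2 (hK.2 k hk)

/-- A decomposition of the elements inducing an even permutation. -/
theorem exists_mul {y : G} (hy : y * z = z * y) (he : S.φ y ∈ alternatingGroup (Fin n)) :
    ∃ l ∈ S.L, ∃ k, (∀ x ∈ S.L, k * x = x * k) ∧ y = l * k ∧ S.φ l = S.φ y := by
  obtain ⟨l, hl, hly⟩ := S.lift _ he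
  have hlz := S.comm l hl
  refine ⟨l, hl, l⁻¹ * y, ?_, by rw [mul_inv_cancel_left], hly⟩
  rw [← S.φ_ker _ (AltStd.comm_mul (AltStd.comm_inv hlz) hy), S.φ_mul _ _ (AltStd.comm_inv hlz) hy, S.φ_inv hlz, hly,
    inv_mul_cancel]

theorem comm_of_centralizes {k : G} (hk : ∀ x ∈ S.L, k * x = x * k) : k * z = z * k := hk z S.z_mem

theorem φ_of_centralizes {k : G} (hk : ∀ x ∈ S.L, k * x = x * k) : S.φ k = 1 :=
  (S.φ_ker k (comm_of_centralizes hk)).2 hk

/-- An involution inducing an even permutation lies in the component. -/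
theorem mem_L_of_even (hK : SmallK S) {x : G} (hx : x * z = z * x) (hx2 : x * x = 1)
    (he : S.φ x ∈ alternatingGroup (Fin n)) : x ∈ S.L := by
  obtain ⟨l, hl, k, hk, hxlk, hφ⟩ := exists_mul hx he
  have h1 : l * l * (k * k) = 1 := by
    rw [← hx2, hxlk]
    calc l * l * (k * k) = l * (l * k) * k := by group
      _ = l * (k * l) * k := by rw [hk l hl]
      _ = l * k * (l * k) := by group
  have h2 : S.φ (l * l) = 1 := by
    rw [S.φ_mul l l (S.comm l hl) (S.comm l hl), hφ, ← S.φ_mul x x hx hx, hx2, S.φ_one]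
  have h3 : k = 1 ∨ k = z := by
    rcases S.φ_L (l * l) (S.L.mul_mem hl hl) h2 with h4 | h4
    · rw [h4, one_mul] at h1
      exact hK.1 k hk h1
    · exfalso
      apply hK.2 k hk
      rw [h4] at h1
      rw [← mul_right_inj z, h1, S.z_sq]
  rw [hxlk]
  rcases h3 with rfl | rfl
  · rwa [mul_one]
  · exact S.L.mul_mem hl S.z_mem

/-- All involutions inducing an even permutation are conjugate to `z`. -/
theorem isConj_of_even (hn : n < 16) (hL : InL S) (hK : SmallK S)
    (hz : ∃ g : G, g * z * g⁻¹ ≠ z ∧ g * z * g⁻¹ * z = z * (g * z * g⁻¹)) {x : G} (hx : x * z = z * x)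
    (hx2 : x * x = 1) (hx1 : x ≠ 1) (he : S.φ x ∈ alternatingGroup (Fin n)) : ∃ h : G, h * z * h⁻¹ = x := by
  have hxL := mem_L_of_even hK hx hx2 he
  by_cases h1 : S.φ x = 1
  · rcases S.φ_L x hxL h1 with h2 | h2
    · exact absurd h2 hx1
    · exact ⟨1, by rw [h2]; group⟩
  · obtain ⟨g, hg1, hg2⟩ := hz
    have hgL := hL g hg2
    have hsq : g * z * g⁻¹ * (g * z * g⁻¹) = 1 := by
      rw [show g * z * g⁻¹ * (g * z * g⁻¹) = g * (z * z) * g⁻¹ by group, S.z_sq, mul_one, mul_inv_cancel]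
    have hg3 : S.φ (g * z * g⁻¹) ≠ 1 := by
      intro h2
      rcases S.φ_L _ hgL h2 with h3 | h3
      · apply S.z_ne
        rw [mul_inv_eq_one, mul_eq_left] at h3
        exact h3
      · exact hg1 h3
    obtain ⟨w, hw⟩ := CoverExtra.exists_conj_of_card_lt S.cover (by rwa [Fintype.card_fin])
      (g := ⟨g * z * g⁻¹, hgL⟩) (h := ⟨x, hxL⟩) (Subtype.ext hsq) (Subtype.ext hx2) hg3 h1
    refine ⟨w * g, ?_⟩
    have hw' : (w : G) * (g * z * g⁻¹) * (w : G)⁻¹ = x := congrArg Subtype.val hw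
    rw [← hw']; group

/-- `y` commutes with elements of odd order of the component whose image commutes with that of `y`. -/
theorem commute_of_odd {y t : G} (hy : y * z = z * y) (ht : t ∈ S.L) {m : ℕ} (hm : Odd m) (htm : t ^ m = 1)
    (hc : S.φ y * S.φ t = S.φ t * S.φ y) : y * t = t * y := by
  have h1 := S.conj_mem y hy t ht
  have h2 : (⟨y * t * y⁻¹, h1⟩ : S.L) = ⟨t, ht⟩ := by
    refine S.cover.odd_lift_unique hm ?_ ?_ ?_
    · apply Subtype.ext
      show (y * t * y⁻¹) ^ m = 1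
      rw [conj_pow, htm, mul_one, mul_inv_cancel]
    · exact Subtype.ext htm
    · show S.φ (y * t * y⁻¹) = S.φ t
      rw [S.φ_conj hy (S.comm t ht), hc, mul_inv_cancel_right]
  have h3 : y * t * y⁻¹ = t := congrArg Subtype.val h2
  rwa [mul_inv_eq_iff_eq_mul] at h3

/-- a lift of odd order of a 3-cycle in the form `(a b)(b c)` -/
theorem exists_three {a b c : Fin n} (hab : a ≠ b) (hac : a ≠ c) (hbc : b ≠ c) :
    ∃ t ∈ S.L, t ^ 3 = 1 ∧ S.φ t = swap a b * swap b c := by
  have h1 : swap a b * swap b c ∈ alternatingGroup (Fin n) := Cover.swap_mul_swap_mem a b b c hab hbc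
  have h2 : (swap a b * swap b c) ^ 3 = 1 := by
    have h3 := (Perm.isThreeCycle_swap_mul_swap_same hab.symm hbc hac).orderOf
    rw [← h3, ← swap_comm a b] 
    exact pow_orderOf_eq_one _
  obtain ⟨t, ht, ht3⟩ := S.cover.exists_odd_lift h1 (n := 3) (by decide) h2
  exact ⟨t, t.2, congrArg Subtype.val ht3, ht⟩

/-- a lift of a double transposition commuting with everything which fixes its support -/
theorem exists_double {a b c d : Fin n} (hab : a ≠ b) (hac : a ≠ c) (had : a ≠ d) (hbc : b ≠ c) (hbd : b ≠ d)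
    (hcd : c ≠ d) : ∃ D ∈ S.L, S.φ D = swap a b * swap c d ∧ D * D = z ∧
      ∀ y, y * z = z * y → S.φ y a = a → S.φ y b = b → S.φ y c = c → S.φ y d = d → y * D = D * y := by
  obtain ⟨t, ht, ht3, htφ⟩ := exists_three (S := S) hab hac hbc
  obtain ⟨u, hu, hu3, huφ⟩ := exists_three (S := S) hbc hbd hcd
  have hD : S.φ (t * u) = swap a b * swap c d := by
    rw [S.φ_mul t u (S.comm t ht) (S.comm u hu), htφ, huφ, mul_assoc, ← mul_assoc (swap b c), swap_mul_self, one_mul]
  refine ⟨t * u, S.L.mul_mem ht hu, hD, S.dbl a b c d hab hac had hbc hbd hcd _ (S.L.mul_mem ht hu) hD, ?_⟩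
  intro y hy ya yb yc yd
  have hsw : ∀ p q : Fin n, S.φ y p = p → S.φ y q = q → S.φ y * swap p q = swap p q * S.φ y := by
    intro p q hp hq
    have h6 := Equiv.mul_swap_eq_swap_mul (S.φ y) p q
    rw [hp, hq] at h6
    exact h6
  have h1 : y * t = t * y := by
    refine commute_of_odd hy ht (m := 3) (by decide) ht3 ?_
    rw [htφ, ← mul_assoc, hsw a b ya yb, mul_assoc, hsw b c yb yc, mul_assoc]
  have h2 : y * u = u * y := by
    refine commute_of_odd hy hu (m := 3) (by decide) hu3 ?_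
    rw [huφ, ← mul_assoc, hsw b c yb yc, mul_assoc, hsw c d yc yd, mul_assoc]
  rw [← mul_assoc, h1, mul_assoc, h2, mul_assoc]

/-- If some element of `C_G(z)` induces an odd permutation, so does an involution. -/
theorem exists_odd_involution [Finite G] (hn : 6 ≤ n) (hK : SmallK S) {y : G} (hy : y * z = z * y)
    (ho : S.φ y ∉ alternatingGroup (Fin n)) : ∃ u, u * z = z * u ∧ u * u = 1 ∧ S.φ u ∉ alternatingGroup (Fin n) := by
  have hne : ∀ i j : ℕ, (hi : i < n) → (hj : j < n) → i ≠ j → (⟨i, hi⟩ : Fin n) ≠ ⟨j, hj⟩ :=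
    fun i j hi hj h h' => h (Fin.mk.inj_iff.1 h')
  have hsig : ∀ σ : Perm (Fin n), σ ∉ alternatingGroup (Fin n) ↔ Perm.sign σ = -1 := by
    intro σ
    rw [Perm.mem_alternatingGroup]
    rcases Int.units_eq_one_or (Perm.sign σ) with h | h
    · rw [h]; decide
    · rw [h]; decide
  rw [hsig] at ho
  set a : Fin n := ⟨0, by omega⟩ with ha
  set b : Fin n := ⟨1, by omega⟩ with hb
  have hab : a ≠ b := hne _ _ _ _ (by decide)
  -- normalise the permutation to be a transposition
  have h1 : (S.φ y)⁻¹ * swap a b ∈ alternatingGroup (Fin n) := by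
    rw [Perm.mem_alternatingGroup, map_mul, map_inv, ho, Perm.sign_swap hab]; decide
  obtain ⟨l, hl, hlφ⟩ := S.lift _ h1
  have hylz : y * l * z = z * (y * l) := AltStd.comm_mul hy (S.comm l hl)
  have hyl : S.φ (y * l) = swap a b := by
    rw [S.φ_mul y l hy (S.comm l hl), hlφ, mul_inv_cancel_left]
  -- take the 2-part
  obtain ⟨k, m, hm, hkm⟩ := Nat.exists_eq_two_pow_mul_odd (orderOf_pos (y * l)).ne'
  have hpow : ∀ (x : G), x * z = z * x → ∀ j : ℕ, x ^ j * z = z * x ^ j ∧ S.φ (x ^ j) = S.φ x ^ j := by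
    intro x hx j
    induction j with
    | zero => simp [S.φ_one]
    | succ j ih =>
      refine ⟨?_, ?_⟩
      · rw [pow_succ]; exact AltStd.comm_mul ih.1 hx
      · rw [pow_succ, S.φ_mul _ _ ih.1 hx, ih.2, pow_succ]
  set w := (y * l) ^ m with hw
  have hwz : w * z = z * w := (hpow _ hylz m).1
  have hwφ : S.φ w = swap a b := by
    obtain ⟨r, hr⟩ := hm
    rw [hw, (hpow _ hylz m).2, hyl, hr, pow_succ, pow_mul, pow_two, swap_mul_self, one_pow, one_mul]
  have hwk : w ^ 2 ^ k = 1 := by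
    rw [hw, ← pow_mul, mul_comm, ← hkm, pow_orderOf_eq_one]
  have hwwφ : S.φ (w * w) = 1 := by rw [S.φ_mul w w hwz hwz, hwφ, swap_mul_self]
  have hwwc := (S.φ_ker (w * w) (AltStd.comm_mul hwz hwz)).1 hwwφ
  have hww : w * w = 1 ∨ w * w = z := by
    refine eq_of_pow_two_pow hK k (w * w) hwwc ?_
    rw [← pow_two, ← pow_mul, mul_comm, pow_mul, hwk, one_pow]
  rcases hww with hww | hww
  · exact ⟨w, hwz, hww, by rw [hsig, hwφ, Perm.sign_swap hab]⟩
  · obtain ⟨D, hD, hDφ, hDD, hDc⟩ := exists_double (S := S) (a := ⟨2, by omega⟩) (b := ⟨3, by omega⟩)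
      (c := ⟨4, by omega⟩) (d := ⟨5, by omega⟩) (hne _ _ _ _ (by decide)) (hne _ _ _ _ (by decide))
      (hne _ _ _ _ (by decide)) (hne _ _ _ _ (by decide)) (hne _ _ _ _ (by decide)) (hne _ _ _ _ (by decide))
    have hfix : ∀ j : ℕ, (hj : j < n) → 2 ≤ j → S.φ w ⟨j, hj⟩ = ⟨j, hj⟩ := by
      intro j hj h2
      rw [hwφ]
      exact swap_apply_of_ne_of_ne (hne _ _ _ _ (by omega)) (hne _ _ _ _ (by omega))
    have hwD := hDc w hwz (hfix _ _ (by norm_num)) (hfix _ _ (by norm_num)) (hfix _ _ (by norm_num))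
      (hfix _ _ (by norm_num))
    refine ⟨w * D, AltStd.comm_mul hwz (S.comm D hD), ?_, ?_⟩
    · calc w * D * (w * D) = w * (D * w) * D := by group
        _ = (w * w) * (D * D) := by rw [← hwD]; group
        _ = 1 := by rw [hww, hDD, S.z_sq]
    · rw [hsig, S.φ_mul w D hwz (S.comm D hD), hwφ, hDφ, map_mul, map_mul, Perm.sign_swap hab,
        Perm.sign_swap (hne _ _ _ _ (by decide)), Perm.sign_swap (hne _ _ _ _ (by decide))]
      decide

/-- **Thompson transfer.** In a simple group all elements of `C_G(z)` induce even permutations. -/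
theorem φ_even_of_simple [Finite G] [IsSimpleGroup G] (hn : 6 ≤ n) (hn' : n < 16) (hL : InL S) (hK : SmallK S)
    (hz : ∃ g : G, g * z * g⁻¹ ≠ z ∧ g * z * g⁻¹ * z = z * (g * z * g⁻¹)) {y : G} (hy : y * z = z * y) :
    S.φ y ∈ alternatingGroup (Fin n) := by
  by_contra ho
  obtain ⟨u, huz, huu, hu⟩ := exists_odd_involution hn hK hy ho
  let H : Subgroup G :=
    { carrier := {x | x * z = z * x ∧ S.φ x ∈ alternatingGroup (Fin n)}
      mul_mem' := fun {a b} ha hb => ⟨AltStd.comm_mul ha.1 hb.1, by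
        rw [S.φ_mul a b ha.1 hb.1]; exact mul_mem ha.2 hb.2⟩
      one_mem' := ⟨by simp, by rw [S.φ_one]; exact one_mem _⟩
      inv_mem' := fun {a} ha => ⟨AltStd.comm_inv ha.1, by rw [S.φ_inv ha.1]; exact inv_mem ha.2⟩ }
  have hHC : H ≤ Subgroup.centralizer ({z} : Set G) := fun x hx => mem_cent.2 hx.1
  have hrel : H.relIndex (Subgroup.centralizer ({z} : Set G)) = 2 := by
    rw [Subgroup.relIndex, Subgroup.index_eq_two_iff]
    refine ⟨⟨u, mem_cent.2 huz⟩, ?_⟩
    rintro ⟨b, hb⟩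
    have hb' := mem_cent.1 hb
    rw [Subgroup.mem_subgroupOf, Subgroup.mem_subgroupOf]
    show Xor ((b * u) * z = z * (b * u) ∧ S.φ (b * u) ∈ alternatingGroup (Fin n))
      (b * z = z * b ∧ S.φ b ∈ alternatingGroup (Fin n))
    rw [Perm.mem_alternatingGroup] at hu ⊢
    rw [Perm.mem_alternatingGroup, S.φ_mul b u hb' huz, map_mul]
    have hu' : Perm.sign (S.φ u) = -1 := (Int.units_eq_one_or _).resolve_left hu
    rcases Int.units_eq_one_or (Perm.sign (S.φ b)) with h | h
    · rw [h, hu']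
      exact Or.inr ⟨⟨hb', rfl⟩, fun h => absurd h.2 (by decide)⟩
    · rw [h, hu']
      exact Or.inl ⟨⟨AltStd.comm_mul hb' huz, by decide⟩, fun h => absurd h.2 (by decide)⟩
  have hidx : H.index = 2 * (Subgroup.centralizer ({z} : Set G)).index := by
    rw [← Subgroup.relIndex_mul_index hHC, hrel]
  have hu1 : u ≠ 1 := by
    rintro rfl
    apply hu
    rw [S.φ_one]
    exact one_mem _
  have hu2 : orderOf u = 2 := orderOf_eq_prime (by rw [pow_two, huu]) hu1
  obtain ⟨f, hf⟩ := Classification.TransferSign.exists_hom_neg_one_of_index H _ (odd_index hL) hidx u hu2 (by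
    intro g hg
    have hgg : g * u * g⁻¹ * (g * u * g⁻¹) = 1 := by
      rw [show g * u * g⁻¹ * (g * u * g⁻¹) = g * (u * u) * g⁻¹ by group, huu, mul_one, mul_inv_cancel]
    have hg1 : g * u * g⁻¹ ≠ 1 := by
      intro h
      apply hu1
      rw [mul_inv_eq_one, mul_eq_left] at h
      exact h
    obtain ⟨h, hh⟩ := isConj_of_even hn' hL hK hz hg.1 hgg hg1 hg.2
    have e : u = (g⁻¹ * h) * z * (g⁻¹ * h)⁻¹ := by
      rw [show (g⁻¹ * h) * z * (g⁻¹ * h)⁻¹ = g⁻¹ * (h * z * h⁻¹) * g by group, hh]; group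
    apply hu
    rw [e]
    exact S.φ_even _ (hL _ (by rw [← e]; exact huz)))
  rcases (MonoidHom.normal_ker f).eq_bot_or_eq_top with hk | hk
  · obtain ⟨g, hg, -⟩ := hz
    apply hg
    have hinj := (MonoidHom.ker_eq_bot_iff f).1 hk
    apply hinj
    rw [map_mul, map_mul, map_inv, mul_comm (f g), mul_inv_cancel_right]
  · have h1 : u ∈ f.ker := by rw [hk]; trivial
    rw [MonoidHom.mem_ker, hf] at h1
    exact absurd h1 (by decide)

end

end Cfsg.Agent.StandardComponent.AltTransfer
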