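import Mathlib
import Cfsg.Prelude.Def_Involutions
import Cfsg.Prelude.Def_Exceptional
import Cfsg.Agent.S0280
import Cfsg.Agent.ClassicalGeometry.PSL2Basic

/-!
# Orders excluded by the list of simple groups with a strongly embedded subgroup

The conclusion of Bender's theorem is incompatible with a group order with 2-part `2 ^ 7` or `2 ^ 8`
divisible by 3, 5 and 7.
-/

set_option autoImplicit false

namespace Cfsg.Agent.StandardComponent.NoSE

theorem pow_unique {a b x y : ℕ} (ha : Odd a) (hb : Odd b) (h : 2 ^ x * a = 2 ^ y * b) : x = y := by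
  rcases Nat.lt_trichotomy x y with hxy | hxy | hxy
  · exfalso
    obtain ⟨d, rfl⟩ := Nat.exists_eq_add_of_lt hxy
    rw [show x + d + 1 = x + (d + 1) by ring, pow_add, mul_assoc] at h
    have h1 := Nat.eq_of_mul_eq_mul_left (by positivity) h
    rw [h1, pow_succ] at ha
    exact (Nat.not_even_iff_odd.2 ha) ((even_two.mul_left _).mul_right _)
  · exact hxy
  · exfalso
    obtain ⟨d, rfl⟩ := Nat.exists_eq_add_of_lt hxy
    rw [show y + d + 1 = y + (d + 1) by ring, pow_add, mul_assoc] at h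
    have h1 := Nat.eq_of_mul_eq_mul_left (by positivity) h.symm
    rw [h1, pow_succ] at hb
    exact (Nat.not_even_iff_odd.2 hb) ((even_two.mul_left _).mul_right _)

theorem exists_pow_of_even_card {F : Type*} [Field F] [Fintype F] (h : Even (Fintype.card F)) :
    ∃ f : ℕ, f ≠ 0 ∧ Fintype.card F = 2 ^ f := by
  obtain ⟨p, hp⟩ := CharP.exists F
  have := hp
  obtain ⟨n, hprime, hcard⟩ := FiniteField.card F p
  have h2 : p = 2 := by
    rw [hcard, Nat.even_pow] at h
    exact (hprime.even_iff).1 h.1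
  subst h2
  exact ⟨n, n.ne_zero, hcard⟩

/-- The order of a group in the conclusion of Bender's theorem is not `2 ^ 7 * odd` or `2 ^ 8 * odd`
with 3, 5, 7 dividing it. -/
theorem false_of_list {G : Type*} [Group G] [Finite G]
    (h : (∃ (F : Type) (_ : Field F) (_ : Fintype F), CharP F 2 ∧ 4 ≤ Fintype.card F ∧
        Nonempty (G ≃* Matrix.ProjectiveSpecialLinearGroup (Fin 2) F)) ∨ Cfsg.IsSuzuki G ∨
      (∃ (F : Type) (_ : Field F) (_ : Fintype F) (q : ℕ), Fintype.card F = q ^ 2 ∧ Even q ∧ 4 ≤ q ∧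
        Nonempty (G ≃* Cfsg.PSU 3 F q)))
    {k m : ℕ} (hcard : Nat.card G = 2 ^ k * m) (hm : Odd m) (hk : k = 7 ∨ k = 8)
    (h3 : 3 ∣ Nat.card G) (h5 : 5 ∣ Nat.card G) (h7 : 7 ∣ Nat.card G) : False := by
  rcases h with ⟨F, _, _, hchar, h4, ⟨e⟩⟩ | ⟨-, n, hn, hG⟩ | ⟨F, _, _, q, hF, hq, h4, ⟨e⟩⟩
  · obtain ⟨f, hf, hFf⟩ := exists_pow_of_even_card (F := F)
      (by
        obtain ⟨n, _, hc⟩ := FiniteField.card F 2
        rw [hc, Nat.even_pow]
        exact ⟨even_two, n.ne_zero⟩)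
    have hev : Even (Fintype.card F) := by rw [hFf, Nat.even_pow]; exact ⟨even_two, hf⟩
    have h1 : Nat.card G = Fintype.card F * (Fintype.card F ^ 2 - 1) := by
      rw [Nat.card_congr e.toEquiv]
      exact ClassicalGeometry.PSL2Basic.card_PSL2_even F hev
    rw [hFf] at h1
    have h2 : Odd ((2 ^ f) ^ 2 - 1) := by
      have h5 : 1 ≤ (2 ^ f) ^ 2 := Nat.one_le_pow _ _ (by positivity)
      have h6 : Even ((2 ^ f) ^ 2) := by
        rw [← pow_mul, Nat.even_pow]
        exact ⟨even_two, by omega⟩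
      exact Nat.Even.sub_odd h5 h6 odd_one
    have h8 : k = f := pow_unique hm h2 (hcard.symm.trans h1)
    subst h8
    rcases hk with rfl | rfl
    · rw [h1] at h5
      revert h5
      decide
    · rw [h1] at h7
      revert h7
      decide
  · rw [hG] at h3
    have hq : (2 ^ (2 * n + 1)) % 3 = 2 := by
      have : (2 ^ (2 * n + 1)) = 4 ^ n * 2 := by rw [pow_succ, pow_mul]; norm_num
      rw [this, Nat.mul_mod, Nat.pow_mod]
      norm_num
    set q := 2 ^ (2 * n + 1) with hqd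
    have h10 : (q - 1) % 3 = 1 := by clear_value q; omega
    have h11 : (q ^ 2) % 3 = 1 := by rw [Nat.pow_mod, hq]
    have h12 : (q ^ 2 + 1) % 3 = 2 := by omega
    have h9 : (q ^ 2 * (q ^ 2 + 1) * (q - 1)) % 3 = 2 := by
      rw [Nat.mul_mod, h10, Nat.mul_mod (q ^ 2), h11, h12]
    omega
  · have hev : Even (Fintype.card F) := by rw [hF, Nat.even_pow]; exact ⟨hq, by norm_num⟩
    obtain ⟨f, hf, hFf⟩ := exists_pow_of_even_card hev
    obtain ⟨e', -, he'⟩ : ∃ e' ≤ f, q = 2 ^ e' :=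
      (Nat.dvd_prime_pow Nat.prime_two).1 (by rw [← hFf, hF, sq]; exact dvd_mul_left _ _)
    have h1 := Cfsg.Agent.S0280.result hF 3 (by norm_num)
    rw [← Nat.card_congr e.toEquiv, Finset.prod_range_succ, Finset.prod_range_succ,
      Finset.prod_range_one] at h1
    norm_num at h1
    rw [hcard] at h1
    have hgcd : Odd (Nat.gcd 3 (q + 1)) := by
      rcases (Nat.dvd_prime Nat.prime_three).1 (Nat.gcd_dvd_left 3 (q + 1)) with h | h <;> rw [h] <;> decide
    have hq1 : Odd (q + 1) := hq.add_one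
    have hq2 : Odd (q ^ 2 - 1) :=
      Nat.Even.sub_odd (Nat.one_le_pow _ _ (by omega)) (by rw [Nat.even_pow]; exact ⟨hq, by norm_num⟩) odd_one
    have hq3 : Odd (q ^ 3 + 1) := Even.add_one (by rw [Nat.even_pow]; exact ⟨hq, by norm_num⟩)
    have h2 : 2 ^ k * (Nat.gcd 3 (q + 1) * (q + 1) * m) = 2 ^ (3 * e') * ((q + 1) * (q ^ 2 - 1) * (q ^ 3 + 1)) := by
      have : 2 ^ (3 * e') = q ^ 3 := by rw [he', ← pow_mul, mul_comm]
      rw [this]
      linarith
    have h4' := pow_unique ((hgcd.mul hq1).mul hm) ((hq1.mul hq2).mul hq3) h2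
    omega

end Cfsg.Agent.StandardComponent.NoSE
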