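import Mathlib.GroupTheory.Perm.Support
import Mathlib.GroupTheory.GroupAction.Quotient
import Mathlib.GroupTheory.OrderOfElement
import Mathlib.GroupTheory.Subgroup.Centralizer
import Mathlib.Data.Set.Card
import Mathlib.Tactic

/-!
# Quaternion groups of permutations of small degree

If `α² = β² = a ≠ 1`, `a² = 1`, `β α = α β a` are permutations of fewer than 16 points, then `a` moves exactly
8 points and `⟨α, β⟩` is regular on them.
-/

set_option autoImplicit false

namespace Cfsg.Agent.StandardComponent.AltQuat

open Equiv Subgroup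

variable {X : Type*} [Fintype X] [DecidableEq X] {α β a : Perm X}

/-- the eight elements of the quaternion group -/
def Eight (α β a : Perm X) (q : Perm X) : Prop :=
  q = 1 ∨ q = a ∨ q = α ∨ q = α * a ∨ q = β ∨ q = β * a ∨ q = α * β ∨ q = α * β * a

omit [Fintype X] [DecidableEq X] in
theorem eight_a (hα : α * α = a) (hβ : β * β = a) (ha : a * a = 1) {q : Perm X} (hq : Eight α β a q) :
    Eight α β a (a * q) := by
  have h1 : a * α = α * a := by rw [← hα, mul_assoc]
  have h2 : a * β = β * a := by rw [← hβ, mul_assoc]
  rcases hq with rfl | rfl | rfl | rfl | rfl | rfl | rfl | rfl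
  · right; left; rw [mul_one]
  · left; exact ha
  · right; right; right; left; exact h1
  · right; right; left; rw [← mul_assoc, h1, mul_assoc, ha, mul_one]
  · right; right; right; right; right; left; exact h2
  · right; right; right; right; left; rw [← mul_assoc, h2, mul_assoc, ha, mul_one]
  · right; right; right; right; right; right; right
    rw [← mul_assoc, h1, mul_assoc, h2, ← mul_assoc]
  · right; right; right; right; right; right; left
    rw [mul_assoc α β a, ← h2, ← mul_assoc, ← mul_assoc, h1, mul_assoc α a a, ha, mul_one]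

omit [Fintype X] [DecidableEq X] in
theorem eight_α (hα : α * α = a) (hβ : β * β = a) (ha : a * a = 1) {q : Perm X} (hq : Eight α β a q) :
    Eight α β a (α * q) := by
  have h2 : a * β = β * a := by rw [← hβ, mul_assoc]
  rcases hq with rfl | rfl | rfl | rfl | rfl | rfl | rfl | rfl
  · right; right; left; rw [mul_one]
  · right; right; right; left; rfl
  · right; left; exact hα
  · left; rw [← mul_assoc, hα, ha]
  · right; right; right; right; right; right; left; rfl
  · right; right; right; right; right; right; right; rw [mul_assoc]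
  · right; right; right; right; right; left; rw [← mul_assoc, hα, h2]
  · right; right; right; right; left; rw [← mul_assoc, ← mul_assoc, hα, h2, mul_assoc, ha, mul_one]

omit [Fintype X] [DecidableEq X] in
theorem eight_β (hα : α * α = a) (hβ : β * β = a) (hc : β * α = α * β * a) (ha : a * a = 1) {q : Perm X}
    (hq : Eight α β a q) : Eight α β a (β * q) := by
  have h1 : a * α = α * a := by rw [← hα, mul_assoc]
  have h2 : a * β = β * a := by rw [← hβ, mul_assoc]
  rcases hq with rfl | rfl | rfl | rfl | rfl | rfl | rfl | rfl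
  · right; right; right; right; left; rw [mul_one]
  · right; right; right; right; right; left; rfl
  · right; right; right; right; right; right; right; exact hc
  · right; right; right; right; right; right; left
    rw [← mul_assoc, hc, mul_assoc, ha, mul_one]
  · right; left; exact hβ
  · left; rw [← mul_assoc, hβ, ha]
  · right; right; left
    rw [← mul_assoc, hc, mul_assoc, h2, ← mul_assoc, mul_assoc α β β, hβ, mul_assoc, ha, mul_one]
  · right; right; right; left
    rw [← mul_assoc, ← mul_assoc, hc, mul_assoc (α * β), h2, ← mul_assoc, mul_assoc α β β, hβ, mul_assoc α a a, ha,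
      mul_one]

omit [Fintype X] [DecidableEq X] in
theorem eight_of_mem (hα : α * α = a) (hβ : β * β = a) (hc : β * α = α * β * a) (ha : a * a = 1) {q : Perm X}
    (hq : q ∈ closure ({α, β} : Set (Perm X))) : Eight α β a q := by
  have hαi : α⁻¹ = α * a := by
    rw [inv_eq_iff_mul_eq_one, ← mul_assoc, hα, ha]
  have hβi : β⁻¹ = β * a := by
    rw [inv_eq_iff_mul_eq_one, ← mul_assoc, hβ, ha]
  induction hq using closure_induction_left with
  | one => exact Or.inl rfl
  | mul_left x hx y hy ih =>
    rcases hx with rfl | rfl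
    · exact eight_α hα hβ ha ih
    · exact eight_β hα hβ hc ha ih
  | inv_mul_cancel x hx y hy ih =>
    rcases hx with rfl | rfl
    · rw [hαi, mul_assoc]; exact eight_α hα hβ ha (eight_a hα hβ ha ih)
    · rw [hβi, mul_assoc]; exact eight_β hα hβ hc ha (eight_a hα hβ ha ih)

omit [Fintype X] [DecidableEq X] in
/-- Every nontrivial element `q` of the quaternion group is `a` or has square `a`. -/
theorem sq_of_eight (hα : α * α = a) (hβ : β * β = a) (hc : β * α = α * β * a) (ha : a * a = 1) {q : Perm X}
    (hq : Eight α β a q) : q = 1 ∨ q = a ∨ q * q = a := by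
  have h1 : a * α = α * a := by rw [← hα, mul_assoc]
  have h2 : a * β = β * a := by rw [← hβ, mul_assoc]
  have h3 : α * β * (α * β) = a := by
    rw [mul_assoc, ← mul_assoc β, hc, mul_assoc (α * β), h2, ← mul_assoc (α * β), mul_assoc α β β, hβ,
      mul_assoc α, ha, mul_one, hα]
  rcases hq with rfl | rfl | rfl | rfl | rfl | rfl | rfl | rfl
  · left; rfl
  · right; left; rfl
  · right; right; exact hα
  · right; right; rw [mul_assoc, ← mul_assoc a, h1, mul_assoc α a a, ha, mul_one, hα]
  · right; right; exact hβ
  · right; right; rw [mul_assoc, ← mul_assoc a, h2, mul_assoc β a a, ha, mul_one, hβ]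
  · right; right; exact h3
  · right; right
    have h4 : a * (α * β) = α * β * a := by rw [← mul_assoc, h1, mul_assoc, h2, mul_assoc]
    rw [mul_assoc (α * β) a, ← mul_assoc a, h4, mul_assoc (α * β) a a, ha, mul_one, h3]

/-- The group generated has order 8. -/
theorem card_closure (hα : α * α = a) (hβ : β * β = a) (hc : β * α = α * β * a) (ha : a * a = 1) (ha1 : a ≠ 1) :
    Nat.card (closure ({α, β} : Set (Perm X))) = 8 := by
  classical
  have hαo : orderOf α = 4 := by
    have : orderOf α = 2 ^ (1 + 1) := orderOf_eq_prime_pow (by rw [pow_one, pow_two, hα]; exact ha1)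
      (by rw [show α ^ 2 ^ (1 + 1) = (α * α) * (α * α) by norm_num [pow_succ, mul_assoc], hα, ha])
    simpa using this
  have hle : zpowers α ≤ closure ({α, β} : Set (Perm X)) :=
    (zpowers_le).2 (subset_closure (by simp))
  have h4 : 4 ∣ Nat.card (closure ({α, β} : Set (Perm X))) := by
    have := card_dvd_of_le hle
    rwa [Nat.card_zpowers, hαo] at this
  have hne : Nat.card (closure ({α, β} : Set (Perm X))) ≠ 4 := by
    intro h
    have : zpowers α = closure ({α, β} : Set (Perm X)) :=
      eq_of_le_of_card_ge hle (by rw [Nat.card_zpowers, hαo, h])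
    have hβ' : β ∈ zpowers α := by rw [this]; exact subset_closure (by simp)
    obtain ⟨k, hk⟩ := mem_zpowers_iff.1 hβ'
    have hcomm : β * α = α * β := by rw [← hk]; exact (Commute.refl α).zpow_left k
    rw [hcomm] at hc
    exact ha1 (mul_eq_left.mp hc.symm)
  have hle8 : Nat.card (closure ({α, β} : Set (Perm X))) ≤ 8 := by
    let F : Finset (Perm X) := {1, a, α, α * a, β, β * a, α * β, α * β * a}
    have hF : F.card ≤ 8 := by
      refine (Finset.card_insert_le _ _).trans (Nat.add_le_add_right (m := 7) ?_ 1)
      refine (Finset.card_insert_le _ _).trans (Nat.add_le_add_right (m := 6) ?_ 1)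
      refine (Finset.card_insert_le _ _).trans (Nat.add_le_add_right (m := 5) ?_ 1)
      refine (Finset.card_insert_le _ _).trans (Nat.add_le_add_right (m := 4) ?_ 1)
      refine (Finset.card_insert_le _ _).trans (Nat.add_le_add_right (m := 3) ?_ 1)
      refine (Finset.card_insert_le _ _).trans (Nat.add_le_add_right (m := 2) ?_ 1)
      exact Finset.card_le_two
    have hsub : ((closure ({α, β} : Set (Perm X)) : Subgroup (Perm X)) : Set (Perm X)) ⊆ (F : Set (Perm X)) := by
      intro q hq
      have := eight_of_mem hα hβ hc ha hq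
      simpa [F, Eight] using this
    calc Nat.card (closure ({α, β} : Set (Perm X))) =
        ((closure ({α, β} : Set (Perm X)) : Subgroup (Perm X)) : Set (Perm X)).ncard := rfl
      _ ≤ (F : Set (Perm X)).ncard := Set.ncard_le_ncard hsub (Finset.finite_toSet F)
      _ = F.card := Set.ncard_coe_finset F
      _ ≤ 8 := hF
  have hpos : 0 < Nat.card (closure ({α, β} : Set (Perm X))) := Nat.card_pos
  omega

/-- Orbits on moved points are regular. -/
theorem ncard_orbit (hα : α * α = a) (hβ : β * β = a) (hc : β * α = α * β * a) (ha : a * a = 1) {x : X}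
    (hx : a x ≠ x) : (MulAction.orbit (closure ({α, β} : Set (Perm X))) x).ncard = 8 := by
  classical
  have ha1 : a ≠ 1 := fun h => hx (by rw [h]; rfl)
  have h1 := MulAction.card_orbit_mul_card_stabilizer_eq_card_group (closure ({α, β} : Set (Perm X))) x
  have hstab : MulAction.stabilizer (closure ({α, β} : Set (Perm X))) x = ⊥ := by
    rw [eq_bot_iff]
    rintro ⟨q, hq⟩ hqx
    have hqx' : q x = x := hqx
    rw [mem_bot]
    apply Subtype.ext
    rcases sq_of_eight hα hβ hc ha (eight_of_mem hα hβ hc ha hq) with h | h | h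
    · exact h
    · exact absurd (h ▸ hqx') hx
    · exfalso
      apply hx
      rw [← h, Perm.mul_apply, hqx', hqx']
  have h2 : Nat.card (MulAction.orbit (closure ({α, β} : Set (Perm X))) x) *
      Nat.card (MulAction.stabilizer (closure ({α, β} : Set (Perm X))) x) =
      Nat.card (closure ({α, β} : Set (Perm X))) := by
    rw [Nat.card_eq_fintype_card, Nat.card_eq_fintype_card, Nat.card_eq_fintype_card]
    exact h1
  rw [hstab, card_bot, mul_one, card_closure hα hβ hc ha ha1] at h2
  exact h2

omit [Fintype X] [DecidableEq X] in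
theorem orbit_subset (hα : α * α = a) (hβ : β * β = a) {x : X}
    (hx : a x ≠ x) : MulAction.orbit (closure ({α, β} : Set (Perm X))) x ⊆ {y | a y ≠ y} := by
  rintro _ ⟨⟨q, hq⟩, rfl⟩
  show a (q x) ≠ q x
  have hqa : a * q = q * a := by
    have : q ∈ centralizer ({a} : Set (Perm X)) := by
      refine closure_le (centralizer ({a} : Set (Perm X))) |>.2 ?_ hq
      rintro y (rfl | rfl)
      · exact mem_centralizer_singleton_iff.2 (by rw [← hα, mul_assoc])
      · exact mem_centralizer_singleton_iff.2 (by rw [← hβ, mul_assoc])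
    exact (mem_centralizer_singleton_iff.1 this).symm
  rw [← Perm.mul_apply, hqa, Perm.mul_apply]
  exact fun h => hx (q.injective h)

/-- In degree less than 16 the moved points of `a` form a single regular orbit. -/
theorem orbit_eq (hX : Fintype.card X < 16) (hα : α * α = a) (hβ : β * β = a) (hc : β * α = α * β * a)
    (ha : a * a = 1) {x : X} (hx : a x ≠ x) :
    MulAction.orbit (closure ({α, β} : Set (Perm X))) x = {y | a y ≠ y} := by
  apply Set.Subset.antisymm (orbit_subset hα hβ hx)
  intro y hy
  by_contra hxy
  have hd : Disjoint (MulAction.orbit (closure ({α, β} : Set (Perm X))) x)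
      (MulAction.orbit (closure ({α, β} : Set (Perm X))) y) := by
    rw [Set.disjoint_left]
    intro w hw hw'
    apply hxy
    have e1 := MulAction.orbit_eq_iff.2 hw
    have e2 := MulAction.orbit_eq_iff.2 hw'
    rw [← e1, e2]
    exact MulAction.mem_orbit_self y
  have h1 := Set.ncard_union_eq hd
  rw [ncard_orbit hα hβ hc ha hx, ncard_orbit hα hβ hc ha hy] at h1
  have h2 := Set.ncard_le_card (MulAction.orbit (closure ({α, β} : Set (Perm X))) x ∪
      MulAction.orbit (closure ({α, β} : Set (Perm X))) y)
  rw [h1, Nat.card_eq_fintype_card] at h2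
  omega

theorem card_support (hX : Fintype.card X < 16) (hα : α * α = a) (hβ : β * β = a) (hc : β * α = α * β * a)
    (ha : a * a = 1) (ha1 : a ≠ 1) : a.support.card = 8 := by
  obtain ⟨x, hx⟩ : ∃ x, a x ≠ x := by
    by_contra h
    push Not at h
    exact ha1 (Equiv.ext h)
  have h1 := ncard_orbit hα hβ hc ha hx
  rw [orbit_eq hX hα hβ hc ha hx] at h1
  rw [← h1, ← Set.ncard_coe_finset]
  congr 1
  ext y
  simp

/-- A permutation of odd order commuting with the quaternion group fixes all points moved by `a`. -/
theorem fix_of_odd (hX : Fintype.card X < 16) (hα : α * α = a) (hβ : β * β = a) (hc : β * α = α * β * a)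
    (ha : a * a = 1) {ψ : Perm X} (h1 : ψ * α = α * ψ) (h2 : ψ * β = β * ψ) (hψ : Odd (orderOf ψ)) {x : X}
    (hx : a x ≠ x) : ψ x = x := by
  have hψa : ψ * a = a * ψ := by rw [← hα, ← mul_assoc, h1, mul_assoc, h1, mul_assoc]
  have hmem : ψ x ∈ MulAction.orbit (closure ({α, β} : Set (Perm X))) x := by
    rw [orbit_eq hX hα hβ hc ha hx]
    show a (ψ x) ≠ ψ x
    rw [← Perm.mul_apply, ← hψa, Perm.mul_apply]
    exact fun h => hx (ψ.injective h)
  obtain ⟨⟨q, hq⟩, hqx⟩ := hmem
  have hqx' : q x = ψ x := hqx
  have hqψ : ψ * q = q * ψ := by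
    have : q ∈ centralizer ({ψ} : Set (Perm X)) := by
      refine closure_le (centralizer ({ψ} : Set (Perm X))) |>.2 ?_ hq
      rintro y (rfl | rfl)
      · exact mem_centralizer_singleton_iff.2 h1.symm
      · exact mem_centralizer_singleton_iff.2 h2.symm
    exact (mem_centralizer_singleton_iff.1 this).symm
  have hq4 : q * q * (q * q) = 1 := by
    rcases sq_of_eight hα hβ hc ha (eight_of_mem hα hβ hc ha hq) with h | h | h
    · rw [h]; simp
    · rw [h, ha, mul_one]
    · rw [h, ha]
  have e2 : ψ (ψ x) = q (q x) := by
    rw [← hqx', ← Perm.mul_apply ψ q, hqψ, Perm.mul_apply, ← hqx']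
  have e4 : ψ (ψ (ψ (ψ x))) = x := by
    have h3 : ∀ y, ψ (q y) = q (ψ y) := fun y => by rw [← Perm.mul_apply, hqψ, Perm.mul_apply]
    rw [e2]
    simp only [h3]
    rw [e2]
    have := congrArg (fun p : Perm X => p x) hq4
    simpa [Perm.mul_apply] using this
  have h4 : (ψ ^ 4) x = x := by
    rw [show ψ ^ 4 = ψ * ψ * ψ * ψ by simp [pow_succ]]
    exact e4
  have hcop : Nat.Coprime 4 (orderOf ψ) := by
    rw [show 4 = 2 ^ 2 by norm_num]
    exact Nat.Coprime.pow_left 2 (Nat.coprime_two_left.2 hψ)
  obtain ⟨m, hm⟩ := exists_pow_eq_self_of_coprime hcop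
  rw [← hm]
  have : ∀ k : ℕ, ((ψ ^ 4) ^ k) x = x := by
    intro k
    induction k with
    | zero => simp
    | succ k ih => rw [pow_succ, Perm.mul_apply, h4, ih]
  exact this m

end Cfsg.Agent.StandardComponent.AltQuat
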