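import Cfsg.Prelude.Def_Involutions
import Cfsg.Prelude.Def_CaseTheorems
import Cfsg.Agent.Lib.Cores

/-!
# Killing the core of an involution centralizer by strong embedding

`G` simple with one class of involutions, `D` a normal subgroup of odd order of `C_G(z)` such that `D = D^g` whenever
`z` and `z^g` commute. Then `N_G(D)` is strongly embedded if `D ≠ 1`. Hence `D = 1` if strongly embedded subgroups
have `O(H) ≤ O(G)` (statement S1221).
-/

set_option autoImplicit false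

namespace Cfsg.Agent.StandardComponent.CoreClose

open Subgroup
open scoped Pointwise

variable {G : Type*} [Group G] [Finite G]

theorem mem_normalizer_of_le (D : Subgroup G) (g : G) (h : ∀ d ∈ D, g * d * g⁻¹ ∈ D) :
    g ∈ normalizer (D : Set G) := by
  have h1 : D.map (MulAut.conj g).toMonoidHom ≤ D := by
    rintro _ ⟨d, hd, rfl⟩
    exact h d hd
  have h2 : D.map (MulAut.conj g).toMonoidHom = D := by
    apply Subgroup.eq_of_le_of_card_ge h1
    exact (Nat.card_congr (D.equivMapOfInjective _ (MulAut.conj g).injective).toEquiv).le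
  rw [mem_normalizer_iff]
  intro x
  constructor
  · exact h x
  · intro hx
    have hx' : g * x * g⁻¹ ∈ D.map (MulAut.conj g).toMonoidHom := by rw [h2]; exact hx
    obtain ⟨d, hd, hdx⟩ := hx'
    have h3 : g * d * g⁻¹ = g * x * g⁻¹ := hdx
    have h4 : d = x := by
      have := mul_right_cancel h3
      exact mul_left_cancel this
    rwa [← h4]

omit [Finite G] in
/-- An element of order two in a finite group gives even order. -/
theorem even_card_of_mem {H : Subgroup G} {u : G} (hu : orderOf u = 2) (huH : u ∈ H) :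
    Even (Nat.card H) := by
  have h1 : orderOf (⟨u, huH⟩ : H) ∣ Nat.card H := orderOf_dvd_natCard _
  rw [Subgroup.orderOf_mk, hu] at h1
  exact even_iff_two_dvd.mpr h1

omit [Finite G] in
theorem orderOf_conj' (g u : G) (hu : orderOf u = 2) : orderOf (g * u * g⁻¹) = 2 := by
  rw [← hu]
  exact orderOf_injective (MulAut.conj g).toMonoidHom (MulAut.conj g).injective u

/-- The normalizer of `D` contains every `g` with `z^g` in it. -/
theorem mem_of_conj_mem {z : G} (hz : orderOf z = 2)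
    (hone : ∀ u : G, orderOf u = 2 → ∃ g, u = g * z * g⁻¹) (D : Subgroup G)
    (hDz : ∀ y, y * z = z * y → ∀ d ∈ D, y * d * y⁻¹ ∈ D)
    (hD : ∀ g, g * z * g⁻¹ * z = z * (g * z * g⁻¹) → ∀ d ∈ D, g * d * g⁻¹ ∈ D) (g : G)
    (hg : g * z * g⁻¹ ∈ normalizer (D : Set G)) : g ∈ normalizer (D : Set G) := by
  classical
  have : Fact (Nat.Prime 2) := ⟨Nat.prime_two⟩
  set H := normalizer (D : Set G) with hH
  have hCz : ∀ y, y * z = z * y → y ∈ H := fun y hy => mem_normalizer_of_le D y (hDz y hy)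
  have hcomm : ∀ g, g * z * g⁻¹ * z = z * (g * z * g⁻¹) → g ∈ H := fun g hg =>
    mem_normalizer_of_le D g (hD g hg)
  have hzH : z ∈ H := hCz z rfl
  -- Sylow subgroup of H containing z
  have hzp : IsPGroup 2 (zpowers (⟨z, hzH⟩ : H)) := by
    rw [IsPGroup.iff_card]
    refine ⟨1, ?_⟩
    rw [Nat.card_zpowers, Subgroup.orderOf_mk, hz, pow_one]
  obtain ⟨P, hP⟩ := hzp.exists_le_sylow
  have hzP : (⟨z, hzH⟩ : H) ∈ P := hP (mem_zpowers _)
  set P' : Subgroup G := (P : Subgroup H).map H.subtype with hP'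
  have hP'p : IsPGroup 2 P' := P.2.map H.subtype
  have hzP' : z ∈ P' := ⟨⟨z, hzH⟩, hzP, rfl⟩
  obtain ⟨T, hT⟩ := hP'p.exists_le_sylow
  -- central involution of T
  have hTne : (T : Subgroup G) ≠ ⊥ := by
    intro h
    have : z ∈ (⊥ : Subgroup G) := by rw [← h]; exact hT hzP'
    rw [mem_bot] at this
    rw [this, orderOf_one] at hz
    exact absurd hz (by decide)
  have : Nontrivial T := (Subgroup.nontrivial_iff_ne_bot _).2 hTne
  have hcen : Nontrivial (center T) := T.2.center_nontrivial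
  have hcp : IsPGroup 2 (center T) := T.2.to_subgroup _
  obtain ⟨n, hn0, hn⟩ := (IsPGroup.nontrivial_iff_card hcp).1 hcen
  have h2 : 2 ∣ Nat.card (center T) := by
    rw [hn]
    exact dvd_pow_self 2 (by omega)
  obtain ⟨t, ht⟩ := exists_prime_orderOf_dvd_card' 2 h2
  set t' : G := ((t : T) : G) with ht'
  have ht'2 : orderOf t' = 2 := by
    rw [← ht, ht']
    rw [Subgroup.orderOf_coe, Subgroup.orderOf_coe]
  obtain ⟨k, hk⟩ := hone t' ht'2
  have htc : ∀ y ∈ P', y * t' = t' * y := by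
    intro y hy
    have h1 : (⟨y, hT hy⟩ : T) * t = t * ⟨y, hT hy⟩ := mem_center_iff.1 t.2 _
    exact congrArg Subtype.val h1
  -- k ∈ H
  have hkH : k ∈ H := by
    apply hcomm
    rw [← hk]
    exact (htc z hzP').symm
  -- conj of z^g into P'
  have hup : IsPGroup 2 (zpowers (⟨g * z * g⁻¹, hg⟩ : H)) := by
    rw [IsPGroup.iff_card]
    refine ⟨1, ?_⟩
    rw [Nat.card_zpowers, Subgroup.orderOf_mk, orderOf_conj' g z hz, pow_one]
  obtain ⟨Q, hQ⟩ := hup.exists_le_sylow
  obtain ⟨c, hc⟩ := MulAction.exists_smul_eq H Q P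
  have huP : (c : G) * (g * z * g⁻¹) * (c : G)⁻¹ ∈ P' := by
    have h1 : (⟨g * z * g⁻¹, hg⟩ : H) ∈ (Q : Subgroup H) := hQ (mem_zpowers _)
    have h2 : c * ⟨g * z * g⁻¹, hg⟩ * c⁻¹ ∈ (P : Subgroup H) := by
      rw [← hc]
      exact ⟨_, h1, rfl⟩
    exact ⟨_, h2, rfl⟩
  have h3 := htc _ huP
  rw [hk] at h3
  have h4 : k⁻¹ * c * g ∈ H := by
    apply hcomm
    calc k⁻¹ * c * g * z * (k⁻¹ * c * g)⁻¹ * z
        = k⁻¹ * ((c : G) * (g * z * g⁻¹) * (c : G)⁻¹ * (k * z * k⁻¹)) * k := by group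
      _ = k⁻¹ * (k * z * k⁻¹ * ((c : G) * (g * z * g⁻¹) * (c : G)⁻¹)) * k := by rw [h3]
      _ = z * (k⁻¹ * c * g * z * (k⁻¹ * c * g)⁻¹) := by group
  have h5 : g = (c : G)⁻¹ * k * (k⁻¹ * c * g) := by group
  rw [h5]
  exact mul_mem (mul_mem (inv_mem c.2) hkH) h4

theorem isStronglyEmbedded [IsSimpleGroup G] {z : G} (hz : orderOf z = 2)
    (hone : ∀ u : G, orderOf u = 2 → ∃ g, u = g * z * g⁻¹) (D : Subgroup G)
    (hDodd : Odd (Nat.card D)) (hDne : D ≠ ⊥)
    (hDz : ∀ y, y * z = z * y → ∀ d ∈ D, y * d * y⁻¹ ∈ D)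
    (hD : ∀ g, g * z * g⁻¹ * z = z * (g * z * g⁻¹) → ∀ d ∈ D, g * d * g⁻¹ ∈ D) :
    Cfsg.IsStronglyEmbedded (normalizer (D : Set G)) := by
  set H := normalizer (D : Set G) with hH
  have hzH : z ∈ H := mem_normalizer_of_le D z (hDz z rfl)
  have key := fun g => mem_of_conj_mem hz hone D hDz hD g
  refine ⟨?_, even_card_of_mem hz hzH, ?_⟩
  · intro htop
    have hn : D.Normal := normalizer_eq_top_iff.1 htop
    rcases hn.eq_bot_or_eq_top with h | h
    · exact hDne h
    · have h1 : z ∈ D := by rw [h]; trivial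
      exact (Nat.not_even_iff_odd.mpr hDodd) (even_card_of_mem hz h1)
  · intro g hg
    rw [← Nat.not_even_iff_odd]
    intro hev
    have : Fact (Nat.Prime 2) := ⟨Nat.prime_two⟩
    obtain ⟨u, hu⟩ := exists_prime_orderOf_dvd_card' 2 (even_iff_two_dvd.mp hev)
    have hu' : orderOf (u : G) = 2 := by rw [Subgroup.orderOf_coe]; exact hu
    obtain ⟨a, ha⟩ := hone (u : G) hu'
    have h1 : a ∈ H := by
      apply key
      rw [← ha]
      exact u.2.1
    obtain ⟨v, hv, hvu⟩ := u.2.2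
    have hvu' : g * v * g⁻¹ = (u : G) := hvu
    have h2 : g⁻¹ * a ∈ H := by
      apply key
      have h3 : g⁻¹ * a * z * (g⁻¹ * a)⁻¹ = v := by
        calc g⁻¹ * a * z * (g⁻¹ * a)⁻¹ = g⁻¹ * (a * z * a⁻¹) * g := by group
          _ = g⁻¹ * (g * v * g⁻¹) * g := by rw [← ha, hvu']
          _ = v := by group
      rw [h3]
      exact hv
    apply hg
    have h4 : g = a * (g⁻¹ * a)⁻¹ := by group
    rw [h4]
    exact mul_mem h1 (inv_mem h2)

/-- **Core killing by strong embedding.** -/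
theorem eq_bot [IsSimpleGroup G]
    (hSE : ∀ H : Subgroup G, Cfsg.IsStronglyEmbedded H → (Cfsg.oddCore ↥H).map H.subtype ≤ Cfsg.oddCore G)
    {z : G} (hz : orderOf z = 2)
    (hone : ∀ u : G, orderOf u = 2 → ∃ g, u = g * z * g⁻¹) (D : Subgroup G)
    (hDodd : Odd (Nat.card D))
    (hDz : ∀ y, y * z = z * y → ∀ d ∈ D, y * d * y⁻¹ ∈ D)
    (hD : ∀ g, g * z * g⁻¹ * z = z * (g * z * g⁻¹) → ∀ d ∈ D, g * d * g⁻¹ ∈ D) : D = ⊥ := by
  by_contra hDne
  have hse := isStronglyEmbedded hz hone D hDodd hDne hDz hD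
  have h1 := hSE _ hse
  have hO : Cfsg.oddCore G = ⊥ := by
    have hn : (Cfsg.pPrimeCore 2 G).Normal := Cfsg.Agent.Lib.Cores.pPrimeCore_normal 2
    rcases hn.eq_bot_or_eq_top with h | h
    · exact h
    · exfalso
      have h2 := Cfsg.Agent.Lib.Cores.pPrimeCore_coprime (G := G) 2
      rw [h, Nat.coprime_two_right] at h2
      have h3 : z ∈ (⊤ : Subgroup G) := trivial
      exact (Nat.not_even_iff_odd.mpr h2) (even_card_of_mem hz h3)
  rw [hO] at h1
  apply hDne
  rw [eq_bot_iff]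
  refine le_trans ?_ h1
  -- D ≤ O(N(D))
  have hDH : D ≤ normalizer (D : Set G) := le_normalizer
  have h2 : (D.subgroupOf (normalizer (D : Set G))).Normal := normal_in_normalizer
  have h3 : Nat.card (D.subgroupOf (normalizer (D : Set G))) = Nat.card D :=
    Nat.card_congr (Subgroup.subgroupOfEquivOfLe hDH).toEquiv
  have h4 : D.subgroupOf (normalizer (D : Set G)) ≤ Cfsg.pPrimeCore 2 (normalizer (D : Set G)) :=
    Cfsg.Agent.Lib.Cores.le_pPrimeCore h2 (by rw [h3]; exact Nat.coprime_two_right.2 hDodd)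
  intro d hd
  exact ⟨⟨d, hDH hd⟩, h4 hd, rfl⟩

end Cfsg.Agent.StandardComponent.CoreClose
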