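import Cfsg.Agent.StandardComponent.SpTwo
import Cfsg.Agent.SporRec.TwoSp6.Sp

/-!
The concrete group `Sp_6(2)` with its natural module as a `SpTwo.SpData`.
-/

set_option autoImplicit false

namespace Cfsg.Agent.StandardComponent.SpTwoModel

open Cfsg.Agent.SporRec.TwoSp6
open Cfsg.Agent.ClassicalGeometry.SympBasic

/-- The action of `Sp_6(2)` on its natural module. -/
noncomputable def rep : Matrix.symplecticGroup (Fin 3) (ZMod 2) →* Module.End (ZMod 2) (Fin 3 ⊕ Fin 3 → ZMod 2) where
  toFun g := Matrix.mulVecLin (g : Matrix (Fin 3 ⊕ Fin 3) (Fin 3 ⊕ Fin 3) (ZMod 2))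
  map_one' := Matrix.mulVecLin_one
  map_mul' g h := Matrix.mulVecLin_mul _ _

theorem rep_apply (g : Matrix.symplecticGroup (Fin 3) (ZMod 2)) (x : Fin 3 ⊕ Fin 3 → ZMod 2) :
    rep g x = Sp.act g x := rfl

/-- The symplectic form as a bilinear map. -/
noncomputable def form : (Fin 3 ⊕ Fin 3 → ZMod 2) →ₗ[ZMod 2] (Fin 3 ⊕ Fin 3 → ZMod 2) →ₗ[ZMod 2] ZMod 2 :=
  LinearMap.mk₂ (ZMod 2) (fun u v => Sp.om u v) (fun u v w => Sp.om_add' u v w)
    (fun c u v => by
      rcases SpTwo.z2 c with rfl | rfl
      · rw [zero_smul, zero_smul]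
        have h := Sp.om_add' 0 0 v
        rw [add_zero] at h
        have h2 : Sp.om 0 v + 0 = Sp.om 0 v + Sp.om 0 v := by rw [add_zero]; exact h
        exact (add_left_cancel h2).symm
      · rw [one_smul, one_smul])
    (fun u v w => Sp.om_add u v w)
    (fun c u v => by
      rcases SpTwo.z2 c with rfl | rfl
      · rw [zero_smul, zero_smul]
        have h := Sp.om_add u 0 0
        rw [add_zero] at h
        have h2 : Sp.om u 0 + 0 = Sp.om u 0 + Sp.om u 0 := by rw [add_zero]; exact h
        exact (add_left_cancel h2).symm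
      · rw [one_smul, one_smul])

theorem form_apply (u v : Fin 3 ⊕ Fin 3 → ZMod 2) : form u v = Sp.om u v := rfl

/-- `Sp_6(2)` with its natural module. -/
noncomputable def data : SpTwo.SpData (Matrix.symplecticGroup (Fin 3) (ZMod 2)) (Fin 3 ⊕ Fin 3 → ZMod 2) where
  B := form
  ρ := rep
  alt v := by rw [form_apply]; exact Sp.om_self v
  nondeg v h := by
    by_contra hv
    obtain ⟨a, ha⟩ := Sp.exists_om_one hv
    have := h a
    rw [form_apply, ha] at this
    exact one_ne_zero this
  inv g u v := by rw [form_apply, form_apply, rep_apply, rep_apply]; exact Sp.act_om g u v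
  inj g h hgh := Sp.act_ext fun x => by
    have := LinearMap.congr_fun hgh x
    rwa [rep_apply, rep_apply] at this
  τ w := Sp.tr w
  hτ w v := by rw [rep_apply, form_apply]; exact Sp.act_tr w v

theorem card_V : Nat.card (Fin 3 ⊕ Fin 3 → ZMod 2) = 64 := by
  rw [Nat.card_eq_fintype_card, Fintype.card_fun, ZMod.card, Fintype.card_sum, Fintype.card_fin]
  norm_num

end Cfsg.Agent.StandardComponent.SpTwoModel
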