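import Cfsg.Agent.StandardComponent.SpTwo

/-!
Four-groups of `Sp_6(2)` whose involutions have centralizers almost contained in the centralizer of one of them.
-/

set_option autoImplicit false

namespace Cfsg.Agent.StandardComponent.SpTwoFour

open Cfsg.Agent.StandardComponent.SpTwo
open Cfsg.Agent.StandardComponent.SpTwo.SpData

variable {X V : Type*} [Group X] [AddCommGroup V] [Module (ZMod 2) V] (D : SpData X V)

omit [Group X] in
theorem eq_of_one_smul {u v : V} (h : (1 : ZMod 2) • u = (1 : ZMod 2) • v) : u = v := by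
  simpa using h

theorem card_sdiff [Finite V] {S T : Submodule (ZMod 2) V} (h : S < T) :
    Nat.card T ≤ 2 * ((T : Set V) \ (S : Set V)).ncard := by
  have h1 := two_mul_card_le h
  have h2 : ((T : Set V) \ (S : Set V)).ncard = Nat.card T - Nat.card S := by
    rw [Set.ncard_sdiff h.le (Set.toFinite _), ← Nat.card_coe_set_eq, ← Nat.card_coe_set_eq]
    rfl
  omega

/-- separation from a submodule -/
theorem exists_sep_sub [Finite V] {S : Submodule (ZMod 2) V} {c : V} (hc : c ∉ S) :
    ∃ v, (∀ s ∈ S, D.B v s = 0) ∧ D.B v c = 1 := by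
  obtain ⟨f, hf1, hf2⟩ := Submodule.exists_dual_map_eq_bot_of_notMem hc inferInstance
  have hinj : Function.Injective D.B := by
    rw [injective_iff_map_eq_zero]
    intro u hu
    apply D.nondeg
    intro w
    rw [hu]; rfl
  have : Module.Finite (ZMod 2) V := Module.Finite.of_finite
  have hsurj : Function.Surjective D.B := by
    have := (LinearMap.injective_iff_surjective_of_finrank_eq_finrank
      (f := D.B) (Subspace.dual_finrank_eq).symm).1 hinj
    exact this
  obtain ⟨v, hv⟩ := hsurj f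
  refine ⟨v, fun s hs => ?_, ?_⟩
  · rw [hv]
    have : f s ∈ S.map f := ⟨s, hs, rfl⟩
    rw [hf2] at this
    exact this
  · rw [hv]
    rcases SpTwo.z2 (f c) with h | h
    · exact absurd h hf1
    · exact h

theorem exists_sep_two [Finite V] {p q r : V} (h0 : r ≠ 0) (h1 : r ≠ p) (h2 : r ≠ q) (h3 : r ≠ p + q) :
    ∃ v, D.B v p = 0 ∧ D.B v q = 0 ∧ D.B v r = 1 := by
  have : r ∉ Submodule.span (ZMod 2) {p, q} := by
    intro h
    obtain ⟨a, b, hab⟩ := Submodule.mem_span_pair.1 h
    rcases z2 a with rfl | rfl <;> rcases z2 b with rfl | rfl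
    · apply h0; rw [← hab]; simp
    · apply h2; rw [← hab]; simp
    · apply h1; rw [← hab]; simp
    · apply h3; rw [← hab]; simp
  obtain ⟨v, hv1, hv2⟩ := exists_sep_sub D this
  exact ⟨v, hv1 _ (Submodule.subset_span (by simp)), hv1 _ (Submodule.subset_span (by simp)), hv2⟩

theorem mem_of_perp [Finite V] {p q r : V} (h : ∀ v, D.B v p = 0 → D.B v q = 0 → D.B v r = 0) :
    r = 0 ∨ r = p ∨ r = q ∨ r = p + q := by
  by_contra hcon
  push Not at hcon
  obtain ⟨v, hv1, hv2, hv3⟩ := exists_sep_two D hcon.1 hcon.2.1 hcon.2.2.1 hcon.2.2.2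
  rw [h v hv1 hv2] at hv3
  exact absurd hv3 (by decide)

theorem fix_sub [Finite V] (hV : Nat.card V = 64) {a b : X} (ha : a * a = 1)
    (hb : b * b = 1)
    (h1 : ∀ x1 x2 : X, Commute x1 a → Commute x2 a → ¬ Commute x1 b → ¬ Commute x2 b →
      Commute (x1 * x2) b) {w : V} (hw : D.ρ a w = w) : D.ρ b w = w := by
  by_contra hbw
  have hlt : LinearMap.ker (D.n a) ⊓ LinearMap.ker (D.n b) < LinearMap.ker (D.n a) := by
    refine lt_of_le_of_ne inf_le_left (fun h => hbw ?_)
    have : w ∈ LinearMap.ker (D.n a) ⊓ LinearMap.ker (D.n b) := by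
      rw [h]; exact D.mem_ker.2 hw
    exact D.mem_ker.1 this.2
  have h2 := card_sdiff hlt
  have h3 := D.eight_le hV ha
  have hsub : (LinearMap.ker (D.n a) : Set V) \
      ((LinearMap.ker (D.n a) ⊓ LinearMap.ker (D.n b) : Submodule (ZMod 2) V) : Set V) ⊆ {w, D.ρ b w} := by
    rintro u ⟨hu1, hu2⟩
    by_cases huw : u = w
    · simp [huw]
    right
    have hua : D.ρ a u = u := D.mem_ker.1 hu1
    have hub : D.ρ b u ≠ u := fun h => hu2 ⟨hu1, D.mem_ker.2 h⟩
    have h4 := h1 (D.τ w) (D.τ u) (D.τ_commute_of_fix hw) (D.τ_commute_of_fix hua)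
      (fun h => hbw (D.fix_of_τ_commute h)) (fun h => hub (D.fix_of_τ_commute h))
    have h5 : D.τ w * D.τ u = D.τ (D.ρ b w) * D.τ (D.ρ b u) := by
      rw [← D.conj_τ b w, ← D.conj_τ b u]
      calc D.τ w * D.τ u = (D.τ w * D.τ u) * b * b⁻¹ := by group
        _ = b * (D.τ w * D.τ u) * b⁻¹ := by rw [h4.eq]
        _ = _ := by group
    have hne0 : D.ρ b w ≠ 0 := by
      intro h
      apply hbw
      have h0 : w = 0 := by
        apply D.ρ_inj b
        rw [h, map_zero]
      rw [h0, map_zero]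
    rcases D.mem_of_ττ_eq hne0 (fun h => huw (D.ρ_inj b h).symm) h5 with h | h | h
    · exact absurd h hbw
    · exact h.symm
    · exfalso
      apply hub
      have h6 : u = w + D.ρ b w := by rw [h, aac]
      rw [h6, map_add, ← D.ρ_mul, hb, D.ρ_one, add_comm]
  have h6 := (Set.ncard_le_ncard hsub (Set.toFinite _)).trans (Set.ncard_insert_le _ _)
  rw [Set.ncard_singleton] at h6
  omega

/-- The symmetric form attached to an involution. -/
def β (x : X) (u v : V) : ZMod 2 := D.B u (D.n x v)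

theorem β_symm {x : X} (hx : x * x = 1) (u v : V) : β D x u v = β D x v u := by
  unfold β
  rw [D.n_adj hx, D.symm]

theorem β_add_left (x : X) (u v w : V) : β D x (u + v) w = β D x u w + β D x v w := by
  unfold β; rw [map_add]; rfl

theorem β_add_right (x : X) (u v w : V) : β D x u (v + w) = β D x u v + β D x u w := by
  unfold β; rw [map_add, map_add]

theorem β_smul_left (x : X) (c : ZMod 2) (u w : V) : β D x (c • u) w = c * β D x u w := by
  unfold β; rw [map_smul]; rfl

theorem β_smul_right (x : X) (c : ZMod 2) (u w : V) : β D x u (c • w) = c * β D x u w := by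
  unfold β; rw [map_smul, map_smul]; rfl

theorem β_fix_right {x : X} (u : V) {f : V} (hf : D.ρ x f = f) : β D x u f = 0 := by
  unfold β; rw [D.n_eq_zero.2 hf, map_zero]

theorem β_fix_left {x : X} (hx : x * x = 1) (u : V) {f : V} (hf : D.ρ x f = f) : β D x f u = 0 := by
  rw [β_symm D hx, β_fix_right D u hf]

theorem fix_of_β {x : X} {z : V} (h : ∀ u, β D x u z = 0) : D.ρ x z = z := by
  rw [← D.n_eq_zero]
  apply D.nondeg
  intro w
  rw [D.symm]
  exact h w

theorem n_mul {a b : X} {v : V} (h : D.ρ a (D.n b v) = D.n b v) :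
    D.n (a * b) v = D.n a v + D.n b v := by
  rw [D.n_apply (a * b), D.ρ_mul, D.ρ_eq b, map_add, h, D.n_apply a]
  abel

theorem n_fix {a b : X} (ha : a * a = 1) (hb : b * b = 1) (hF : ∀ w, D.ρ a w = w → D.ρ b w = w)
    (v : V) : D.ρ a (D.n b v) = D.n b v :=
  D.perp_ker ha (fun f hf => D.B_n_ker hb v (hF f hf))

/-- The element `τ z τ (a z)`. -/
def δ (a : X) (z : V) : X := D.τ z * D.τ (D.ρ a z)

theorem B_of_β {a : X} {z : V} (hz : β D a z z = 0) : D.B z (D.ρ a z) = 0 := by
  rw [D.ρ_eq a z, map_add, D.alt, zero_add]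
  exact hz

theorem δ_comm {a : X} (ha : a * a = 1) {z : V} (hz : β D a z z = 0) : Commute (δ D a z) a := by
  have h : a * δ D a z * a⁻¹ = δ D a z := by
    unfold δ
    rw [show a * (D.τ z * D.τ (D.ρ a z)) * a⁻¹ = (a * D.τ z * a⁻¹) * (a * D.τ (D.ρ a z) * a⁻¹) by group,
      D.conj_τ, D.conj_τ, ← D.ρ_mul, ha, D.ρ_one]
    exact (D.τ_commute (B_of_β D hz)).symm
  exact (mul_inv_eq_iff_eq_mul.1 h).symm

theorem δ_apply {a : X} {z : V} (hz : β D a z z = 0) (v : V) :
    D.ρ (δ D a z) v = v + β D a v z • z + D.B v (D.ρ a z) • D.n a z := by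
  unfold δ
  rw [D.ττ, D.symm (D.ρ a z) z, B_of_β D hz, mul_zero, add_zero]
  have h1 : β D a v z = D.B v (D.ρ a z) + D.B v z := by
    unfold β; rw [D.n_apply, map_add]
  rw [h1, D.n_apply]
  rw [add_smul, smul_add]
  rw [show v + (D.B v (D.ρ a z) • z + D.B v z • z) + (D.B v (D.ρ a z) • D.ρ a z + D.B v (D.ρ a z) • z) =
    v + D.B v (D.ρ a z) • D.ρ a z + D.B v z • z + (D.B v (D.ρ a z) • z + D.B v (D.ρ a z) • z) by abel, aa, add_zero]

theorem fix_of_δ_comm {a b : X} (ha : a * a = 1) (hb : b * b = 1)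
    (hF : ∀ w, D.ρ a w = w → D.ρ b w = w) (hFc : ∀ w, D.ρ (a * b) w = w → D.ρ a w = w)
    {z : V} (hz : D.ρ a z ≠ z) (h : Commute (δ D a z) b) : D.ρ b z = z := by
  have h1 : D.τ z * D.τ (D.ρ a z) = D.τ (D.ρ b z) * D.τ (D.ρ b (D.ρ a z)) := by
    rw [← D.conj_τ b z, ← D.conj_τ b (D.ρ a z)]
    calc D.τ z * D.τ (D.ρ a z) = (D.τ z * D.τ (D.ρ a z)) * b * b⁻¹ := by group
      _ = b * (D.τ z * D.τ (D.ρ a z)) * b⁻¹ := by
          have := h.eq
          unfold δ at this
          rw [this]
      _ = _ := by group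
  have hz0 : z ≠ 0 := by
    rintro rfl
    exact hz (map_zero _)
  have hbz0 : D.ρ b z ≠ 0 := by
    intro h
    apply hz0
    apply D.ρ_inj b
    rw [h, map_zero]
  rcases D.mem_of_ττ_eq hbz0 (fun h => hz (D.ρ_inj b h).symm) h1 with h | h | h
  · exact h
  · exfalso
    apply hz
    apply hFc
    rw [D.ρ_mul, h, ← D.ρ_mul, ha, D.ρ_one]
  · exfalso
    have h2 : D.ρ b z = D.n a z := by rw [h, D.n_apply, add_comm]
    have h3 : D.ρ a (D.n a z) = D.n a z := D.n_ρ ha z
    have h4 : D.ρ b (D.ρ b z) = D.ρ b z := by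
      rw [h2]; exact hF _ h3
    rw [← D.ρ_mul, hb, D.ρ_one] at h4
    apply hz
    rw [h4, h2, h3]

/-- `δ z1 δ z2` modulo the fixed space of `a`. -/
theorem δδ_apply {a : X} (ha : a * a = 1) {z1 z2 : V} (hz1 : β D a z1 z1 = 0) (hz2 : β D a z2 z2 = 0)
    (h12 : β D a z1 z2 = 1) (v : V) : ∃ f, D.ρ a f = f ∧
      D.ρ (δ D a z1 * δ D a z2) v = v + β D a v z2 • z2 + (β D a v z1 + β D a v z2) • z1 + f := by
  have h21 : β D a z2 z1 = 1 := by rw [β_symm D ha, h12]
  refine ⟨D.B v (D.ρ a z2) • D.n a z2 +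
    D.B (v + β D a v z2 • z2 + D.B v (D.ρ a z2) • D.n a z2) (D.ρ a z1) • D.n a z1, ?_, ?_⟩
  · rw [map_add, map_smul, map_smul, D.n_ρ ha, D.n_ρ ha]
  · rw [D.ρ_mul, δ_apply D hz2, δ_apply D hz1]
    have h1 : β D a (v + β D a v z2 • z2 + D.B v (D.ρ a z2) • D.n a z2) z1 = β D a v z1 + β D a v z2 := by
      rw [β_add_left, β_add_left, β_smul_left, β_smul_left, h21, β_fix_left D ha _ (D.n_ρ ha z2)]
      ring
    rw [h1]
    abel

theorem β_comm_inv {b g : X} (h : Commute g b) (u v : V) :
    β D b (D.ρ g u) (D.ρ g v) = β D b u v := by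
  unfold β
  have : D.n b (D.ρ g v) = D.ρ g (D.n b v) := by
    rw [D.n_apply, D.n_apply, map_add, ← D.ρ_mul, ← D.ρ_mul, h.eq]
  rw [this, D.inv]

theorem no_hyp_A {a b : X} (ha : a * a = 1) (hb : b * b = 1)
    (hF : ∀ w, D.ρ a w = w → D.ρ b w = w) (hFc : ∀ w, D.ρ (a * b) w = w → D.ρ a w = w)
    (h1 : ∀ x1 x2 : X, Commute x1 a → Commute x2 a → ¬ Commute x1 b → ¬ Commute x2 b →
      Commute (x1 * x2) b) {z1 z2 : V} (hz1 : β D a z1 z1 = 0) (hz2 : β D a z2 z2 = 0)
    (h12 : β D a z1 z2 = 1) (hb1 : D.ρ b z1 ≠ z1) (hb2 : D.ρ b z2 ≠ z2) : False := by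
  have h21 : β D a z2 z1 = 1 := by rw [β_symm D ha, h12]
  have ha1 : D.ρ a z1 ≠ z1 := fun h => hb1 (hF _ h)
  have ha2 : D.ρ a z2 ≠ z2 := fun h => hb2 (hF _ h)
  have hcomm : Commute (δ D a z1 * δ D a z2) b :=
    h1 _ _ (δ_comm D ha hz1) (δ_comm D ha hz2)
      (fun h => hb1 (fix_of_δ_comm D ha hb hF hFc ha1 h))
      (fun h => hb2 (fix_of_δ_comm D ha hb hF hFc ha2 h))
  -- the form of `b` is invariant
  have key : ∀ u v : V, β D b (u + β D a u z2 • z2 + (β D a u z1 + β D a u z2) • z1)
      (v + β D a v z2 • z2 + (β D a v z1 + β D a v z2) • z1) = β D b u v := by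
    intro u v
    obtain ⟨f, hf1, hf2⟩ := δδ_apply D ha hz1 hz2 h12 u
    obtain ⟨f', hf1', hf2'⟩ := δδ_apply D ha hz1 hz2 h12 v
    have := β_comm_inv D hcomm u v
    rw [hf2, hf2', β_add_left, β_add_right, β_fix_right D _ (hF _ hf1'), β_fix_left D hb _ (hF _ hf1),
      add_zero, add_zero] at this
    exact this
  have k1 : ∀ v, β D b v z1 = β D b z1 z2 * β D a v z1 := by
    intro v
    have e11 := key z1 z1
    have e22 := key z2 z2
    have e1 := key v z1
    have e2 := key v z2
    simp only [hz1, hz2, h12, h21, zero_smul, one_smul, add_zero, zero_add] at e11 e22 e1 e2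
    have s21 : β D b z2 z1 = β D b z1 z2 := β_symm D hb _ _
    have hx1 : z1 + z2 + z1 = z2 := by rw [add_comm z1 z2, aab]
    rw [hx1] at e11 e1
    simp only [β_add_left, β_add_right, β_smul_left, s21] at e11 e22 e1 e2
    rcases SpTwo.z2 (β D b z1 z1) with h | h <;> rcases SpTwo.z2 (β D b z2 z2) with h' | h' <;>
      rcases SpTwo.z2 (β D b z1 z2) with h'' | h'' <;> rcases SpTwo.z2 (β D b v z1) with g | g <;>
      rcases SpTwo.z2 (β D b v z2) with g' | g' <;> rcases SpTwo.z2 (β D a v z1) with k | k <;>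
      rcases SpTwo.z2 (β D a v z2) with k' | k' <;>
      simp only [h, h', h'', g, g', k, k'] at e11 e22 e1 e2 ⊢ <;> revert e11 e22 e1 e2 <;> decide
  rcases SpTwo.z2 (β D b z1 z2) with h | h
  · apply hb1
    apply fix_of_β D
    intro u
    rw [k1, h, zero_mul]
  · apply ha1
    apply hFc
    have h2 : D.n b z1 = D.n a z1 := by
      apply eq_of_add
      apply D.nondeg
      intro w
      rw [D.symm, map_add]
      have := k1 w
      rw [h, one_mul] at this
      unfold β at this
      rw [this]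
      exact CharTwo.add_self_eq_zero _
    rw [← D.n_eq_zero, n_mul D (n_fix D ha hb hF z1), h2, aa]

theorem no_hyp_B [Finite V] (hV : Nat.card V = 64) {a b : X} (ha : a * a = 1) (hb : b * b = 1)
    (hb1 : b ≠ 1)
    (hF : ∀ w, D.ρ a w = w → D.ρ b w = w) (hFc : ∀ w, D.ρ (a * b) w = w → D.ρ a w = w)
    {z1 z2 : V} (hz1 : β D a z1 z1 = 0) (hz2 : β D a z2 z2 = 0)
    (h12 : β D a z1 z2 = 1) (h1 : D.ρ b z1 = z1) (h2 : D.ρ b z2 = z2) : False := by
  have h21 : β D a z2 z1 = 1 := by rw [β_symm D ha, h12]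
  obtain ⟨v, hv⟩ : ∃ v, D.n b v ≠ 0 := by
    by_contra h
    push Not at h
    exact hb1 (D.eq_one_of_n h)
  set u0 : V := v + β D a v z2 • z1 + β D a v z1 • z2 with hu0
  have hnu0 : D.n b u0 = D.n b v := by
    rw [hu0, map_add, map_add, map_smul, map_smul, D.n_eq_zero.2 h1, D.n_eq_zero.2 h2]
    simp
  have hu01 : β D a u0 z1 = 0 := by
    rw [hu0, β_add_left, β_add_left, β_smul_left, β_smul_left, hz1, h21]
    rcases SpTwo.z2 (β D a v z1) with h | h <;> rw [h] <;> simp <;> decide
  have hu02 : β D a u0 z2 = 0 := by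
    rw [hu0, β_add_left, β_add_left, β_smul_left, β_smul_left, hz2, h12]
    rcases SpTwo.z2 (β D a v z2) with h | h <;> rw [h] <;> simp <;> decide
  -- the orthogonal complement of `z1, z2`
  let L : V →ₗ[ZMod 2] (ZMod 2 × ZMod 2) :=
    LinearMap.prod (D.B.flip (D.n a z1)) (D.B.flip (D.n a z2))
  have hL : ∀ u, L u = (β D a u z1, β D a u z2) := fun u => rfl
  have hsurj : Function.Surjective L := by
    rintro ⟨c, d⟩
    refine ⟨c • z2 + d • z1, ?_⟩
    rw [hL, β_add_left, β_smul_left, β_smul_left, β_add_left, β_smul_left, β_smul_left, hz1, hz2,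
      h12, h21]
    simp
  have hK : Nat.card (LinearMap.ker L) = 16 := by
    have := card_ker_mul L
    rw [LinearMap.range_eq_top.2 hsurj, hV] at this
    have h4 : Nat.card (⊤ : Submodule (ZMod 2) (ZMod 2 × ZMod 2)) = 4 := by
      rw [Nat.card_congr (Submodule.topEquiv (R := ZMod 2) (M := ZMod 2 × ZMod 2)).toEquiv, Nat.card_prod, Nat.card_zmod]
    rw [h4] at this
    omega
  have h8 := D.eight_le hV ha
  have hS : LinearMap.ker (D.n a) ⊔ Submodule.span (ZMod 2) {u0} = LinearMap.ker L := by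
    have hle : LinearMap.ker (D.n a) ⊔ Submodule.span (ZMod 2) {u0} ≤ LinearMap.ker L := by
      apply sup_le
      · intro f hf
        rw [LinearMap.mem_ker, hL, β_fix_left D ha _ (D.mem_ker.1 hf), β_fix_left D ha _ (D.mem_ker.1 hf)]
        rfl
      · rw [Submodule.span_le]
        rintro _ rfl
        simp only [SetLike.mem_coe, LinearMap.mem_ker]
        rw [hL, hu01, hu02]
        rfl
    have hlt : LinearMap.ker (D.n a) < LinearMap.ker (D.n a) ⊔ Submodule.span (ZMod 2) {u0} := by
      refine lt_of_le_of_ne le_sup_left (fun h => hv ?_)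
      have hm : u0 ∈ LinearMap.ker (D.n a) := by
        rw [h]; exact Submodule.mem_sup_right (Submodule.mem_span_singleton_self _)
      rw [← hnu0, D.n_eq_zero]
      exact hF _ (D.mem_ker.1 hm)
    have h3 := two_mul_card_le hlt
    by_contra hne
    have h4 := two_mul_card_le (lt_of_le_of_ne hle hne)
    omega
  have hdec : ∀ u : V, ∃ f : V, ∃ c : ZMod 2, D.ρ a f = f ∧
      u = f + c • u0 + β D a u z2 • z1 + β D a u z1 • z2 := by
    intro u
    have hm : u + β D a u z2 • z1 + β D a u z1 • z2 ∈ LinearMap.ker L := by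
      rw [LinearMap.mem_ker, hL, β_add_left, β_add_left, β_smul_left, β_smul_left,
        β_add_left, β_add_left, β_smul_left, β_smul_left, hz1, hz2, h12, h21]
      rcases SpTwo.z2 (β D a u z1) with h | h <;> rcases SpTwo.z2 (β D a u z2) with h' | h' <;>
        rw [h, h'] <;> decide
    rw [← hS] at hm
    obtain ⟨f, hf, g, hg, hfg⟩ := Submodule.mem_sup.1 hm
    obtain ⟨c, rfl⟩ := Submodule.mem_span_singleton.1 hg
    refine ⟨f, c, D.mem_ker.1 hf, ?_⟩
    rw [hfg]
    have e : u + β D a u z2 • z1 + β D a u z1 • z2 + β D a u z2 • z1 + β D a u z1 • z2 =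
        u + (β D a u z2 • z1 + β D a u z2 • z1) + (β D a u z1 • z2 + β D a u z1 • z2) := by abel
    rw [e, aa, aa, add_zero, add_zero]
  have hz1u : β D a z1 u0 = 0 := by rw [β_symm D ha, hu01]
  have hz2u : β D a z2 u0 = 0 := by rw [β_symm D ha, hu02]
  have hA : ∀ u, ∃ c : ZMod 2, β D a u u0 = c * β D a u0 u0 ∧ β D b u u0 = c * β D b u0 u0 := by
    intro u
    obtain ⟨f, c, hf, hu⟩ := hdec u
    refine ⟨c, ?_, ?_⟩
    · conv_lhs => rw [hu]
      rw [β_add_left, β_add_left, β_add_left, β_smul_left, β_smul_left, β_smul_left,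
        β_fix_left D ha _ hf, hz1u, hz2u]
      simp
    · conv_lhs => rw [hu]
      rw [β_add_left, β_add_left, β_add_left, β_smul_left, β_smul_left, β_smul_left,
        β_fix_left D hb _ (hF _ hf), β_fix_left D hb _ h1, β_fix_left D hb _ h2]
      simp
  have hub : D.ρ b u0 ≠ u0 := by
    intro h
    apply hv
    rw [← hnu0, D.n_eq_zero.2 h]
  have hb0 : β D b u0 u0 = 1 := by
    rcases SpTwo.z2 (β D b u0 u0) with h | h
    · exfalso
      apply hub
      apply fix_of_β D
      intro u
      obtain ⟨c, -, hc⟩ := hA u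
      rw [hc, h, mul_zero]
    · exact h
  have ha0 : β D a u0 u0 = 1 := by
    rcases SpTwo.z2 (β D a u0 u0) with h | h
    · exfalso
      apply hub
      apply hF
      apply fix_of_β D
      intro u
      obtain ⟨c, hc, -⟩ := hA u
      rw [hc, h, mul_zero]
    · exact h
  apply hub
  apply hF
  apply hFc
  have h3 : D.n b u0 = D.n a u0 := by
    apply eq_of_add
    apply D.nondeg
    intro w
    rw [D.symm, map_add]
    obtain ⟨c, hc1, hc2⟩ := hA w
    unfold β at hc1 hc2 ha0 hb0
    rw [hc1, hc2, ha0, hb0]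
    exact CharTwo.add_self_eq_zero _
  rw [← D.n_eq_zero, n_mul D (n_fix D ha hb hF u0), h3, aa]

theorem no_hyp [Finite V] (hV : Nat.card V = 64) {a b : X} (ha : a * a = 1) (hb : b * b = 1)
    (hb1 : b ≠ 1)
    (hF : ∀ w, D.ρ a w = w → D.ρ b w = w) (hFc : ∀ w, D.ρ (a * b) w = w → D.ρ a w = w)
    (h1 : ∀ x1 x2 : X, Commute x1 a → Commute x2 a → ¬ Commute x1 b → ¬ Commute x2 b →
      Commute (x1 * x2) b) {z1 z2 : V} (hz1 : β D a z1 z1 = 0) (hz2 : β D a z2 z2 = 0) :
    β D a z1 z2 = 0 := by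
  rcases SpTwo.z2 (β D a z1 z2) with h | h12
  · exact h
  exfalso
  have h21 : β D a z2 z1 = 1 := by rw [β_symm D ha, h12]
  have hz3 : β D a (z1 + z2) (z1 + z2) = 0 := by
    rw [β_add_left, β_add_right, β_add_right, hz1, hz2, h12, h21]; decide
  have h13 : β D a z1 (z1 + z2) = 1 := by
    rw [β_add_right, hz1, h12]; decide
  have h23 : β D a z2 (z1 + z2) = 1 := by
    rw [β_add_right, hz2, h21]; decide
  by_cases c1 : D.ρ b z1 = z1 <;> by_cases c2 : D.ρ b z2 = z2
  · exact no_hyp_B D hV ha hb hb1 hF hFc hz1 hz2 h12 c1 c2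
  · refine no_hyp_A D ha hb hF hFc h1 hz2 hz3 h23 c2 (fun h => c2 ?_)
    rw [map_add, c1] at h
    exact add_left_cancel h
  · refine no_hyp_A D ha hb hF hFc h1 hz1 hz3 h13 c1 (fun h => c1 ?_)
    rw [map_add, c2] at h
    exact add_right_cancel h
  · exact no_hyp_A D ha hb hF hFc h1 hz1 hz2 h12 c1 c2

/-- Normal form of an involution without hyperbolic pairs. -/
theorem normal_form {a : X} (ha : a * a = 1) (ha1 : a ≠ 1)
    (hno : ∀ z1 z2, β D a z1 z1 = 0 → β D a z2 z2 = 0 → β D a z1 z2 = 0) :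
    (∃ p, p ≠ 0 ∧ ∀ v, D.n a v = D.B v p • p) ∨
      (∃ p q z0, p ≠ 0 ∧ q ≠ 0 ∧ p ≠ q ∧ D.B p q = 0 ∧ (∀ v, D.n a v = D.B v p • p + D.B v q • q) ∧
        D.B z0 p = 1 ∧ D.B z0 q = 1) := by
  obtain ⟨z1, hz1⟩ : ∃ z1, β D a z1 z1 = 1 := by
    by_contra h
    push Not at h
    have h0 : ∀ z, β D a z z = 0 := fun z => (SpTwo.z2 _).resolve_right (h z)
    apply ha1
    apply D.eq_one_of_n
    intro v
    rw [D.n_eq_zero]
    apply fix_of_β D
    intro u
    exact hno u v (h0 u) (h0 v)
  have hq : ∀ u, β D a (u + β D a u u • z1) (u + β D a u u • z1) = 0 := by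
    intro u
    have hs := β_symm D ha u z1
    rw [β_add_left, β_add_right, β_add_right, β_smul_left, β_smul_left, β_smul_right, β_smul_right, hz1, hs]
    rcases SpTwo.z2 (β D a u u) with h | h <;> rcases SpTwo.z2 (β D a z1 u) with h' | h' <;>
      rw [h, h'] <;> decide
  have hzu : ∀ z u, β D a z z = 0 → β D a z u = β D a z z1 * β D a u u := by
    intro z u hz
    have h1 := hno z _ hz (hq u)
    rw [β_add_right, β_smul_right] at h1
    rcases SpTwo.z2 (β D a z u) with h | h <;> rcases SpTwo.z2 (β D a u u) with h' | h' <;>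
      rcases SpTwo.z2 (β D a z z1) with h'' | h'' <;> rw [h, h', h''] at h1 <;> rw [h, h', h''] <;>
      revert h1 <;> decide
  set p := D.n a z1 with hp
  have hBp : ∀ v, D.B v p = β D a v z1 := fun v => rfl
  by_cases hc : ∃ z0, β D a z0 z0 = 0 ∧ D.n a z0 ≠ 0
  · obtain ⟨z0, hz0, hz0'⟩ := hc
    right
    have h01 : β D a z0 z1 = 1 := by
      rcases SpTwo.z2 (β D a z0 z1) with h | h
      · exfalso
        apply hz0'
        rw [D.n_eq_zero]
        apply fix_of_β D
        intro u
        rw [β_symm D ha, hzu z0 u hz0, h, zero_mul]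
      · exact h
    set s := D.n a z0 with hs
    have hBs : ∀ v, D.B v s = β D a v v := by
      intro v
      have : D.B v s = β D a v z0 := rfl
      rw [this, β_symm D ha, hzu z0 v hz0, h01, one_mul]
    have hz0q : D.B z0 (p + s) = 1 := by
      rw [map_add, hBs, hz0, hBp, h01]; decide
    refine ⟨p, p + s, z0, ?_, ?_, ?_, ?_, ?_, ?_, hz0q⟩
    · rintro h
      have := hBp z1
      rw [h, hz1, map_zero] at this
      exact absurd this (by decide)
    · intro h
      rw [h, map_zero] at hz0q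
      exact absurd hz0q (by decide)
    · intro h
      apply hz0'
      have : p + 0 = p + s := by rw [add_zero]; exact h
      exact (add_left_cancel this).symm
    · rw [map_add, D.alt, zero_add]
      rw [hp, hs, D.n_adj ha, D.n_n ha]
      simp
    · intro v
      set v' := v + β D a v v • z1 with hv'
      have h1 : D.n a v' = β D a v' z1 • s := by
        apply eq_of_add
        apply D.nondeg
        intro w
        rw [D.symm, map_add, map_smul, smul_eq_mul, hBs]
        have h2 : D.B w (D.n a v') = β D a v' w := by rw [β_symm D ha]; rfl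
        rw [h2, hzu v' w (hq v)]
        exact CharTwo.add_self_eq_zero _
      have h3 : D.n a v = D.n a v' + β D a v v • p := by
        rw [hv', map_add, map_smul, aab]
      have h4 : β D a v' z1 = D.B v p + D.B v s := by
        rw [hv', β_add_left, β_smul_left, hz1, mul_one, hBp, hBs]
      rw [h3, h1, h4, ← hBs, map_add]
      rcases SpTwo.z2 (D.B v p) with h | h <;> rcases SpTwo.z2 (D.B v s) with h' | h' <;> rw [h, h']
      · simp
      · simp [add_comm]
      · simp only [add_zero, one_smul, zero_smul]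
        rw [aac]
      · rw [show (1 : ZMod 2) + 1 = 0 from rfl]
        simp
    · rw [hBp, h01]
  · push Not at hc
    left
    refine ⟨p, ?_, ?_⟩
    · intro h
      have := hBp z1
      rw [h, hz1, map_zero] at this
      exact absurd this (by decide)
    · intro v
      set v' := v + β D a v v • z1 with hv'
      have h3 : D.n a v = D.n a v' + β D a v v • p := by
        rw [hv', map_add, map_smul, aab]
      have h5 : D.n a v' = 0 := hc v' (hq v)
      rw [h3, h5, zero_add]
      congr 1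
      have h6 : β D a v' z1 = 0 := by
        rw [β_symm D ha]
        unfold β
        rw [h5, map_zero]
      have h7 : v = v' + β D a v v • z1 := by rw [hv', aab]
      rw [hBp]
      conv_rhs => rw [h7]
      rw [β_add_left, β_smul_left, h6, hz1, zero_add, mul_one]

theorem n_conj (g x : X) (v : V) : D.n (g * x * g⁻¹) v = D.ρ g (D.n x (D.ρ g⁻¹ v)) := by
  rw [D.n_apply, D.n_apply, map_add, D.ρ_mul, D.ρ_mul, D.ρ_apply_inv]

theorem eq_of_n {g h : X} (H : ∀ v, D.n g v = D.n h v) : g = h := by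
  apply D.ext_iff
  intro v
  rw [D.ρ_eq, D.ρ_eq h, H]

/-- The involution swapping `p` and `q`. -/
theorem exists_swap {p q z0 : V} (hpq : D.B p q = 0) (h1 : D.B z0 p = 1) (h2 : D.B z0 q = 1) :
    ∃ g : X, g * g = 1 ∧ D.ρ g p = q ∧ D.ρ g q = p ∧
      ∀ x : X, D.ρ x (p + q) = p + q → D.ρ x z0 = z0 → Commute g x := by
  have hs : D.B z0 (p + q) = 0 := by rw [map_add, h1, h2]; decide
  have hs' : D.B (p + q) z0 = 0 := by rw [D.symm, hs]
  have h1' : D.B p z0 = 1 := by rw [D.symm, h1]
  have h2' : D.B q z0 = 1 := by rw [D.symm, h2]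
  have h3' : D.B q p = 0 := by rw [D.symm, hpq]
  have happ : ∀ v, D.ρ (D.τ (p + q) * (D.τ z0 * D.τ (p + q + z0))) v =
      v + (D.B v p + D.B v q) • z0 + D.B v z0 • (p + q) := by
    intro v
    rw [D.ρ_mul, D.ττ, D.hτ]
    simp only [map_add, map_smul, LinearMap.add_apply, LinearMap.smul_apply, smul_eq_mul, D.alt, hpq,
      h1, h2, h1', h2', h3']
    rcases SpTwo.z2 (D.B v p) with h | h <;> rcases SpTwo.z2 (D.B v q) with h' | h' <;>
      rcases SpTwo.z2 (D.B v z0) with h'' | h'' <;> rw [h, h', h''] <;>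
      apply eq_of_one_smul <;> match_scalars <;> decide
  refine ⟨D.τ (p + q) * (D.τ z0 * D.τ (p + q + z0)), ?_, ?_, ?_, ?_⟩
  · apply D.ext_iff
    intro v
    rw [D.ρ_mul, happ, happ, D.ρ_one]
    simp only [map_add, map_smul, LinearMap.add_apply, LinearMap.smul_apply, smul_eq_mul, D.alt, hpq,
      h3', h1, h2, h1', h2']
    rcases SpTwo.z2 (D.B v p) with h | h <;> rcases SpTwo.z2 (D.B v q) with h' | h' <;>
      rcases SpTwo.z2 (D.B v z0) with h'' | h'' <;> rw [h, h', h''] <;>
      apply eq_of_one_smul <;> match_scalars <;> decide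
  · rw [happ, D.alt, hpq, h1']
    apply eq_of_one_smul
    match_scalars <;> decide
  · rw [happ, D.alt, h3', h2']
    apply eq_of_one_smul
    match_scalars <;> decide
  · intro x hx1 hx2
    exact (D.τ_commute_of_fix hx1).mul_left ((D.τ_commute_of_fix hx2).mul_left
      (D.τ_commute_of_fix (by rw [map_add, hx1, hx2])))

include D in
theorem four_group [Finite V] (hV : Nat.card V = 64) {a b : X} (ha : a * a = 1) (hb : b * b = 1)
    (ha1 : a ≠ 1) (hb1 : b ≠ 1) (hab1 : a * b ≠ 1) (hab : Commute a b)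
    (h1 : ∀ x1 x2 : X, Commute x1 a → Commute x2 a → ¬ Commute x1 b → ¬ Commute x2 b →
      Commute (x1 * x2) b)
    (h2 : ∀ x1 x2 : X, Commute x1 (a * b) → Commute x2 (a * b) → ¬ Commute x1 b → ¬ Commute x2 b →
      Commute (x1 * x2) b) :
    ∃ g : X, g * g = 1 ∧ Commute g a ∧ g * b * g⁻¹ = a * b := by
  have hc : (a * b) * (a * b) = 1 := by
    rw [hab.eq]
    calc b * a * (b * a) = b * a * (a * b) := by rw [hab.eq]
      _ = b * (a * a) * b := by group
      _ = 1 := by rw [ha, mul_one, hb]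
  have hcb : a * b * b = a := by rw [mul_assoc, hb, mul_one]
  have hF : ∀ w, D.ρ a w = w → D.ρ b w = w := fun w hw => fix_sub D hV ha hb h1 hw
  have hFcb : ∀ w, D.ρ (a * b) w = w → D.ρ b w = w := fun w hw => fix_sub D hV hc hb h2 hw
  have hFc : ∀ w, D.ρ (a * b) w = w → D.ρ a w = w := by
    intro w hw
    have := hFcb w hw
    rw [D.ρ_mul, this] at hw
    exact hw
  have hFac : ∀ w, D.ρ a w = w → D.ρ (a * b) w = w := by
    intro w hw
    rw [D.ρ_mul, hF w hw, hw]
  have hnoa := fun z1 z2 => no_hyp D hV ha hb hb1 hF hFc h1 (z1 := z1) (z2 := z2)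
  have hnoc := fun z1 z2 => no_hyp D hV hc hb hb1 hFcb (by rw [hcb]; exact hFac) h2 (z1 := z1) (z2 := z2)
  have hnc : ∀ v, D.n (a * b) v = D.n a v + D.n b v := fun v => n_mul D (n_fix D ha hb hF v)
  have hnb : ∀ v, D.n b v = D.n a v + D.n (a * b) v := fun v => by rw [hnc, aac]
  have hb0 : ¬ ∀ v, D.n a v = D.n (a * b) v := by
    intro h
    apply hb1
    apply D.eq_one_of_n
    intro v
    rw [hnb, h, aa]
  rcases normal_form D ha ha1 hnoa with ⟨p, hp, hna⟩ | ⟨p, q, z0, hp, hq, hpq, hBpq, hna, hz0p, hz0q⟩ <;>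
  rcases normal_form D hc hab1 hnoc with ⟨p', hp', hnc'⟩ | ⟨p', q', z0', hp', hq', hpq', hBpq', hnc', -, -⟩
  · exfalso
    have hpp : p' = p := by
      rcases mem_of_perp D (p := p) (q := 0) (r := p') (fun v hv _ => by
        have h3 : D.ρ a v = v := by rw [← D.n_eq_zero, hna, hv, zero_smul]
        have h4 := hFac v h3
        rw [← D.n_eq_zero, hnc'] at h4
        rcases SpTwo.z2 (D.B v p') with h | h
        · exact h
        · rw [h, one_smul] at h4
          exact absurd h4 hp') with h | h | h | h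
      · exact absurd h hp'
      · exact h
      · exact absurd h hp'
      · rw [h, add_zero]
    exact hb0 (fun v => by rw [hna, hnc', hpp])
  · exfalso
    have hlin : ∀ v, D.B v p' • p' + D.B v q' • q' = 0 → D.B v p' = 0 ∧ D.B v q' = 0 := by
      intro v hv
      rcases SpTwo.z2 (D.B v p') with h | h <;> rcases SpTwo.z2 (D.B v q') with h' | h' <;>
        rw [h, h'] at hv <;> simp only [zero_smul, one_smul, zero_add, add_zero] at hv
      · exact ⟨h, h'⟩
      · exact absurd hv hq'
      · exact absurd hv hp'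
      · exact absurd (eq_of_add _ _ hv) hpq'
    have hall : ∀ v, D.B v p = 0 → D.B v p' = 0 ∧ D.B v q' = 0 := by
      intro v hv
      apply hlin
      rw [← hnc', D.n_eq_zero]
      apply hFac
      rw [← D.n_eq_zero, hna, hv, zero_smul]
    have e1 : p' = p := by
      rcases mem_of_perp D (p := p) (q := 0) (r := p') (fun v hv _ => (hall v hv).1) with h | h | h | h
      · exact absurd h hp'
      · exact h
      · exact absurd h hp'
      · rw [h, add_zero]
    have e2 : q' = p := by
      rcases mem_of_perp D (p := p) (q := 0) (r := q') (fun v hv _ => (hall v hv).2) with h | h | h | h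
      · exact absurd h hq'
      · exact h
      · exact absurd h hq'
      · rw [h, add_zero]
    exact hpq' (e1.trans e2.symm)
  · exfalso
    have hlin : ∀ v, D.B v p • p + D.B v q • q = 0 → D.B v p = 0 ∧ D.B v q = 0 := by
      intro v hv
      rcases SpTwo.z2 (D.B v p) with h | h <;> rcases SpTwo.z2 (D.B v q) with h' | h' <;>
        rw [h, h'] at hv <;> simp only [zero_smul, one_smul, zero_add, add_zero] at hv
      · exact ⟨h, h'⟩
      · exact absurd hv hq
      · exact absurd hv hp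
      · exact absurd (eq_of_add _ _ hv) hpq
    have hall : ∀ v, D.B v p' = 0 → D.B v p = 0 ∧ D.B v q = 0 := by
      intro v hv
      apply hlin
      rw [← hna, D.n_eq_zero]
      apply hFc
      rw [← D.n_eq_zero, hnc', hv, zero_smul]
    have e1 : p = p' := by
      rcases mem_of_perp D (p := p') (q := 0) (r := p) (fun v hv _ => (hall v hv).1) with h | h | h | h
      · exact absurd h hp
      · exact h
      · exact absurd h hp
      · rw [h, add_zero]
    have e2 : q = p' := by
      rcases mem_of_perp D (p := p') (q := 0) (r := q) (fun v hv _ => (hall v hv).2) with h | h | h | h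
      · exact absurd h hq
      · exact h
      · exact absurd h hq
      · rw [h, add_zero]
    exact hpq (e1.trans e2.symm)
  · -- the main case
    have hlin : ∀ v, D.B v p' • p' + D.B v q' • q' = 0 → D.B v p' = 0 ∧ D.B v q' = 0 := by
      intro v hv
      rcases SpTwo.z2 (D.B v p') with h | h <;> rcases SpTwo.z2 (D.B v q') with h' | h' <;>
        rw [h, h'] at hv <;> simp only [zero_smul, one_smul, zero_add, add_zero] at hv
      · exact ⟨h, h'⟩
      · exact absurd hv hq'
      · exact absurd hv hp'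
      · exact absurd (eq_of_add _ _ hv) hpq'
    have hall : ∀ v, D.B v p = 0 → D.B v q = 0 → D.B v p' = 0 ∧ D.B v q' = 0 := by
      intro v hv hv'
      apply hlin
      rw [← hnc', D.n_eq_zero]
      apply hFac
      rw [← D.n_eq_zero, hna, hv, hv', zero_smul, zero_smul, add_zero]
    have e1 : p' = p ∨ p' = q ∨ p' = p + q := by
      rcases mem_of_perp D (fun v hv hv' => (hall v hv hv').1) with h | h
      · exact absurd h hp'
      · exact h
    have e2 : q' = p ∨ q' = q ∨ q' = p + q := by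
      rcases mem_of_perp D (fun v hv hv' => (hall v hv hv').2) with h | h
      · exact absurd h hq'
      · exact h
    obtain ⟨g, hg2, hgp, hgq, -⟩ := exists_swap D hBpq hz0p hz0q
    have hgi : g⁻¹ = g := inv_eq_of_mul_eq_one_right hg2
    have hBg : ∀ v w, D.B (D.ρ g⁻¹ v) w = D.B v (D.ρ g w) := by
      intro v w
      rw [D.inv_left, inv_inv]
    have hgs : D.ρ g (p + q) = p + q := by rw [map_add, hgp, hgq, add_comm]
    refine ⟨g, hg2, ?_, ?_⟩
    · have : g * a * g⁻¹ = a := by
        apply eq_of_n D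
        intro v
        rw [n_conj, hna, hna, map_add, map_smul, map_smul, hgp, hgq, hBg, hBg, hgp, hgq, add_comm]
      exact mul_inv_eq_iff_eq_mul.1 this
    · apply eq_of_n D
      intro v
      rw [n_conj, hnb, hnc', hnc', hna, map_add, map_add, map_add, map_smul, map_smul, map_smul,
        map_smul, hBg, hBg, hBg, hBg, hgp, hgq]
      have hsm : ∀ v : V, D.B v (p + q) = D.B v p + D.B v q := fun v => map_add _ _ _
      rcases e1 with e1 | e1 | e1 <;> rcases e2 with e2 | e2 | e2
      · exact absurd (e1.trans e2.symm) hpq'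
      · exact absurd (fun v => by rw [hna, hnc', e1, e2]) hb0
      · simp only [e1, e2, hgs, hgp, hgq, hsm]
        rcases SpTwo.z2 (D.B v p) with h | h <;> rcases SpTwo.z2 (D.B v q) with h' | h' <;>
          rw [h, h'] <;> apply eq_of_one_smul <;> match_scalars <;> decide
      · exact absurd (fun v => by rw [hna, hnc', e1, e2, add_comm]) hb0
      · exact absurd (e1.trans e2.symm) hpq'
      · simp only [e1, e2, hgs, hgp, hgq, hsm]
        rcases SpTwo.z2 (D.B v p) with h | h <;> rcases SpTwo.z2 (D.B v q) with h' | h' <;>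
          rw [h, h'] <;> apply eq_of_one_smul <;> match_scalars <;> decide
      · simp only [e1, e2, hgs, hgp, hgq, hsm]
        rcases SpTwo.z2 (D.B v p) with h | h <;> rcases SpTwo.z2 (D.B v q) with h' | h' <;>
          rw [h, h'] <;> apply eq_of_one_smul <;> match_scalars <;> decide
      · simp only [e1, e2, hgs, hgp, hgq, hsm]
        rcases SpTwo.z2 (D.B v p) with h | h <;> rcases SpTwo.z2 (D.B v q) with h' | h' <;>
          rw [h, h'] <;> apply eq_of_one_smul <;> match_scalars <;> decide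
      · exact absurd (e1.trans e2.symm) hpq'

end Cfsg.Agent.StandardComponent.SpTwoFour
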