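import Cfsg.Agent.StandardComponent.SpTwoFour

/-!
Square roots of involutions in `Sp_6(2)`: conjugates of the involution commuting with it do not all
commute with a square root.
-/

set_option autoImplicit false

namespace Cfsg.Agent.StandardComponent.SpTwoRoot

open Cfsg.Agent.StandardComponent.SpTwo
open Cfsg.Agent.StandardComponent.SpTwo.SpData
open Cfsg.Agent.StandardComponent.SpTwoFour

variable {X V : Type*} [Group X] [AddCommGroup V] [Module (ZMod 2) V] (D : SpData X V)

theorem move {a b u : V} (ha : D.B u a = 1) (hb : D.B u b = 1) :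
    ∃ g : X, D.ρ g a = b ∧ ∀ w, D.B w (a + u) = 0 → D.B w (u + b) = 0 → D.ρ g w = w := by
  have ha' : D.B a u = 1 := by rw [D.symm, ha]
  refine ⟨D.τ (u + b) * D.τ (a + u), ?_, ?_⟩
  · rw [D.ρ_mul, D.hτ, D.hτ]
    simp only [map_add, map_smul, LinearMap.add_apply, LinearMap.smul_apply, smul_eq_mul, D.alt, hb, ha']
    rcases SpTwo.z2 (D.B a b) with h | h <;> rw [h] <;>
      apply eq_of_one_smul <;> match_scalars <;> decide
  · intro w h1 h2
    rw [D.ρ_mul, D.hτ (a + u), h1, zero_smul, add_zero, D.hτ, h2, zero_smul, add_zero]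

/-- Witt's theorem for totally isotropic planes with a basis. -/
theorem exists_map_pair [Finite V] {p1 p2 w1 w2 : V} (hp1 : p1 ≠ 0) (hp2 : p2 ≠ 0) (hp12 : p1 ≠ p2)
    (hBp : D.B p1 p2 = 0) (hw1 : w1 ≠ 0) (hw2 : w2 ≠ 0) (hw12 : w1 ≠ w2) (hBw : D.B w1 w2 = 0) :
    ∃ g : X, D.ρ g p1 = w1 ∧ D.ρ g p2 = w2 := by
  obtain ⟨u, hu1, hu2⟩ := D.exists_sep (c := p1) (d := p1 + w1) hp1 (fun h => hw1 (by
    have : p1 + 0 = p1 + w1 := by rw [add_zero]; exact h
    exact (add_left_cancel this).symm))
  have hu3 : D.B u w1 = 1 := by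
    rw [map_add, hu1] at hu2
    rcases SpTwo.z2 (D.B u w1) with h | h
    · rw [h] at hu2; exact absurd hu2 (by decide)
    · exact h
  obtain ⟨g1, hg1, -⟩ := move D hu1 hu3
  set q' := D.ρ g1 p2 with hq'
  have hq0 : q' ≠ 0 := fun h => hp2 (D.ρ_inj g1 (by rw [map_zero]; exact h))
  have hq1 : q' ≠ w1 := fun h => hp12 (D.ρ_inj g1 (by rw [hg1]; exact h.symm))
  have hBq : D.B w1 q' = 0 := by rw [← hg1, hq', D.inv, hBp]
  obtain ⟨u', h1, h2, h3⟩ := exists_sep_two D (p := w1) (q := q' + w2) (r := q') hq0 hq1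
    (fun h => hw2 (by
      have : q' + 0 = q' + w2 := by rw [add_zero]; exact h
      exact (add_left_cancel this).symm))
    (fun h => hw12 (by
      apply eq_of_add
      have h' : 0 + q' = (w1 + w2) + q' := by rw [zero_add, h]; nth_rw 1 [h]; abel
      exact (add_right_cancel h').symm))
  have h4 : D.B u' w2 = 1 := by
    rw [map_add, h3] at h2
    rcases SpTwo.z2 (D.B u' w2) with h | h
    · rw [h] at h2; exact absurd h2 (by decide)
    · exact h
  obtain ⟨g2, hg2, hfix⟩ := move D h3 h4
  refine ⟨g2 * g1, ?_, ?_⟩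
  · rw [D.ρ_mul, hg1]
    apply hfix
    · rw [map_add, hBq, D.symm, h1, add_zero]
    · rw [map_add, D.symm w1 u', h1, hBw, add_zero]
  · rw [D.ρ_mul, hg2]

theorem n_ττ {a b : V} (h : D.B a b = 0) (v : V) :
    D.n (D.τ a * D.τ b) v = D.B v a • a + D.B v b • b := by
  rw [D.n_apply, D.ττ, D.symm b a, h, mul_zero, add_zero]
  rw [show v + D.B v b • b + D.B v a • a + v = D.B v a • a + D.B v b • b + (v + v) by abel, aa, add_zero]

theorem n_τττ {a b : V} (h : D.B a b = 0) (v : V) :
    D.n (D.τ a * D.τ b * D.τ (a + b)) v = D.B v a • b + D.B v b • a := by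
  rw [D.n_apply, D.ρ_mul, D.ττ, D.hτ, D.symm b a, h, mul_zero, add_zero]
  simp only [map_add, map_smul, LinearMap.add_apply, LinearMap.smul_apply, smul_eq_mul, D.alt, h,
    D.symm b a]
  rcases SpTwo.z2 (D.B v a) with h | h <;> rcases SpTwo.z2 (D.B v b) with h' | h' <;> rw [h, h'] <;>
      apply eq_of_one_smul <;> match_scalars <;> decide

/-- Shape of an involution of rank two. -/
theorem rank_two {x : X} (hx : x * x = 1) (hW : Nat.card (LinearMap.range (D.n x)) = 4) :
    ∃ p1 p2 : V, p1 ≠ 0 ∧ p2 ≠ 0 ∧ p1 ≠ p2 ∧ D.B p1 p2 = 0 ∧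
      (∀ f, (∃ v, D.n x v = f) → f = 0 ∨ f = p1 ∨ f = p2 ∨ f = p1 + p2) ∧
      (∃ v, D.n x v = p1) ∧ (∃ v, D.n x v = p2) ∧
      ((∀ v, D.n x v = D.B v p1 • p1 + D.B v p2 • p2) ∨ (∀ v, D.n x v = D.B v p1 • p2 + D.B v p2 • p1)) := by
  have hfin : Finite (LinearMap.range (D.n x)) := Nat.finite_of_card_ne_zero (by omega)
  -- `p, q` in the range
  have hcard : ∀ S : Set V, (∀ f, (∃ v, D.n x v = f) → f ∈ S) → S.Finite → 4 ≤ S.ncard := by
    intro S hS hSf
    have : (LinearMap.range (D.n x) : Set V) ⊆ S := by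
      rintro _ ⟨v, rfl⟩
      exact hS _ ⟨v, rfl⟩
    have h1 := Set.ncard_le_ncard this hSf
    rw [← Nat.card_coe_set_eq] at h1
    have h2 : Nat.card (LinearMap.range (D.n x) : Set V) = 4 := hW
    omega
  obtain ⟨p, hpW, hp0⟩ : ∃ p, (∃ v, D.n x v = p) ∧ p ≠ 0 := by
    by_contra h
    push Not at h
    have := hcard {0} (fun f hf => h f hf) (Set.finite_singleton _)
    rw [Set.ncard_singleton] at this
    omega
  obtain ⟨q, hqW, hq0, hqp⟩ : ∃ q, (∃ v, D.n x v = q) ∧ q ≠ 0 ∧ q ≠ p := by
    by_contra h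
    push Not at h
    have := hcard {0, p} (fun f hf => by
      by_cases h0 : f = 0
      · simp [h0]
      · right; exact h f hf h0) (Set.toFinite _)
    have h2 := Set.ncard_insert_le (0 : V) {p}
    rw [Set.ncard_singleton] at h2
    omega
  have hpq : p ≠ q := Ne.symm hqp
  have hB : ∀ f g, (∃ v, D.n x v = f) → (∃ v, D.n x v = g) → D.B f g = 0 := by
    rintro _ _ ⟨v, rfl⟩ ⟨w, rfl⟩
    rw [D.n_adj hx, D.n_n hx, map_zero]; rfl
  have hall : ∀ f, (∃ v, D.n x v = f) → f = 0 ∨ f = p ∨ f = q ∨ f = p + q := by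
    intro f hf
    have hsub : ({0, p, q, p + q} : Set V) ⊆ (LinearMap.range (D.n x) : Set V) := by
      obtain ⟨v, rfl⟩ := hpW
      obtain ⟨w, rfl⟩ := hqW
      rintro g (rfl | rfl | rfl | rfl)
      · exact ⟨0, map_zero _⟩
      · exact ⟨v, rfl⟩
      · exact ⟨w, rfl⟩
      · exact ⟨v + w, map_add _ _ _⟩
    have h4 : ({0, p, q, p + q} : Set V).ncard = 4 := by
      have e1 : (q : V) ∉ ({p + q} : Set V) := by
        intro h
        apply hp0
        have h' : 0 + q = p + q := by rw [zero_add]; exact h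
        exact (add_right_cancel h').symm
      have e2 : (p : V) ∉ ({q, p + q} : Set V) := by
        rintro (h | h)
        · exact hpq h
        · apply hq0
          have h' : p + 0 = p + q := by rw [add_zero]; exact h
          exact (add_left_cancel h').symm
      have e3 : (0 : V) ∉ ({p, q, p + q} : Set V) := by
        rintro (h | h | h)
        · exact hp0 h.symm
        · exact hq0 h.symm
        · exact hpq (eq_of_add _ _ h.symm)
      rw [Set.ncard_insert_of_notMem e3 (Set.toFinite _), Set.ncard_insert_of_notMem e2 (Set.toFinite _),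
        Set.ncard_insert_of_notMem e1 (Set.toFinite _), Set.ncard_singleton]
    have h5 : ({0, p, q, p + q} : Set V) = (LinearMap.range (D.n x) : Set V) := by
      apply Set.eq_of_subset_of_ncard_le hsub _ (Set.toFinite _)
      rw [h4, ← Nat.card_coe_set_eq]
      exact le_of_eq hW
    have h6 : f ∈ (LinearMap.range (D.n x) : Set V) := hf
    rw [← h5] at h6
    exact h6
  obtain ⟨v1, hv1p, hv1q⟩ := D.exists_sep hp0 hpq
  obtain ⟨v2, hv2q, hv2p⟩ := D.exists_sep hq0 hqp
  have hform : ∀ v, D.n x v = D.B v p • D.n x v1 + D.B v q • D.n x v2 := by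
    intro v
    rw [← map_smul, ← map_smul, ← map_add]
    apply eq_of_add
    rw [← map_add]
    apply D.nondeg
    intro u
    rw [← D.n_adj hx]
    have key : ∀ f, (∃ v, D.n x v = f) → D.B (v + (D.B v p • v1 + D.B v q • v2)) f = 0 := by
      intro f hf
      rcases hall f hf with rfl | rfl | rfl | rfl
      · rw [map_zero]
      · simp only [map_add, map_smul, LinearMap.add_apply, LinearMap.smul_apply, hv1p, hv2p, smul_eq_mul,
          mul_zero, mul_one, add_zero]
        exact CharTwo.add_self_eq_zero _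
      · simp only [map_add, map_smul, LinearMap.add_apply, LinearMap.smul_apply, hv1q, hv2q, smul_eq_mul,
          mul_zero, mul_one, zero_add]
        exact CharTwo.add_self_eq_zero _
      · simp only [map_add, map_smul, LinearMap.add_apply, LinearMap.smul_apply, hv1q, hv2q, hv1p, hv2p,
          smul_eq_mul, mul_zero, mul_one, zero_add, add_zero]
        rcases SpTwo.z2 (D.B v p) with h | h <;> rcases SpTwo.z2 (D.B v q) with h' | h' <;> rw [h, h'] <;>
          decide
    exact key _ ⟨u, rfl⟩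
  have hsym : D.B v1 (D.n x v2) = D.B v2 (D.n x v1) := by
    rw [D.n_adj hx, D.symm]
  have hne : ∀ c : V, ¬ ∀ f, (∃ v, D.n x v = f) → f = 0 ∨ f = c := by
    intro c h
    have h3 := hcard {0, c} (fun f hf => by
      rcases h f hf with h | h
      · simp [h]
      · simp [h]) (Set.toFinite _)
    have h2 := Set.ncard_insert_le (0 : V) {c}
    rw [Set.ncard_singleton] at h2
    omega
  have hBpq : D.B p q = 0 := hB p q hpW hqW
  have hsW : ∃ v, D.n x v = p + q := by
    obtain ⟨v, rfl⟩ := hpW
    obtain ⟨w, rfl⟩ := hqW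
    exact ⟨v + w, map_add _ _ _⟩
  have hs0 : p + q ≠ 0 := fun h => hpq (eq_of_add _ _ h)
  have hqs : q ≠ p + q := by
    intro h
    apply hp0
    have h' : 0 + q = p + q := by rw [zero_add]; exact h
    exact (add_right_cancel h').symm
  have hps : p ≠ p + q := by
    intro h
    apply hq0
    have h' : p + 0 = p + q := by rw [add_zero]; exact h
    exact (add_left_cancel h').symm
  rcases hall _ ⟨v1, rfl⟩ with h1 | h1 | h1 | h1 <;> rcases hall _ ⟨v2, rfl⟩ with h2 | h2 | h2 | h2 <;>
    rw [h1, h2] at hform hsym <;>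
    simp only [map_zero, map_add, hv1p, hv1q, hv2p, hv2q] at hsym <;>
    (try (exact absurd hsym (by decide)))
  -- remaining cases
  · exact absurd (fun f hf => by
      obtain ⟨v, rfl⟩ := hf
      left
      rw [hform]; simp) (hne 0)
  · exact absurd (fun f hf => by
      obtain ⟨v, rfl⟩ := hf
      rw [hform]
      rcases SpTwo.z2 (D.B v q) with h | h <;> rw [h] <;> simp) (hne q)
  · exact absurd (fun f hf => by
      obtain ⟨v, rfl⟩ := hf
      rw [hform]
      rcases SpTwo.z2 (D.B v p) with h | h <;> rw [h] <;> simp) (hne p)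
  · exact ⟨p, q, hp0, hq0, hpq, hBpq, hall, hpW, hqW, Or.inl hform⟩
  · exact ⟨p, q, hp0, hq0, hpq, hBpq, hall, hpW, hqW, Or.inr hform⟩
  · refine ⟨p, p + q, hp0, hs0, hps, ?_, ?_, hpW, hsW, Or.inl ?_⟩
    · rw [map_add, D.alt, hBpq, add_zero]
    · intro f hf
      rcases hall f hf with h | h | h | h
      · exact Or.inl h
      · exact Or.inr (Or.inl h)
      · right; right; right; rw [aac]; exact h
      · right; right; left; exact h
    · intro v
      rw [hform, map_add]
      rcases SpTwo.z2 (D.B v p) with h | h <;> rcases SpTwo.z2 (D.B v q) with h' | h' <;> rw [h, h'] <;>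
        apply eq_of_one_smul <;> match_scalars <;> decide
  · refine ⟨q, p + q, hq0, hs0, hqs, ?_, ?_, hqW, hsW, Or.inl ?_⟩
    · rw [map_add, D.alt, D.symm, hBpq, add_zero]
    · intro f hf
      rcases hall f hf with h | h | h | h
      · exact Or.inl h
      · right; right; right; rw [add_comm p q, aac]; exact h
      · exact Or.inr (Or.inl h)
      · right; right; left; exact h
    · intro v
      rw [hform, map_add]
      rcases SpTwo.z2 (D.B v p) with h | h <;> rcases SpTwo.z2 (D.B v q) with h' | h' <;> rw [h, h'] <;>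
        apply eq_of_one_smul <;> match_scalars <;> decide
  · exact absurd (fun f hf => by
      obtain ⟨v, rfl⟩ := hf
      rw [hform, ← add_smul]
      rcases SpTwo.z2 (D.B v p + D.B v q) with h | h <;> rw [h] <;> simp) (hne (p + q))

theorem card_ker_eq [Finite V] (hV : Nat.card V = 64) {x y : X} (hy : y * y = x) (hx : x * x = 1)
    (hx1 : x ≠ 1) : Nat.card (LinearMap.ker (D.n x)) = 16 := by
  have h16 := D.sixteen_le hV hy hx
  have h1 := card_ker_mul (D.n x)
  rw [hV] at h1
  have hd : Nat.card (LinearMap.ker (D.n x)) ∣ 64 := Dvd.intro _ h1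
  by_contra hne
  have hW : Nat.card (LinearMap.range (D.n x)) ≤ 2 := by
    by_contra h
    push Not at h
    have h3 : Nat.card (LinearMap.range (D.n x)) * Nat.card (LinearMap.ker (D.n x)) = 64 := by
      rw [mul_comm]; exact h1
    have h4 : Nat.card (LinearMap.ker (D.n x)) < 32 := by nlinarith
    generalize Nat.card (LinearMap.ker (D.n x)) = k at *
    interval_cases k <;> omega
  obtain ⟨v, hv⟩ : ∃ v, D.n x v ≠ 0 := by
    by_contra h
    push Not at h
    exact hx1 (D.eq_one_of_n h)
  have hW2 : ∀ u, D.n x u = 0 ∨ D.n x u = D.n x v := by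
    intro u
    by_contra h
    push Not at h
    have hfin : Finite (LinearMap.range (D.n x)) := Subtype.finite
    have hsub : ({0, D.n x v, D.n x u} : Set V) ⊆ (LinearMap.range (D.n x) : Set V) := by
      rintro g (rfl | rfl | rfl)
      · exact ⟨0, map_zero _⟩
      · exact ⟨v, rfl⟩
      · exact ⟨u, rfl⟩
    have h3 : ({0, D.n x v, D.n x u} : Set V).ncard = 3 := by
      rw [Set.ncard_insert_of_notMem _ (Set.toFinite _), Set.ncard_pair (Ne.symm h.2)]
      rintro (h' | h')
      · exact hv h'.symm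
      · exact h.1 h'.symm
    have h5 := Set.ncard_le_ncard hsub (Set.toFinite _)
    rw [h3, ← Nat.card_coe_set_eq] at h5
    have : Nat.card (LinearMap.range (D.n x) : Set V) ≤ 2 := hW
    omega
  have hcomm : Commute y x := by
    rw [commute_iff_eq, ← hy, mul_assoc]
  have hyn : ∀ u, D.ρ y (D.n x u) = D.n x (D.ρ y u) := by
    intro u
    rw [D.n_apply, D.n_apply, map_add, ← D.ρ_mul, ← D.ρ_mul, hcomm.eq]
  have hyp : D.ρ y (D.n x v) = D.n x v := by
    rcases hW2 (D.ρ y v) with h | h
    · exfalso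
      rw [← hyn] at h
      apply hv
      apply D.ρ_inj y
      rw [h, map_zero]
    · rw [hyn, h]
  -- the identity
  have h0 : D.B (D.ρ y v) (D.n x v) = 0 := by
    rw [D.n_apply, map_add, ← hy, D.ρ_mul, D.inv, D.symm v (D.ρ y v)]
    exact CharTwo.add_self_eq_zero _
  have h2 : D.B v (D.n x v) = 0 := by
    rw [← D.inv y, hyp, h0]
  apply hv
  apply D.nondeg
  intro u
  rw [D.symm]
  rcases hW2 u with h | h
  · rw [D.n_adj hx, h, map_zero]; rfl
  · rw [D.n_adj hx, h, D.symm, h2]

theorem conj_n_pair {x z : X} {p1 p2 q1 q2 w1 w2 : V} (h : ∀ v, D.n x v = D.B v p1 • q1 + D.B v p2 • q2)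
    (h1 : D.ρ z p1 = w1) (h2 : D.ρ z p2 = w2) (v : V) :
    D.n (z * x * z⁻¹) v = D.B v w1 • D.ρ z q1 + D.B v w2 • D.ρ z q2 := by
  rw [n_conj, h, map_add, map_smul, map_smul, D.inv_left, D.inv_left, inv_inv, h1, h2]

include D in
/-- Conjugates of an involution `x` commuting with it do not all commute with a square root of `x`,
even if only those in a subgroup of index at most two of the centralizer are considered. -/
theorem exists_conj [Finite V] (hV : Nat.card V = 64) {x y : X} (hy : y * y = x) (hx : x * x = 1)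
    (hx1 : x ≠ 1) (T : Subgroup X)
    (hT : ∀ x1 x2 : X, Commute x1 x → Commute x2 x → x1 ∉ T → x2 ∉ T → x1 * x2 ∈ T) (hyT : y ∈ T) :
    ∃ z : X, z * x * z⁻¹ ∈ T ∧ Commute (z * x * z⁻¹) x ∧ ¬ Commute (z * x * z⁻¹) y := by
  by_contra hcon
  push Not at hcon
  have h16 := card_ker_eq D hV hy hx hx1
  have hW : Nat.card (LinearMap.range (D.n x)) = 4 := by
    have h1 := card_ker_mul (D.n x)
    rw [hV, h16] at h1
    omega
  obtain ⟨p1, p2, hp1, hp2, hp12, hBp, hall, hp1W, hp2W, hform⟩ := rank_two D hx hW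
  have hBFW : ∀ w f, D.ρ x w = w → (∃ v, D.n x v = f) → D.B w f = 0 := by
    rintro w _ hw ⟨v, rfl⟩
    rw [D.n_adj hx, D.n_eq_zero.2 hw, map_zero]; rfl
  have hWF : ∀ f, (∃ v, D.n x v = f) → D.ρ x f = f := by
    rintro _ ⟨v, rfl⟩
    exact D.n_ρ hx v
  have hWadd : ∀ f g, (∃ v, D.n x v = f) → (∃ v, D.n x v = g) → ∃ v, D.n x v = f + g := by
    rintro _ _ ⟨v, rfl⟩ ⟨w, rfl⟩
    exact ⟨v + w, map_add _ _ _⟩
  have hs0 : p1 + p2 ≠ 0 := fun h => hp12 (eq_of_add _ _ h)
  have hsW := hWadd _ _ hp1W hp2W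
  have hcomm : Commute y x := by
    rw [commute_iff_eq, ← hy, mul_assoc]
  have hyn : ∀ u, D.ρ y (D.n x u) = D.n x (D.ρ y u) := by
    intro u
    rw [D.n_apply, D.n_apply, map_add, ← D.ρ_mul, ← D.ρ_mul, hcomm.eq]
  have hyW : ∀ w, (∃ v, D.n x v = D.ρ y w) → ∃ v, D.n x v = w := by
    rintro w ⟨v, hv⟩
    refine ⟨D.ρ y⁻¹ v, ?_⟩
    apply D.ρ_inj y
    rw [hyn, D.ρ_apply_inv, hv]
  -- conjugation invariance of `T`
  have hTconj : ∀ c t, Commute c x → Commute t x → t ∈ T → c * t * c⁻¹ ∈ T := by
    intro c t hc ht htT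
    by_cases hcT : c ∈ T
    · exact T.mul_mem (T.mul_mem hcT htT) (T.inv_mem hcT)
    · refine hT (c * t) c⁻¹ (hc.mul_left ht) hc.inv_left (fun h => hcT ?_) (fun h => hcT ?_)
      · have := T.mul_mem h (T.inv_mem htT)
        simpa using this
      · simpa using T.inv_mem h
  -- products of transvections in `T`
  have hT1 : ∀ w f, D.ρ x w = w → (¬ ∃ v, D.n x v = w) → (∃ v, D.n x v = f) →
      D.τ w * D.τ (w + f) ∈ T := by
    intro w f hw hwW hf
    obtain ⟨u, hu1, hu2⟩ := exists_sep_sub D (S := LinearMap.range (D.n x)) (c := w) hwW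
    have hxu : D.ρ x u = u := by
      rw [← D.n_eq_zero]
      apply D.nondeg
      intro t
      rw [← D.n_adj hx]
      exact hu1 _ ⟨t, rfl⟩
    have huf : D.B u f = 0 := hBFW u f hxu hf
    have hBwf : D.B w (w + f) = 0 := by rw [map_add, D.alt, hBFW w f hw hf, add_zero]
    obtain ⟨g, -, hgw, -, hgx⟩ := exists_swap D (p := w) (q := w + f) (z0 := u) hBwf hu2
      (by rw [map_add, hu2, huf, add_zero])
    have hgc : Commute g x := hgx x (by rw [aac]; exact hWF f hf) hxu
    have hcw : Commute (D.τ w) x := D.τ_commute_of_fix hw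
    have hcwf : Commute (D.τ (w + f)) x := D.τ_commute_of_fix (by rw [map_add, hw, hWF f hf])
    have hconj : D.τ (w + f) = g * D.τ w * g⁻¹ := by rw [D.conj_τ, hgw]
    by_cases h : D.τ w ∈ T
    · refine T.mul_mem h ?_
      rw [hconj]
      exact hTconj g _ hgc hcw h
    · refine hT _ _ hcw hcwf h (fun h' => h ?_)
      have := hTconj g⁻¹ _ hgc.inv_left hcwf h'
      rw [hconj] at this
      simpa [mul_assoc] using this
  -- the key claim
  have key : ∀ w f, D.ρ x w = w → (¬ ∃ v, D.n x v = w) → (∃ v, D.n x v = f) → f ≠ 0 →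
      D.ρ y w = w ∨ D.ρ y w = w + f := by
    intro w f hw hwW hf hf0
    have hw0 : w ≠ 0 := by
      rintro rfl
      exact hwW ⟨0, map_zero _⟩
    have hwf : D.B w f = 0 := hBFW w f hw hf
    have hwfW : ¬ ∃ v, D.n x v = w + f := by
      intro h
      have := hWadd _ _ h hf
      rw [aab] at this
      exact hwW this
    have hwf0 : w + f ≠ 0 := by
      intro h
      exact hwfW ⟨0, by rw [h, map_zero]⟩
    have hyw0 : D.ρ y w ≠ 0 := fun h => hw0 (D.ρ_inj y (by rw [h, map_zero]))
    have hywW : ¬ ∃ v, D.n x v = D.ρ y w := fun h => hwW (hyW w h)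
    have hcw : Commute (D.τ w) x := D.τ_commute_of_fix hw
    have hcf : Commute (D.τ f) x := D.τ_commute_of_fix (hWF f hf)
    have hcwf : Commute (D.τ (w + f)) x := D.τ_commute_of_fix (by rw [map_add, hw, hWF f hf])
    have hwwf : w ≠ w + f := by
      intro h
      apply hf0
      have h' : w + 0 = w + f := by rw [add_zero]; exact h
      exact (add_left_cancel h').symm
    rcases hform with hform | hform
    · -- product of two transvections
      have hBw' : D.B w (w + f) = 0 := by rw [map_add, D.alt, hwf, add_zero]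
      obtain ⟨z, hz1, hz2⟩ := exists_map_pair D hp1 hp2 hp12 hBp hw0 hwf0 hwwf hBw'
      have hd : z * x * z⁻¹ = D.τ w * D.τ (w + f) := by
        apply eq_of_n D
        intro v
        rw [conj_n_pair D hform hz1 hz2, hz1, hz2, n_ττ D hBw']
      have h1 := hcon z (by rw [hd]; exact hT1 w f hw hwW hf) (by rw [hd]; exact hcw.mul_left hcwf)
      rw [hd] at h1
      have h2 : D.τ w * D.τ (w + f) = D.τ (D.ρ y w) * D.τ (D.ρ y (w + f)) := by
        rw [← D.conj_τ y w, ← D.conj_τ y (w + f)]
        calc D.τ w * D.τ (w + f) = (D.τ w * D.τ (w + f)) * y * y⁻¹ := by group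
          _ = y * (D.τ w * D.τ (w + f)) * y⁻¹ := by rw [h1.eq]
          _ = _ := by group
      rcases D.mem_of_ττ_eq hyw0 (fun h => hwwf (D.ρ_inj y h)) h2 with h | h | h
      · exact Or.inl h
      · exact Or.inr h
      · exfalso
        rw [aac] at h
        exact hywW (by rw [h]; exact hf)
    · -- product of three transvections
      have hwf' : w ≠ f := by
        rintro rfl
        exact hwW hf
      obtain ⟨z, hz1, hz2⟩ := exists_map_pair D hp1 hp2 hp12 hBp hw0 hf0 hwf' hwf
      have hd : z * x * z⁻¹ = D.τ w * D.τ f * D.τ (w + f) := by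
        apply eq_of_n D
        intro v
        rw [conj_n_pair D hform hz1 hz2, hz1, hz2, n_τττ D hwf]
      -- all transvections of the range lie in `T`
      have hx3 : x = D.τ p1 * D.τ p2 * D.τ (p1 + p2) := by
        apply eq_of_n D
        intro v
        rw [hform, n_τττ D hBp]
      have hxT : x ∈ T := by rw [← hy]; exact T.mul_mem hyT hyT
      have hB1s : D.B p1 (p1 + p2) = 0 := by rw [map_add, D.alt, hBp, add_zero]
      have c1 : Commute (D.τ p1) x := D.τ_commute_of_fix (hWF _ hp1W)
      have c2 : Commute (D.τ p2) x := D.τ_commute_of_fix (hWF _ hp2W)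
      have c3 : Commute (D.τ (p1 + p2)) x := D.τ_commute_of_fix (hWF _ hsW)
      -- `p1` and `p2` are conjugate
      have sw1 : ∃ g, Commute g x ∧ D.ρ g p1 = p2 := by
        obtain ⟨u, hu1, hu2⟩ := D.exists_sep (c := p1) (d := p1 + p2) hp1 (fun h => hp2 (by
          have h' : p1 + 0 = p1 + p2 := by rw [add_zero]; exact h
          exact (add_left_cancel h').symm))
        have hu3 : D.B u p2 = 1 := by
          rw [map_add, hu1] at hu2
          rcases SpTwo.z2 (D.B u p2) with h | h
          · rw [h] at hu2; exact absurd hu2 (by decide)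
          · exact h
        obtain ⟨g, -, hg1, hg2, -⟩ := exists_swap D hBp hu1 hu3
        refine ⟨g, ?_, hg1⟩
        have : g * x * g⁻¹ = x := by
          apply eq_of_n D
          intro v
          rw [conj_n_pair D hform hg1 hg2, hg1, hg2, hform, add_comm]
        exact mul_inv_eq_iff_eq_mul.1 this
      have sw2 : ∃ g, Commute g x ∧ D.ρ g p1 = p1 + p2 := by
        obtain ⟨u, hu1, hu2⟩ := D.exists_sep (c := p1) (d := p2) hp1 hp12
        obtain ⟨g, -, hg1, hg2, -⟩ := exists_swap D (p := p1) (q := p1 + p2) (z0 := u) hB1s hu1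
          (by rw [map_add, hu1, hu2, add_zero])
        refine ⟨g, ?_, hg1⟩
        have hg3 : D.ρ g p2 = p2 := by
          have : p2 = p1 + (p1 + p2) := by rw [aac]
          rw [this, map_add, hg1, hg2, add_comm]
        have : g * x * g⁻¹ = x := by
          apply eq_of_n D
          intro v
          rw [conj_n_pair D hform hg1 hg3, hg1, hg3, hform, map_add]
          rcases SpTwo.z2 (D.B v p1) with h | h <;> rcases SpTwo.z2 (D.B v p2) with h' | h' <;> rw [h, h'] <;>
            apply eq_of_one_smul <;> match_scalars <;> decide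
        exact mul_inv_eq_iff_eq_mul.1 this
      have hT3 : D.τ p1 ∈ T ∧ D.τ p2 ∈ T ∧ D.τ (p1 + p2) ∈ T := by
        obtain ⟨g1, hg1c, hg1⟩ := sw1
        obtain ⟨g2, hg2c, hg2⟩ := sw2
        have e1 : D.τ p2 = g1 * D.τ p1 * g1⁻¹ := by rw [D.conj_τ, hg1]
        have e2 : D.τ (p1 + p2) = g2 * D.τ p1 * g2⁻¹ := by rw [D.conj_τ, hg2]
        by_cases h : D.τ p1 ∈ T
        · refine ⟨h, ?_, ?_⟩
          · rw [e1]; exact hTconj _ _ hg1c c1 h
          · rw [e2]; exact hTconj _ _ hg2c c1 h
        · exfalso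
          have h2 : D.τ p2 ∉ T := by
            intro h'
            apply h
            have := hTconj g1⁻¹ _ hg1c.inv_left c2 h'
            rw [e1] at this
            simpa [mul_assoc] using this
          have h3 : D.τ (p1 + p2) ∉ T := by
            intro h'
            apply h
            have := hTconj g2⁻¹ _ hg2c.inv_left c3 h'
            rw [e2] at this
            simpa [mul_assoc] using this
          have h4 := hT _ _ c1 c2 h h2
          apply h3
          have := T.mul_mem (T.inv_mem h4) hxT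
          rw [hx3] at this
          simpa [mul_assoc] using this
      have hτf : D.τ f ∈ T := by
        rcases hall f hf with rfl | rfl | rfl | rfl
        · exact absurd rfl hf0
        · exact hT3.1
        · exact hT3.2.1
        · exact hT3.2.2
      have hmem : D.τ w * D.τ f * D.τ (w + f) ∈ T := by
        have e : D.τ w * D.τ f * D.τ (w + f) = D.τ f * (D.τ w * D.τ (w + f)) := by
          rw [D.τ_commute hwf, mul_assoc]
        rw [e]
        exact T.mul_mem hτf (hT1 w f hw hwW hf)
      have h1 := hcon z (by rw [hd]; exact hmem) (by rw [hd]; exact (hcw.mul_left hcf).mul_left hcwf)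
      rw [hd] at h1
      have hyf0 : D.ρ y f ≠ 0 := fun h => hf0 (D.ρ_inj y (by rw [h, map_zero]))
      obtain ⟨v, hv1, hv2⟩ := D.exists_sep (c := D.ρ y f) (d := D.ρ y w) hyf0
        (fun h => hwf' (D.ρ_inj y h).symm)
      have h3 : D.n (y * (D.τ w * D.τ f * D.τ (w + f)) * y⁻¹) v = D.ρ y w := by
        rw [conj_n_pair D (n_τττ D hwf) rfl rfl, hv1, hv2]
        simp
      have h4 : y * (D.τ w * D.τ f * D.τ (w + f)) * y⁻¹ = D.τ w * D.τ f * D.τ (w + f) := by
        rw [← h1.eq]; group
      rw [h4, n_τττ D hwf] at h3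
      rcases SpTwo.z2 (D.B v w) with h | h <;> rcases SpTwo.z2 (D.B v f) with h' | h' <;> rw [h, h'] at h3 <;>
        simp only [zero_smul, one_smul, zero_add, add_zero] at h3
      · exact absurd h3.symm hyw0
      · exact Or.inl h3.symm
      · exact absurd hf (by rw [h3]; exact hywW)
      · right; rw [← h3, add_comm]
  -- hence `y` is trivial on the fixed space
  have hfix : ∀ w, D.ρ x w = w → (¬ ∃ v, D.n x v = w) → D.ρ y w = w := by
    intro w hw hwW
    rcases key w p1 hw hwW hp1W hp1 with h | h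
    · exact h
    · rcases key w p2 hw hwW hp2W hp2 with h' | h'
      · exact h'
      · exact absurd (add_left_cancel (h.symm.trans h')) hp12
  obtain ⟨w0, hw0, hw0W⟩ : ∃ w0, D.ρ x w0 = w0 ∧ ¬ ∃ v, D.n x v = w0 := by
    by_contra h
    push Not at h
    have hle : LinearMap.ker (D.n x) ≤ LinearMap.range (D.n x) := by
      intro w hw
      exact h w (D.mem_ker.1 hw)
    have := Nat.le_of_dvd Nat.card_pos (card_dvd_of_le hle)
    omega
  obtain ⟨w, hw, hyw⟩ := D.exists_moved hy hx hx1
  apply hyw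
  by_cases hwW : ∃ v, D.n x v = w
  · have h1 := hfix (w0 + w) (by rw [map_add, hw0, hw]) (fun h => hw0W (by
      have := hWadd _ _ h hwW
      rw [aab] at this
      exact this))
    rw [map_add, hfix w0 hw0 hw0W] at h1
    exact add_left_cancel h1
  · exact hfix w hw hwW

end Cfsg.Agent.StandardComponent.SpTwoRoot
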