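import Cfsg.Agent.StandardComponent.SpTwoModel
import Cfsg.Agent.StandardComponent.SpTwoFour
import Cfsg.Agent.StandardComponent.SpTwoRoot
import Cfsg.Agent.StandardComponent.Intrinsic

/-!
`Sp_6(2)` has the properties used in the analysis of centralizers of standard subgroups.
-/

set_option autoImplicit false

namespace Cfsg.Agent.StandardComponent.SpTwoGood

theorem good_of_data {X V : Type*} [Group X] [AddCommGroup V] [Module (ZMod 2) V] [Finite V]
    (D : SpTwo.SpData X V) (hV : Nat.card V = 64) : Intrinsic.Good X where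
  small := fun _ _ hy hb hb1 T hT hyT => D.no_small_root hV hy hb hb1 T hT hyT
  four := fun _ _ ha hb ha1 hb1 hab1 hab h1 h2 => SpTwoFour.four_group D hV ha hb ha1 hb1 hab1 hab h1 h2
  conj := fun _ _ hy hx hx1 T hT hyT => SpTwoRoot.exists_conj D hV hy hx hx1 T hT hyT

theorem good : Intrinsic.Good (Matrix.symplecticGroup (Fin 3) (ZMod 2)) :=
  good_of_data SpTwoModel.data SpTwoModel.card_V

theorem good_of_equiv {X Y : Type*} [Group X] [Group Y] (e : X ≃* Y) (hY : Intrinsic.Good Y) :
    Intrinsic.Good X where
  small := fun y b hy hb hb1 T hT hyT => by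
    refine hY.small (e y) (e b) (by rw [← map_mul, hy]) (by rw [← map_mul, hb, map_one])
      (by simpa using hb1) (T.map e.toMonoidHom) ?_ ?_
    · intro x1 x2 h1 h2 h1' h2'
      refine ⟨e.symm (x1 * x2), ?_, by simp⟩
      rw [map_mul]
      apply hT
      · have := h1.map e.symm.toMonoidHom; simpa using this
      · have := h2.map e.symm.toMonoidHom; simpa using this
      · intro h; exact h1' ⟨e.symm x1, h, by simp⟩
      · intro h; exact h2' ⟨e.symm x2, h, by simp⟩
    · rintro _ ⟨x, hx, rfl⟩
      rcases hyT x hx with h | h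
      · left; simp only [MulEquiv.toMonoidHom_eq_coe, MonoidHom.coe_coe]; rw [← map_inv, ← map_mul, ← map_mul, h]
      · right; simp only [MulEquiv.toMonoidHom_eq_coe, MonoidHom.coe_coe]; rw [← map_inv, ← map_mul, ← map_mul, h, map_mul]
  four := fun a b ha hb ha1 hb1 hab1 hab h1 h2 => by
    have key : ∀ c : X, (∀ x1 x2 : X, Commute x1 c → Commute x2 c → ¬ Commute x1 b → ¬ Commute x2 b →
        Commute (x1 * x2) b) → ∀ x1 x2 : Y, Commute x1 (e c) → Commute x2 (e c) → ¬ Commute x1 (e b) →
        ¬ Commute x2 (e b) → Commute (x1 * x2) (e b) := by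
      intro c hc x1 x2 g1 g2 g3 g4
      have := hc (e.symm x1) (e.symm x2) (by simpa using g1.map e.symm.toMonoidHom)
        (by simpa using g2.map e.symm.toMonoidHom)
        (fun h => g3 (by simpa using h.map e.toMonoidHom)) (fun h => g4 (by simpa using h.map e.toMonoidHom))
      simpa using this.map e.toMonoidHom
    obtain ⟨g, hg, hga, hgb⟩ := hY.four (e a) (e b) (by rw [← map_mul, ha, map_one])
      (by rw [← map_mul, hb, map_one]) (by simpa using ha1) (by simpa using hb1)
      (by rw [← map_mul]; exact fun h => hab1 (e.injective (h.trans (map_one e).symm)))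
      (hab.map e.toMonoidHom) (key a h1)
      (by rw [← map_mul]; exact key (a * b) h2)
    refine ⟨e.symm g, by rw [← map_mul, hg, map_one], by simpa using hga.map e.symm.toMonoidHom, ?_⟩
    apply e.injective
    simp [hgb]
  conj := fun x y hy hx hx1 T hT hyT => by
    obtain ⟨z, hz1, hz2, hz3⟩ := hY.conj (e x) (e y) (by rw [← map_mul, hy])
      (by rw [← map_mul, hx, map_one]) (by simpa using hx1) (T.map e.toMonoidHom) (by
        intro x1 x2 h1 h2 h1' h2'
        refine ⟨e.symm (x1 * x2), ?_, by simp⟩
        rw [map_mul]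
        apply hT
        · have := h1.map e.symm.toMonoidHom; simpa using this
        · have := h2.map e.symm.toMonoidHom; simpa using this
        · intro h; exact h1' ⟨e.symm x1, h, by simp⟩
        · intro h; exact h2' ⟨e.symm x2, h, by simp⟩) ⟨y, hyT, rfl⟩
    have hez : e (e.symm z * x * (e.symm z)⁻¹) = z * e x * z⁻¹ := by simp
    refine ⟨e.symm z, ?_, ?_, ?_⟩
    · obtain ⟨w, hw, hw'⟩ := hz1
      rw [← hez] at hw'
      have : w = e.symm z * x * (e.symm z)⁻¹ := e.injective hw'
      rw [← this]; exact hw
    · rw [← hez] at hz2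
      simpa using hz2.map e.symm.toMonoidHom
    · intro h
      apply hz3
      rw [← hez]
      exact h.map e.toMonoidHom

end Cfsg.Agent.StandardComponent.SpTwoGood
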