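import Cfsg.Prelude.Def_ClassificationK
import Cfsg.Prelude.Def_Classical
import Cfsg.Agent.StandardComponent.StdCtx
import Cfsg.Agent.StandardComponent.SpTwoGood
import Cfsg.Agent.StandardComponent.SpTwoAut

/-!
Standard subgroups with quotient `Sp_6(2)` and centre of order two: the centralizer of the central involution.
-/

set_option autoImplicit false

namespace Cfsg.Agent.StandardComponent.SixTwo

open Cfsg.Agent.StandardComponent.Intrinsic

/-- A nonabelian finite simple group has trivial centre. -/
theorem center_eq_bot {G : Type*} [Group G] [IsSimpleGroup G] (hG : ¬ IsMulCommutative G) :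
    Subgroup.center G = ⊥ := by
  rcases (inferInstance : (Subgroup.center G).Normal).eq_bot_or_eq_top with h | h
  · exact h
  · exfalso
    apply hG
    refine ⟨⟨fun a b => ?_⟩⟩
    have : b ∈ Subgroup.center G := by rw [h]; trivial
    exact (Subgroup.mem_center_iff.1 this a)

/-- A finite simple group with an involution has trivial odd core. -/
theorem oddCore_eq_bot {G : Type*} [Group G] [Finite G] [IsSimpleGroup G] {t : G} (ht : orderOf t = 2) :
    Cfsg.oddCore G = ⊥ := by
  rcases (Cfsg.pPrimeCore_normal 2 G).eq_bot_or_eq_top with h | h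
  · exact h
  · exfalso
    have h1 := Cfsg.Agent.Lib.Cores.pPrimeCore_coprime (G := G) 2
    rw [h, Subgroup.card_top] at h1
    have h2 : 2 ∣ Nat.card G := ht ▸ orderOf_dvd_natCard t
    have h3 := Nat.coprime_two_right.1 h1
    exact (Nat.not_even_iff_odd.2 h3) (even_iff_two_dvd.2 h2)

/-- The involution centralizer. -/
theorem exists_involution {G : Type*} [Group G] [Finite G] [IsSimpleGroup G] (hG : ¬ IsMulCommutative G)
    (hbal : ∀ t : G, orderOf t = 2 → Cfsg.centralizerPPrimeCore 2 t = ⊥)
    (L : Subgroup G) (hL : Cfsg.IsStandardSubgroup L)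
    {F : Type*} [Field F] [Fintype F] (hF : Fintype.card F = 2)
    (hZ : Nat.card (Subgroup.center L) = 2) (e : (L ⧸ Subgroup.center L) ≃* Cfsg.PSp 3 F) :
    ∃ t : G, orderOf t = 2 ∧ Subgroup.centralizer ({t} : Set G) = L ∧
      Cfsg.IsNonsplitDoubleCover (Subgroup.centralizer ({t} : Set G)) (Matrix.symplecticGroup (Fin 3) (ZMod 2)) := by
  obtain ⟨e'⟩ := SpTwoAut.exists_equiv hF
  obtain ⟨t, ht1, ht2, htL, htK, hLK⟩ := StdCtx.exists_inv hZ
  have hC := StdCtx.centralizer_eq hG SpTwoGood.good hL (e.trans e')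
    (SpTwoAut.normalizer_eq_sup L hL.1 hF e).le hbal ht1 ht2 htL htK hLK
  refine ⟨t, StdCtx.orderOf_two ht1 ht2, hC, ?_⟩
  rw [hC]
  exact StdCtx.nonsplit hL.1.1 hZ (e.trans e')

end Cfsg.Agent.StandardComponent.SixTwo
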