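import Cfsg.Agent.StandardComponent.FiRedSp
import Cfsg.Agent.StandardComponent.FiRedGen
import Cfsg.Agent.StandardComponent.SpTwoModel
import Cfsg.Agent.StandardComponent.SpTwoAut
import Cfsg.Agent.S0270

/-!
# Standard subgroups isomorphic to `Sp_6(2)`: `C_G(t) = ⟨t⟩ × L`
-/

set_option autoImplicit false

namespace Cfsg.Agent.StandardComponent.FiRedSix

open Subgroup Cfsg.Agent.StdAlt.Conj Cfsg.Agent.StdAlt.Pairs Cfsg.Agent.StdAlt.First
open Cfsg.Agent.StandardComponent.SpTwo Cfsg.Agent.StandardComponent.FiRedPair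

/-- transport of the symplectic module along an isomorphism -/
def comap {X Y V : Type*} [Group X] [Group Y] [AddCommGroup V] [Module (ZMod 2) V]
    (S : SpData X V) (e : Y ≃* X) : SpData Y V where
  B := S.B
  ρ := S.ρ.comp e.toMonoidHom
  alt := S.alt
  nondeg := S.nondeg
  inv g u v := S.inv _ u v
  inj := S.inj.comp e.injective
  τ u := e.symm (S.τ u)
  hτ w v := by
    change S.ρ (e (e.symm (S.τ w))) v = _
    rw [e.apply_symm_apply]
    exact S.hτ w v

theorem loc_of_data {Y V : Type*} [Group Y] [AddCommGroup V] [Module (ZMod 2) V] (S : SpData Y V)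
    (hV : Nat.card V = 64) [Finite V] [Finite Y] [IsSimpleGroup Y] : Loc Y := by
  intro J B hH h4
  exact FiRedSp.main hV ⟨hH.le, hH.com⟩ h4 S

theorem loc {Y : Type*} [Group Y] [Finite Y] [IsSimpleGroup Y]
    (e : Y ≃* Matrix.symplecticGroup (Fin 3) (ZMod 2)) : Loc Y :=
  loc_of_data (comap SpTwoModel.data e) SpTwoModel.card_V

section

variable {G : Type*} [Group G]

theorem exists_mul {L : Subgroup G} (hL : Group.IsPerfect L) (hs : IsSimpleGroup L)
    (e : L ≃* Matrix.symplecticGroup (Fin 3) (ZMod 2)) (g : G) (hg : g ∈ N L) :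
    ∃ l ∈ L, l⁻¹ * g ∈ C L := by
  have hc : Subgroup.center L = ⊥ := by
    rcases (inferInstance : (Subgroup.center L).Normal).eq_bot_or_eq_top with h | h
    · exact h
    · exfalso
      have h1 : Subgroup.center (Matrix.symplecticGroup (Fin 3) (ZMod 2)) = ⊤ := by
        rw [eq_top_iff]
        intro x _
        rw [Subgroup.mem_center_iff]
        intro y
        have : e.symm x ∈ Subgroup.center L := by rw [h]; trivial
        have h2 := Subgroup.mem_center_iff.1 this (e.symm y)
        apply e.symm.injective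
        rw [map_mul, map_mul]
        exact h2
      rw [SpTwoAut.center_eq_bot] at h1
      have h3 := hs.toNontrivial
      obtain ⟨x, y, hxy⟩ := h3
      apply hxy
      apply e.injective
      have h4 : ∀ z : Matrix.symplecticGroup (Fin 3) (ZMod 2), z = 1 := by
        intro z
        have : z ∈ (⊤ : Subgroup (Matrix.symplecticGroup (Fin 3) (ZMod 2))) := trivial
        rw [← h1] at this
        exact Subgroup.mem_bot.1 this
      rw [h4 (e x), h4 (e y)]
  have e' : (L ⧸ Subgroup.center L) ≃* Matrix.symplecticGroup (Fin 3) (ZMod 2) :=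
    ((QuotientGroup.quotientMulEquivOfEq hc).trans QuotientGroup.quotientBot).trans e
  exact SpTwoAut.exists_mul L (Group.isPerfect_def.1 hL) (SpTwoAut.inner_of_equiv e') g hg

end

/-- **reduction**: the centralizer of the involution -/
theorem exists_involution {G : Type*} [Group G] [Finite G] [IsSimpleGroup G] (hG : ¬ IsMulCommutative G)
    (hcomm : Cfsg.oddCore G = ⊥ → CommHalf G)
    (hbal : ∀ t : G, orderOf t = 2 → Cfsg.centralizerPPrimeCore 2 t = ⊥)
    (L : Subgroup G) (hL : Cfsg.IsStandardSubgroup L)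
    {F : Type*} [Field F] [Fintype F] (hF : Fintype.card F = 2) (e : L ≃* Cfsg.PSp 3 F) :
    ∃ t : G, orderOf t = 2 ∧ t ∉ L ∧ t ∈ Subgroup.centralizer (L : Set G) ∧
      ∀ g : G, Commute g t ↔ g ∈ L ∨ t * g ∈ L := by
  obtain ⟨e'⟩ := SpTwoAut.exists_equiv hF
  have hsimple : IsSimpleGroup (Cfsg.PSp 3 F) :=
    Cfsg.Agent.S0270.result 3 (by norm_num) (fun h => absurd h (by norm_num))
  have hs : IsSimpleGroup L := e.isSimpleGroup
  have hA : TE L := TE.of_standard hL hs
  have hev : 2 ∣ Nat.card (C L) := hL.2.1.1.two_dvd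
  -- conjugates
  have hcj : ∀ B, Cj L B → Nonempty (B ≃* L) ∧ Group.IsPerfect B := by
    intro B hB
    obtain ⟨g, rfl⟩ := hB.exists_eq
    have e1 : L ≃* cj g L := L.equivMapOfInjective _ (MulAut.conj g).injective
    have hp : Group.IsPerfect L := hL.1.1
    exact ⟨⟨e1.symm⟩, Group.IsPerfect.ofSurjective (f := e1.toMonoidHom) e1.surjective⟩
  have hinn : ∀ B, Cj L B → ∀ g ∈ N B, ∃ b ∈ B, b⁻¹ * g ∈ C B := by
    intro B hB g hg
    obtain ⟨⟨e1⟩, hq⟩ := hcj B hB
    exact exists_mul hq (e1.isSimpleGroup) (e1.trans (e.trans e')) g hg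
  have hout : Outer L := by
    intro y hy _ _ hno
    exfalso
    obtain ⟨b, hb, h⟩ := hinn L (Cj.refl L) y hy
    exact hno b⁻¹ (L.inv_mem hb) h
  have hng : 4 ∣ Nat.card (C L) → ¬ Good L := by
    intro h4
    refine not_good hA h4 ?_ hinn ?_
    · intro B hB hne hle
      obtain ⟨g, rfl⟩ := hB.exists_eq
      apply hL.2.2.1 g (fun h => hne h.symm)
      rw [commutator_eq_bot_iff_le_centralizer]
      intro a ha
      rw [mem_centralizer_iff]
      intro b hb
      exact comm_of_C (hle hb) ha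
    · intro B hB
      obtain ⟨⟨e1⟩, hq⟩ := hcj B hB
      have := (e1.isSimpleGroup : IsSimpleGroup B)
      exact loc (e1.trans (e.trans e'))
  -- an involution of `L`
  obtain ⟨s, hsL, hs1, hss⟩ : ∃ s ∈ L, s ≠ 1 ∧ s * s = 1 := by
    let S := comap SpTwoModel.data (e.trans e')
    have hnt : Nontrivial (Fin 3 ⊕ Fin 3 → ZMod 2) := inferInstance
    obtain ⟨w, hw⟩ := exists_ne (0 : Fin 3 ⊕ Fin 3 → ZMod 2)
    refine ⟨(S.τ w : L), (S.τ w).2, fun h => hw (S.τ_eq_one (Subtype.ext h)), ?_⟩
    exact congrArg Subtype.val (S.τ_sq w)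
  have h4 := FiRedGen.not_four_dvd hG hcomm hA hs hout hng hsL hs1 hss
  obtain ⟨t, ht, htC, htk⟩ := FiRedGen.exists_inv hA hbal hev h4
  have htt : t * t = 1 := by rw [← sq, ← ht]; exact pow_orderOf_eq_one t
  have ht1 : t ≠ 1 := by
    intro h
    rw [h, orderOf_one] at ht
    exact absurd ht (by norm_num)
  refine ⟨t, ht, fun h => ht1 (hA.disj t h htC), htC, fun g => ⟨fun hg => ?_, ?_⟩⟩
  · have hgN := hA.nrm htC ht1 htt hg.eq
    obtain ⟨l, hl, hk⟩ := hinn L (Cj.refl L) g hgN
    have hlt : l * t = t * l := (comm_of_C htC hl).symm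
    have hkt : (l⁻¹ * g) * t = t * (l⁻¹ * g) := by
      rw [mul_assoc, hg.eq, ← mul_assoc, comm_of_C htC (L.inv_mem hl) |>.symm, mul_assoc]
    rcases htk _ hk hkt with h | h
    · left
      rw [← inv_mul_eq_one.1 h]; exact hl
    · right
      have : g = l * t := by rw [← h]; group
      rw [this, hlt, ← mul_assoc, htt, one_mul]
      exact hl
  · rintro (h | h)
    · exact (comm_of_C htC h).symm
    · have h1 : t * (t * g) = (t * g) * t := comm_of_C htC h
      show g * t = t * g
      exact mul_left_cancel (a := t) (by rw [h1, mul_assoc])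

end Cfsg.Agent.StandardComponent.FiRedSix
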