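import Cfsg.Agent.StandardComponent.AltTransfer
import Cfsg.Agent.StandardComponent.CentCore
import Cfsg.Agent.TwoFusion.ClosingPrime
import Cfsg.Prelude.Def_CaseTheorems

/-!
# Standard components of type `2.A_n`: `O(C_G(z)) = 1` and `C_G(z) = L`

The odd core `O(C_G(z))` is the same for commuting conjugates of `z`; its normalizer is therefore the whole group or
strongly embedded.
-/

set_option autoImplicit false

namespace Cfsg.Agent.StandardComponent.AltClose

open Cfsg Equiv Cfsg.Agent.SporRec.TwoAn AltTransfer CentCore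

section cover

variable {α : Type*} [Fintype α] [DecidableEq α] {C : Type*} [Group C] (K : Cover α C)

/-- A lift `g` of a non-trivial involution is conjugate to `g z` by an element fixing all fixed points of `g`. -/
theorem exists_conj_mul_z_fix {g : C} (hg : K.π g * K.π g = 1) (h1 : K.π g ≠ 1) :
    ∃ w, w * g * w⁻¹ = g * K.z ∧ ∀ x, K.π g x = x → K.π w x = x := by
  obtain ⟨a, b, c, d, hab, hac, had, hbc, hbd, hcd, ha, hb, hc, hd, u, g', hu, hgu, hval, hinv, hcard⟩ :=
    K.exists_split hg h1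
  obtain ⟨w, hw⟩ := K.exists_lift (Cover.swap_mul_swap_mem a c b d hac hbd)
  have hdis : (K.π w).Disjoint (K.π g') := by
    intro x
    rw [hval x]
    split_ifs with hx
    · right; rfl
    · left
      push Not at hx
      rw [hw, Perm.mul_apply, swap_apply_of_ne_of_ne hx.2.1 hx.2.2.2, swap_apply_of_ne_of_ne hx.1 hx.2.2.1]
  have hcom := K.commute_of_disjoint hdis
  have hanti := K.anticomm hab hac had hbc hbd hcd hu hw
  refine ⟨w, ?_, ?_⟩
  · rw [mul_inv_eq_iff_eq_mul, hgu]
    calc w * (u * g') = w * u * g' := by group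
      _ = u * w * (g' * K.z) := by rw [hanti, mul_assoc (u * w), ← K.z_comm]
      _ = u * (w * g') * K.z := by group
      _ = u * g' * (w * K.z) := by rw [hcom]; group
      _ = u * g' * K.z * w := by rw [K.z_comm w]; group
  · intro x hx
    have hxa : x ≠ a := fun h => hab (by rw [h] at hx; rw [← ha, hx])
    have hxb : x ≠ b := fun h => hab (by rw [h] at hx; rw [← hb, hx])
    have hxc : x ≠ c := fun h => hcd (by rw [h] at hx; rw [← hc, hx])
    have hxd : x ≠ d := fun h => hcd (by rw [h] at hx; rw [← hd, hx])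
    rw [hw, Perm.mul_apply, swap_apply_of_ne_of_ne hxb hxd, swap_apply_of_ne_of_ne hxa hxc]

end cover

variable {G : Type*} [Group G] {n : ℕ} {z : G} {S : AltStd G n z}

/-- For commuting conjugates `z ≠ z'` of `z` the elements of odd order of `C_G(L)` fix the support of `z` in the
action of `C_G(z')` on its component. -/
def FixSupp (S : AltStd G n z) : Prop := ∀ g : G, g * z * g⁻¹ * z = z * (g * z * g⁻¹) → g * z * g⁻¹ ≠ z →
  ∀ y, (∀ x ∈ S.L, y * x = x * y) → Odd (orderOf y) →
    ∀ i, (S.conj g).φ z i ≠ i → (S.conj g).φ y i = i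

/-- `y` of odd order commutes with the elements of the component whose image commutes with that of `y`. -/
theorem commute_of_odd_order {y l : G} (hy : y * z = z * y) (hl : l ∈ S.L) (ho : Odd (orderOf y))
    (hc : S.φ y * S.φ l = S.φ l * S.φ y) : y * l = l * y := by
  have h1 := S.conj_mem y hy l hl
  have h2 : S.cover.π ⟨y * l * y⁻¹, h1⟩ = S.cover.π ⟨l, hl⟩ := by
    show S.φ (y * l * y⁻¹) = S.φ l
    rw [S.φ_conj hy (S.comm l hl), hc, mul_inv_cancel_right]
  rcases S.cover.lift_eq h2 with h3 | h3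
  · have h4 : y * l * y⁻¹ = l := congrArg Subtype.val h3
    rwa [mul_inv_eq_iff_eq_mul] at h4
  · exfalso
    have h4 : y * l * y⁻¹ = l * z := congrArg Subtype.val h3
    have h5 : ∀ j : ℕ, y ^ j * l * (y ^ j)⁻¹ = l * z ^ j := by
      intro j
      induction j with
      | zero => simp
      | succ j ih =>
        rw [pow_succ', pow_succ]
        calc y * y ^ j * l * (y * y ^ j)⁻¹ = y * (y ^ j * l * (y ^ j)⁻¹) * y⁻¹ := by group
          _ = y * (l * z ^ j) * y⁻¹ := by rw [ih]
          _ = y * l * y⁻¹ * (y * z ^ j * y⁻¹) := by group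
          _ = l * z * z ^ j := by
            rw [h4]
            congr 1
            have h6 : Commute y (z ^ j) := (show Commute y z from hy).pow_right j
            rw [h6.eq, mul_inv_cancel_right]
          _ = l * (z ^ j * z) := by rw [mul_assoc, ← pow_succ', ← pow_succ]
    have h6 := h5 (orderOf y)
    rw [pow_orderOf_eq_one] at h6
    obtain ⟨r, hr⟩ := ho
    rw [hr, pow_succ, pow_mul, pow_two, S.z_sq, one_pow, one_mul, one_mul, inv_one, mul_one, left_eq_mul] at h6
    exact S.z_ne h6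

/-- `O(C_G(z))` centralizes the component. -/
theorem core_centralizes [Finite G] (hn : 5 ≤ n) (S : AltStd G n z) {y : G}
    (hy : y ∈ centralizerPPrimeCore 2 z) : ∀ x ∈ S.L, y * x = x * y := by
  have hN : ((centralizerPPrimeCore 2 z).subgroupOf S.L) = ⊥ := by
    refine CoverExtra.odd_normal_eq_bot S.cover (by rwa [Fintype.card_fin]) _ ?_ ?_
    · constructor
      rintro ⟨x, hx⟩ hxN ⟨l, hl⟩
      exact core_conj_mem (S.comm l hl) hxN
    · have h1 : Nat.card ((centralizerPPrimeCore 2 z).subgroupOf S.L) ∣ Nat.card (centralizerPPrimeCore 2 z) := by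
        have h2 : Nat.card ((centralizerPPrimeCore 2 z).subgroupOf S.L) =
            Nat.card ((centralizerPPrimeCore 2 z ⊓ S.L : Subgroup G)) := by
          rw [← Subgroup.subgroupOf_map_subtype, Subgroup.card_map_of_injective (Subgroup.subtype_injective _)]
        rw [h2]
        exact Subgroup.card_dvd_of_le inf_le_left
      exact Odd.of_dvd_nat (core_odd z) h1
  intro x hx
  have hyz := core_comm hy
  have h1 : y * x * y⁻¹ * x⁻¹ ∈ S.L := S.L.mul_mem (S.conj_mem y hyz x hx) (S.L.inv_mem hx)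
  have h2 : y * x * y⁻¹ * x⁻¹ ∈ centralizerPPrimeCore 2 z := by
    have h3 := core_conj_mem (S.comm x hx) ((centralizerPPrimeCore 2 z).inv_mem hy)
    have h4 := (centralizerPPrimeCore 2 z).mul_mem hy h3
    rwa [show y * (x * y⁻¹ * x⁻¹) = y * x * y⁻¹ * x⁻¹ by group] at h4
  have h3 : (⟨y * x * y⁻¹ * x⁻¹, h1⟩ : S.L) ∈ (centralizerPPrimeCore 2 z).subgroupOf S.L := h2
  rw [hN, Subgroup.mem_bot] at h3
  have h4 : y * x * y⁻¹ * x⁻¹ = 1 := congrArg Subtype.val h3
  rwa [mul_inv_eq_one, mul_inv_eq_iff_eq_mul] at h4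

theorem core_mul_eq [Finite G] (hn : 5 ≤ n) (hL : ∀ {z : G} (S : AltStd G n z), InL S)
    (hF : ∀ {z : G} (S : AltStd G n z), FixSupp S) {z : G} (S : AltStd G n z) {g : G}
    (hc : g * z * g⁻¹ * z = z * (g * z * g⁻¹)) (hne : g * z * g⁻¹ ≠ z) :
    centralizerPPrimeCore 2 (z * (g * z * g⁻¹)) = centralizerPPrimeCore 2 z := by
  set S' := S.conj g with hS'
  have hzL : z ∈ S'.L := by
    have h1 := hL S' g⁻¹ (by
      rw [show g⁻¹ * (g * z * g⁻¹) * g⁻¹⁻¹ = z by group]
      exact hc.symm)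
    rwa [show g⁻¹ * (g * z * g⁻¹) * g⁻¹⁻¹ = z by group] at h1
  have hφz : S'.φ z ≠ 1 := by
    intro h1
    rcases S'.φ_L z hzL h1 with h2 | h2
    · exact S.z_ne h2
    · exact hne h2.symm
  obtain ⟨⟨h, hh⟩, hhz, hfix⟩ := exists_conj_mul_z_fix S'.cover (g := ⟨z, hzL⟩) (by
    show S'.φ z * S'.φ z = 1
    rw [← S'.φ_mul z z hc.symm hc.symm, S.z_sq, S'.φ_one]) hφz
  have hhz' : h * z * h⁻¹ = z * (g * z * g⁻¹) := congrArg Subtype.val hhz
  rw [← hhz']
  refine core_eq_of_comm ?_
  intro y hy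
  have hyL := core_centralizes hn S hy
  have hyo := core_odd_order hy
  have hyz' : y * (g * z * g⁻¹) = g * z * g⁻¹ * y := hyL _ (hL S g hc)
  refine commute_of_odd_order (S := S') hyz' hh hyo ?_
  have h1 : (S'.φ y).Disjoint (S'.φ h) := by
    intro i
    by_cases hi : S'.φ z i = i
    · exact Or.inr (hfix i hi)
    · exact Or.inl (hF S g hc hne y hyL hyo i hi)
  exact h1.commute

/-- `O(C_G(z)) = O(C_G(z'))` for commuting conjugates. -/
theorem core_eq [Finite G] (hn : 5 ≤ n) (hL : ∀ {z : G} (S : AltStd G n z), InL S)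
    (hF : ∀ {z : G} (S : AltStd G n z), FixSupp S) {z : G} (S : AltStd G n z) {g : G}
    (hc : g * z * g⁻¹ * z = z * (g * z * g⁻¹)) :
    centralizerPPrimeCore 2 (g * z * g⁻¹) = centralizerPPrimeCore 2 z := by
  by_cases hne : g * z * g⁻¹ = z
  · rw [hne]
  have h1 := core_mul_eq hn hL hF S hc hne
  have e : g⁻¹ * (g * z * g⁻¹) * g⁻¹⁻¹ = z := by group
  have h2 := core_mul_eq hn hL hF (S.conj g) (g := g⁻¹)
    (by rw [e]; exact hc.symm) (by rw [e]; exact fun h => hne h.symm)
  rw [e, hc, h1] at h2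
  exact h2.symm

/-- The normalizer of `O(C_G(z))`. -/
def H (z : G) : Subgroup G := Subgroup.normalizer (centralizerPPrimeCore 2 z : Set G)

theorem cent_le_H (z : G) : Subgroup.centralizer ({z} : Set G) ≤ H z := by
  intro y hy
  rw [H, Subgroup.mem_normalizer_iff]
  intro x
  have hy' := CentCore.mem_cent.1 hy
  constructor
  · exact core_conj_mem hy'
  · intro h
    have h1 := core_conj_mem (AltStd.comm_inv hy') h
    rwa [show y⁻¹ * (y * x * y⁻¹) * y⁻¹⁻¹ = x by group] at h1

theorem mem_H_of_core_eq [Finite G] {z g : G}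
    (h : centralizerPPrimeCore 2 (g * z * g⁻¹) = centralizerPPrimeCore 2 z) : g ∈ H z := by
  rw [H, Subgroup.mem_normalizer_iff]
  intro x
  have h1 := mem_core_conj g z (g * x * g⁻¹)
  rw [show g⁻¹ * (g * x * g⁻¹) * g = x by group, h] at h1
  exact h1.symm

/-- If `G` is simple, `O(C_G(z)) = 1`. -/
theorem core_eq_bot [Finite G] [IsSimpleGroup G] (hn : 6 ≤ n) (hn' : n < 16)
    (hSE : ∀ H : Subgroup G, IsStronglyEmbedded H → (oddCore H).map H.subtype ≤ oddCore G)
    (hL : ∀ {z : G} (S : AltStd G n z), InL S) (hF : ∀ {z : G} (S : AltStd G n z), FixSupp S)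
    {z : G} (S : AltStd G n z) (hK : SmallK S)
    (hz : ∃ g : G, g * z * g⁻¹ ≠ z ∧ g * z * g⁻¹ * z = z * (g * z * g⁻¹)) : centralizerPPrimeCore 2 z = ⊥ := by
  have hz2 : orderOf z = 2 := orderOf_eq_prime (by rw [pow_two, S.z_sq]) S.z_ne
  -- an odd normal subgroup of `G` is trivial
  have hodd : ∀ N : Subgroup G, N.Normal → Odd (Nat.card N) → N = ⊥ := by
    intro N hN ho
    rcases hN.eq_bot_or_eq_top with h | h
    · exact h
    · exfalso
      have h1 := orderOf_dvd_natCard z
      rw [h, Subgroup.card_top] at ho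
      rw [hz2] at h1
      exact (Nat.not_even_iff_odd.2 ho) (even_iff_two_dvd.2 h1)
  have hcore : oddCore G = ⊥ := hodd _ (Lib.Cores.pPrimeCore_normal 2)
    (Nat.Coprime.odd_of_right (Lib.Cores.pPrimeCore_coprime 2))
  have hWH : centralizerPPrimeCore 2 z ≤ H z := Subgroup.le_normalizer
  by_cases htop : H z = ⊤
  · exact hodd _ (Subgroup.normalizer_eq_top_iff.1 htop) (core_odd z)
  · have hone : ∀ x ∈ H z, orderOf x = 2 → ∃ g ∈ H z, g * z * g⁻¹ = x := by
      intro x hx hx2
      have hxx : x * x = 1 := by rw [← pow_two, ← hx2, pow_orderOf_eq_one]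
      obtain ⟨h, hh, hhx⟩ := exists_conj_mem_of_odd (cent_le_H z) (odd_index (hL S)) hx hxx
      have hcomm := CentCore.mem_cent.1 hhx
      have hsq : h⁻¹ * x * h * (h⁻¹ * x * h) = 1 := by
        rw [show h⁻¹ * x * h * (h⁻¹ * x * h) = h⁻¹ * (x * x) * h by group, hxx]; group
      have hne : h⁻¹ * x * h ≠ 1 := by
        intro h1
        have h2 : x = 1 := by
          rw [show x = h * (h⁻¹ * x * h) * h⁻¹ by group, h1]; group
        rw [h2, orderOf_one] at hx2
        exact absurd hx2 (by decide)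
      obtain ⟨k, hk⟩ := isConj_of_even hn' (hL S) hK hz hcomm hsq hne
        (φ_even_of_simple hn hn' (hL S) hK hz hcomm)
      have hkH : k ∈ H z := mem_H_of_core_eq (core_eq (by omega) hL hF S (by rw [hk]; exact hcomm))
      refine ⟨h * k, (H z).mul_mem hh hkH, ?_⟩
      rw [show h * k * z * (h * k)⁻¹ = h * (k * z * k⁻¹) * h⁻¹ by group, hk]
      group
    have hstrong := TwoFusion.ClosingPrime.isStronglyEmbedded_of_one_class hz2 (cent_le_H z) hone htop
    have h1 := hSE _ hstrong
    rw [hcore] at h1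
    refine le_bot_iff.1 (le_trans ?_ h1)
    have h2 : (centralizerPPrimeCore 2 z).subgroupOf (H z) ≤ oddCore (H z) := by
      refine Lib.Cores.le_pPrimeCore ?_ ?_
      · exact Subgroup.normal_in_normalizer
      · rw [Nat.card_congr (Subgroup.subgroupOfEquivOfLe hWH).toEquiv]
        exact Nat.coprime_two_right.2 (core_odd z)
    have h3 := Subgroup.map_mono (f := (H z).subtype) h2
    rwa [Subgroup.subgroupOf_map_subtype, inf_eq_left.2 hWH] at h3

/-- Elements of odd order of `C_G(L)` lie in `O(C_G(z))`. -/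
theorem mem_core_of_centralizes [Finite G] (hK : SmallK S) {k : G} (hk : ∀ x ∈ S.L, k * x = x * k)
    (ho : Odd (orderOf k)) : k ∈ centralizerPPrimeCore 2 z := by
  have : Fact (Nat.Prime 2) := ⟨Nat.prime_two⟩
  set K : Subgroup G := Subgroup.centralizer (S.L : Set G) with hKdef
  have hKmem : ∀ x : G, x ∈ K ↔ ∀ y ∈ S.L, x * y = y * x := by
    intro x
    rw [hKdef, Subgroup.mem_centralizer_iff]
    exact ⟨fun h y hy => (h y hy).symm, fun h y hy => (h y hy).symm⟩
  have hzK : z ∈ K := (hKmem z).2 fun x hx => (S.comm x hx).symm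
  obtain ⟨P⟩ := (inferInstance : Nonempty (Sylow 2 K))
  have hPz : ∀ x : P, x = 1 ∨ ((x : K) : G) = z := by
    intro x
    obtain ⟨j, hj⟩ := P.2 x
    have h1 : ((x : K) : G) ^ 2 ^ j = 1 := by
      have := congrArg (fun y : P => ((y : K) : G)) hj
      simpa using this
    rcases eq_of_pow_two_pow hK j _ ((hKmem _).1 (x : K).2) h1 with h2 | h2
    · exact Or.inl (Subtype.ext (Subtype.ext h2))
    · exact Or.inr h2
  have hcyc : IsCyclic P := by
    by_cases hx : ∃ x : P, x ≠ 1
    · obtain ⟨x, hx⟩ := hx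
      refine ⟨x, fun y => ?_⟩
      rcases hPz y with hy | hy
      · exact ⟨0, by rw [hy]; simp⟩
      · have h2 := (hPz x).resolve_left hx
        have h3 : y = x := Subtype.ext (Subtype.ext (hy.trans h2.symm))
        exact ⟨1, by rw [h3]; simp⟩
    · push Not at hx
      exact ⟨1, fun y => ⟨0, by rw [hx y]; simp⟩⟩
  have hclosed := Classification.TransferSign.oddClosed_of_isCyclic P hcyc
  let N : Subgroup G :=
    { carrier := {x | (∀ y ∈ S.L, x * y = y * x) ∧ Odd (orderOf x)}
      mul_mem' := by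
        rintro a b ⟨ha, ha'⟩ ⟨hb, hb'⟩
        have h1 := hclosed ⟨a, (hKmem a).2 ha⟩ ⟨b, (hKmem b).2 hb⟩ (by rwa [Subgroup.orderOf_mk])
          (by rwa [Subgroup.orderOf_mk])
        rw [MulMemClass.mk_mul_mk, Subgroup.orderOf_mk] at h1
        exact ⟨(hKmem _).1 (K.mul_mem ((hKmem a).2 ha) ((hKmem b).2 hb)), h1⟩
      one_mem' := ⟨fun y _ => by rw [one_mul, mul_one], by rw [orderOf_one]; exact odd_one⟩
      inv_mem' := by
        rintro a ⟨ha, ha'⟩
        exact ⟨(hKmem _).1 (K.inv_mem ((hKmem a).2 ha)), by rwa [orderOf_inv]⟩ }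
  have hNle : N ≤ centralizerPPrimeCore 2 z := by
    refine le_core z ?_ ?_ ?_
    · rintro x ⟨hx, -⟩
      exact hx z S.z_mem
    · rintro y hy x ⟨hx, hx'⟩
      refine ⟨?_, ?_⟩
      · intro l hl
        have h1 := S.conj_mem y⁻¹ (AltStd.comm_inv hy) l hl
        rw [inv_inv] at h1
        have h2 := hx _ h1
        calc y * x * y⁻¹ * l = y * (x * (y⁻¹ * l * y)) * y⁻¹ := by group
          _ = y * (y⁻¹ * l * y * x) * y⁻¹ := by rw [h2]
          _ = l * (y * x * y⁻¹) := by group
      · have : orderOf (y * x * y⁻¹) = orderOf x := by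
          have := orderOf_injective (MulAut.conj y).toMonoidHom (MulAut.conj y).injective x
          simpa using this
        show Odd (orderOf (y * x * y⁻¹))
        rwa [this]
    · rw [← Nat.not_even_iff_odd, even_iff_two_dvd]
      intro h2
      obtain ⟨x, hx⟩ := exists_prime_orderOf_dvd_card' 2 h2
      have h3 : Odd (orderOf (x : G)) := x.2.2
      rw [Subgroup.orderOf_coe, hx] at h3
      exact absurd h3 (by decide)
  exact hNle ⟨hk, ho⟩

/-- **The centralizer of `z` is the component.** -/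
theorem centralizer_eq [Finite G] [IsSimpleGroup G] (hn : 6 ≤ n) (hn' : n < 16)
    (hSE : ∀ H : Subgroup G, IsStronglyEmbedded H → (oddCore H).map H.subtype ≤ oddCore G)
    (hL : ∀ {z : G} (S : AltStd G n z), InL S) (hF : ∀ {z : G} (S : AltStd G n z), FixSupp S)
    {z : G} (S : AltStd G n z) (hK : SmallK S)
    (hz : ∃ g : G, g * z * g⁻¹ ≠ z ∧ g * z * g⁻¹ * z = z * (g * z * g⁻¹)) :
    Subgroup.centralizer ({z} : Set G) = S.L := by
  have hbot := core_eq_bot hn hn' hSE hL hF S hK hz
  refine le_antisymm ?_ (L_le S)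
  intro y hy
  have hy' := CentCore.mem_cent.1 hy
  obtain ⟨l, hl, k, hk, rfl, -⟩ := exists_mul hy' (φ_even_of_simple hn hn' (hL S) hK hz hy')
  refine S.L.mul_mem hl ?_
  -- `k` is `1` or `z` up to odd order
  obtain ⟨j, m, hm, hjm⟩ := Nat.exists_eq_two_pow_mul_odd (orderOf_pos k).ne'
  have hkm : ∀ x ∈ S.L, k ^ m * x = x * k ^ m := fun x hx =>
    ((show Commute k x from hk x hx).pow_left m).eq
  have hodd1 : ∀ x : G, x ^ m = 1 → Odd (orderOf x) := fun x hx => Odd.of_dvd_nat hm (orderOf_dvd_of_pow_eq_one hx)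
  rcases eq_of_pow_two_pow hK j (k ^ m) hkm (by rw [← pow_mul, mul_comm, ← hjm, pow_orderOf_eq_one]) with h1 | h1
  · have h2 := mem_core_of_centralizes hK hk (hodd1 k h1)
    rw [hbot, Subgroup.mem_bot] at h2
    rw [h2]; exact S.L.one_mem
  · have hkz : Commute k z := hk z S.z_mem
    have h3 : (k * z) ^ m = 1 := by
      obtain ⟨r, hr⟩ := hm
      rw [hkz.mul_pow, h1, ← pow_succ', hr, show 2 * r + 1 + 1 = 2 * (r + 1) by ring, pow_mul, pow_two, S.z_sq,
        one_pow]
    have h4 : ∀ x ∈ S.L, k * z * x = x * (k * z) := fun x hx => by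
      rw [mul_assoc, ← S.comm x hx, ← mul_assoc, hk x hx, mul_assoc]
    have h2 := mem_core_of_centralizes hK h4 (hodd1 _ h3)
    rw [hbot, Subgroup.mem_bot] at h2
    have h5 : k = z := by
      rw [mul_eq_one_iff_eq_inv, S.z_inv] at h2
      exact h2
    rw [h5]; exact S.z_mem

end Cfsg.Agent.StandardComponent.AltClose
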