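import Cfsg.Agent.StandardComponent.AltStd

/-!
# Lifts of 3-cycles and double transpositions in a standard component of type `2.A_n`
-/

set_option autoImplicit false

namespace Cfsg.Agent.StandardComponent

open Equiv Cfsg.Agent.SporRec.TwoAn

namespace AltStd

variable {G : Type*} [Group G] {n : ℕ} {z : G} (S : AltStd G n z)

theorem comm_conj {x y : G} (h : x * y = y * x) : x * y * x⁻¹ = y := by rw [h, mul_inv_cancel_right]

theorem conj_comm {x y : G} (h : x * y * x⁻¹ = y) : x * y = y * x := by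
  rwa [mul_inv_eq_iff_eq_mul] at h

theorem swap_three_mem {a b c : Fin n} (hab : a ≠ b) (hbc : b ≠ c) :
    swap a b * swap b c ∈ alternatingGroup (Fin n) := by
  rw [Perm.mem_alternatingGroup, map_mul, Perm.sign_swap hab, Perm.sign_swap hbc]
  decide

theorem swap_three_cube {a b c : Fin n} (hab : a ≠ b) (hac : a ≠ c) (hbc : b ≠ c) :
    (swap a b * swap b c) ^ 3 = 1 := by
  have h := Perm.isThreeCycle_swap_mul_swap_same hab.symm hbc hac
  rw [swap_comm b a] at h
  rw [← h.orderOf, pow_orderOf_eq_one]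

theorem exists_three {a b c : Fin n} (hab : a ≠ b) (hac : a ≠ c) (hbc : b ≠ c) :
    ∃ x ∈ S.L, S.φ x = swap a b * swap b c ∧ x ^ 3 = 1 := by
  obtain ⟨x, hx, hx3⟩ := S.cover.exists_odd_lift (swap_three_mem hab hbc) (n := 3) (by decide)
    (swap_three_cube hab hac hbc)
  exact ⟨x, x.2, hx, by simpa using congrArg Subtype.val hx3⟩

open Classical in
/-- The lift of order 3 of the 3-cycle `a → b → c → a`. -/
noncomputable def t (a b c : Fin n) : G :=
  if h : a ≠ b ∧ a ≠ c ∧ b ≠ c then (S.exists_three h.1 h.2.1 h.2.2).choose else 1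

theorem t_spec {a b c : Fin n} (hab : a ≠ b) (hac : a ≠ c) (hbc : b ≠ c) :
    S.t a b c ∈ S.L ∧ S.φ (S.t a b c) = swap a b * swap b c ∧ S.t a b c ^ 3 = 1 := by
  have h : a ≠ b ∧ a ≠ c ∧ b ≠ c := ⟨hab, hac, hbc⟩
  unfold t
  rw [dif_pos h]
  exact (S.exists_three h.1 h.2.1 h.2.2).choose_spec

theorem t_mem (a b c : Fin n) : S.t a b c ∈ S.L := by
  by_cases h : a ≠ b ∧ a ≠ c ∧ b ≠ c
  · exact (S.t_spec h.1 h.2.1 h.2.2).1
  · unfold t
    rw [dif_neg h]
    exact S.L.one_mem

theorem φ_t {a b c : Fin n} (hab : a ≠ b) (hac : a ≠ c) (hbc : b ≠ c) :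
    S.φ (S.t a b c) = swap a b * swap b c := (S.t_spec hab hac hbc).2.1

theorem eq_t {a b c : Fin n} (hab : a ≠ b) (hac : a ≠ c) (hbc : b ≠ c) {x : G} (hx : x ∈ S.L)
    (h1 : S.φ x = swap a b * swap b c) (h3 : x ^ 3 = 1) : x = S.t a b c := by
  have := S.cover.odd_lift_unique (g := ⟨x, hx⟩) (h := ⟨S.t a b c, S.t_mem a b c⟩) (n := 3) (by decide)
    (Subtype.ext (by simpa using h3)) (Subtype.ext (by simpa using (S.t_spec hab hac hbc).2.2))
    (by show S.φ x = S.φ (S.t a b c); rw [h1, S.φ_t hab hac hbc])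
  exact congrArg Subtype.val this

/-- Equivariance of the lifts of 3-cycles under the full centralizer of `z`. -/
theorem conj_t {y : G} (hy : y * z = z * y) {a b c : Fin n} (hab : a ≠ b) (hac : a ≠ c) (hbc : b ≠ c) :
    y * S.t a b c * y⁻¹ = S.t (S.φ y a) (S.φ y b) (S.φ y c) := by
  obtain ⟨h1, h2, h3⟩ := S.t_spec hab hac hbc
  refine S.eq_t ((S.φ y).injective.ne hab) ((S.φ y).injective.ne hac) ((S.φ y).injective.ne hbc)
    (S.conj_mem y hy _ h1) ?_ ?_
  · rw [S.φ_conj hy (S.comm _ h1), h2, swap_apply_apply, swap_apply_apply]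
    group
  · rw [conj_pow, h3, mul_one, mul_inv_cancel]

/-- A lift of the double transposition `(a b)(c d)`. -/
noncomputable def D (a b c d : Fin n) : G := S.t a c b * S.t a c d

theorem D_mem (a b c d : Fin n) : S.D a b c d ∈ S.L := S.L.mul_mem (S.t_mem _ _ _) (S.t_mem _ _ _)

theorem φ_D {a b c d : Fin n} (hab : a ≠ b) (hac : a ≠ c) (had : a ≠ d) (hbc : b ≠ c) (hcd : c ≠ d) (hbd : b ≠ d) :
    S.φ (S.D a b c d) = swap a b * swap c d := by
  unfold D
  rw [S.φ_mul _ _ (S.comm _ (S.t_mem _ _ _)) (S.comm _ (S.t_mem _ _ _)), S.φ_t hac hab hbc.symm,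
    S.φ_t hac had hcd]
  ext x
  simp only [Perm.mul_apply, swap_apply_def]
  split_ifs <;> simp_all

theorem D_sq {a b c d : Fin n} (hab : a ≠ b) (hac : a ≠ c) (had : a ≠ d) (hbc : b ≠ c) (hcd : c ≠ d) (hbd : b ≠ d) :
    S.D a b c d * S.D a b c d = z :=
  S.dbl a b c d hab hac had hbc hbd hcd _ (S.D_mem _ _ _ _) (S.φ_D hab hac had hbc hcd hbd)

theorem conj_D {y : G} (hy : y * z = z * y) {a b c d : Fin n} (hab : a ≠ b) (hac : a ≠ c) (had : a ≠ d)
    (hbc : b ≠ c) (hcd : c ≠ d) :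
    y * S.D a b c d * y⁻¹ = S.D (S.φ y a) (S.φ y b) (S.φ y c) (S.φ y d) := by
  unfold D
  rw [← S.conj_t hy hac hab hbc.symm, ← S.conj_t hy hac had hcd]
  group

/-- Flipping both transpositions does not change the lift. -/
theorem D_flip {a b c d : Fin n} (hab : a ≠ b) (hac : a ≠ c) (had : a ≠ d) (hbc : b ≠ c) (hcd : c ≠ d)
    (hbd : b ≠ d) : S.D b a d c = S.D a b c d := by
  have h1 := S.conj_D (S.comm _ (S.D_mem a b c d)) hab hac had hbc hcd
  rw [mul_inv_cancel_right, S.φ_D hab hac had hbc hcd hbd] at h1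
  have e1 : (swap a b * swap c d) a = b := by
    rw [Perm.mul_apply, swap_apply_of_ne_of_ne hac had, swap_apply_left]
  have e2 : (swap a b * swap c d) b = a := by
    rw [Perm.mul_apply, swap_apply_of_ne_of_ne hbc hbd, swap_apply_right]
  have e3 : (swap a b * swap c d) c = d := by
    rw [Perm.mul_apply, swap_apply_left, swap_apply_of_ne_of_ne had.symm hbd.symm]
  have e4 : (swap a b * swap c d) d = c := by
    rw [Perm.mul_apply, swap_apply_right, swap_apply_of_ne_of_ne hac.symm hbc.symm]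
  rw [e1, e2, e3, e4] at h1
  exact h1.symm

/-- Exchanging the two transpositions multiplies the lift by `z`. -/
theorem D_swap {a b c d : Fin n} (hab : a ≠ b) (hac : a ≠ c) (had : a ≠ d) (hbc : b ≠ c) (hcd : c ≠ d)
    (hbd : b ≠ d) : S.D c d a b = z * S.D a b c d := by
  have h1 := S.conj_D (S.comm _ (S.D_mem a c b d)) hab hac had hbc hcd
  have h2 := S.φ_D hac hab had hbc.symm hbd hcd
  rw [h2] at h1
  have e1 : (swap a c * swap b d) a = c := by
    rw [Perm.mul_apply, swap_apply_of_ne_of_ne hab had, swap_apply_left]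
  have e2 : (swap a c * swap b d) b = d := by
    rw [Perm.mul_apply, swap_apply_left, swap_apply_of_ne_of_ne had.symm hcd.symm]
  have e3 : (swap a c * swap b d) c = a := by
    rw [Perm.mul_apply, swap_apply_of_ne_of_ne hbc.symm hcd, swap_apply_right]
  have e4 : (swap a c * swap b d) d = b := by
    rw [Perm.mul_apply, swap_apply_right, swap_apply_of_ne_of_ne hab.symm hbc]
  rw [e1, e2, e3, e4] at h1
  have h3 := S.cover.anticomm hab hac had hbc hbd hcd (g := ⟨S.D a b c d, S.D_mem _ _ _ _⟩)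
    (h := ⟨S.D a c b d, S.D_mem _ _ _ _⟩) (S.φ_D hab hac had hbc hcd hbd) h2
  have h4 : S.D a c b d * S.D a b c d = S.D a b c d * S.D a c b d * z := congrArg Subtype.val h3
  rw [← h1, h4, mul_assoc (S.D a b c d), S.comm _ (S.D_mem a c b d), ← mul_assoc, mul_inv_cancel_right,
    S.comm _ (S.D_mem a b c d)]

/-- Elements of the component with disjoint supports commute. -/
theorem commute_of_disjoint {x y : G} (hx : x ∈ S.L) (hy : y ∈ S.L) (h : (S.φ x).Disjoint (S.φ y)) :
    x * y = y * x := by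
  have := S.cover.commute_of_disjoint (g := ⟨x, hx⟩) (h := ⟨y, hy⟩) h
  exact congrArg Subtype.val this

end AltStd

end Cfsg.Agent.StandardComponent
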