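import Cfsg.Agent.StandardComponent.AltQ8

/-!
# Standard components of type `2.A_n`: involutions of the centralizer of the component

For a pair `z, z'` of commuting distinct conjugate involutions with standard components `L, L'` of type `2.A_n`,
`8 ≤ n < 16`: `z` is the only involution of `C_G(L)` commuting with `z'`, `z' ∈ L`, and the 2-elements of `C_G(L)` are
`1, z`.
-/

set_option autoImplicit false

namespace Cfsg.Agent.StandardComponent

open Equiv Cfsg.Agent.SporRec.TwoAn

namespace AltStd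

variable {G : Type*} [Group G] {n : ℕ} {z : G} (S : AltStd G n z)

theorem commutes_of_conj {x k : G} (h : k * x * k⁻¹ = x) : x * k = k * x := by
  rw [mul_inv_eq_iff_eq_mul] at h
  exact h.symm

/-- If every element of the component commuting with `k` commutes with `w`, three fixed points of `k` are fixed by
`w`. -/
theorem fix_of_fix {k w : G} (hk : k * z = z * k) (hw : w * z = z * w) (hw2 : S.φ w * S.φ w = 1)
    (H : ∀ x ∈ S.L, x * k = k * x → x * w = w * x) {p q r : Fin n} (hpq : p ≠ q) (hpr : p ≠ r) (hqr : q ≠ r)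
    (hp : S.φ k p = p) (hq : S.φ k q = q) (hr : S.φ k r = r) : S.φ w p = p := by
  have h1 : S.t p q r * w = w * S.t p q r := H _ (S.t_mem _ _ _) (commutes_of_conj (by
    rw [S.conj_t hk hpq hpr hqr, hp, hq, hr]))
  have h2 : S.φ w * (swap p q * swap q r) = swap p q * swap q r * S.φ w := by
    rw [← S.φ_t hpq hpr hqr, ← S.φ_mul _ _ hw (S.comm _ (S.t_mem _ _ _)), ← h1,
      S.φ_mul _ _ (S.comm _ (S.t_mem _ _ _)) hw]
  have hσ : ∀ x, S.φ w (S.φ w x) = x := fun x => by rw [← Perm.mul_apply, hw2]; rfl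
  have h3 : ∀ x, S.φ w ((swap p q * swap q r) x) = (swap p q * swap q r) (S.φ w x) := fun x => by
    rw [← Perm.mul_apply, h2, Perm.mul_apply]
  have cp : (swap p q * swap q r) p = q := by
    rw [Perm.mul_apply, swap_apply_of_ne_of_ne hpq hpr, swap_apply_left]
  have cq : (swap p q * swap q r) q = r := by
    rw [Perm.mul_apply, swap_apply_left, swap_apply_of_ne_of_ne hpr.symm hqr.symm]
  have cr : (swap p q * swap q r) r = p := by
    rw [Perm.mul_apply, swap_apply_right, swap_apply_right]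
  by_contra hne
  have h4 := h3 p
  rw [cp] at h4
  by_cases hq' : S.φ w p = q
  · rw [hq', cq] at h4
    rw [← hq', hσ] at h4
    exact hpr h4
  by_cases hr' : S.φ w p = r
  · rw [hr', cr] at h4
    have : S.φ w (S.φ w q) = S.φ w p := by rw [h4]
    rw [hσ, hr'] at this
    exact hqr this
  · rw [Perm.mul_apply, swap_apply_of_ne_of_ne hq' hr', swap_apply_of_ne_of_ne hne hq'] at h4
    exact hpq ((S.φ w).injective h4).symm

/-- If every element of the component commuting with the involution `k` commutes with `w`, then `w` acts on the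
points of the transpositions of `k` as `1` or as `k`. -/
theorem act_of_move {k w : G} (hk : k * z = z * k) (hk2 : S.φ k * S.φ k = 1) (hw : w * z = z * w)
    (H : ∀ x ∈ S.L, x * k = k * x → x * w = w * x) (h5 : 5 ≤ (Finset.univ.filter fun x => S.φ k x ≠ x).card)
    {i : Fin n} (hi : S.φ k i ≠ i) :
    (S.φ w i = i ∧ ∀ j, S.φ k j ≠ j → S.φ w j = j) ∨ (S.φ w i = S.φ k i ∧ ∀ j, S.φ k j ≠ j → S.φ w j = S.φ k j) := by
  have hκ : ∀ x, S.φ k (S.φ k x) = x := fun x => by rw [← Perm.mul_apply, hk2]; rfl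
  have happ : ∀ {σ τ : Perm (Fin n)}, σ * τ = τ * σ → ∀ x, σ (τ x) = τ (σ x) := fun {σ τ} h x => by
    rw [← Perm.mul_apply, h, Perm.mul_apply]
  -- `w` commutes with `k` modulo the centralizer
  have hD : ∀ a c : Fin n, S.φ k a ≠ a → S.φ k c ≠ c → a ≠ c → a ≠ S.φ k c → S.φ k a ≠ c → S.φ k a ≠ S.φ k c →
      S.φ w * (swap a (S.φ k a) * swap c (S.φ k c)) = swap a (S.φ k a) * swap c (S.φ k c) * S.φ w := by
    intro a c ha hc h1 h2 h3 h4
    have hm := S.D_mem a (S.φ k a) c (S.φ k c)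
    have h5 : S.D a (S.φ k a) c (S.φ k c) * w = w * S.D a (S.φ k a) c (S.φ k c) := H _ hm (commutes_of_conj (by
      rw [S.conj_D hk ha.symm h1 h2 h3 hc.symm, hκ, hκ, S.D_flip ha.symm h1 h2 h3 hc.symm h4]))
    rw [← S.φ_D ha.symm h1 h2 h3 hc.symm h4, ← S.φ_mul _ _ hw (S.comm _ hm), ← h5, S.φ_mul _ _ (S.comm _ hm) hw]
  -- the 3-cycles on blocks
  have hB : ∀ a c e : Fin n, S.φ k a ≠ a → S.φ k c ≠ c → S.φ k e ≠ e → a ≠ c → a ≠ S.φ k c → a ≠ e → a ≠ S.φ k e →
      c ≠ e → c ≠ S.φ k e →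
      S.φ w * (swap a c * swap c e * (swap (S.φ k a) (S.φ k c) * swap (S.φ k c) (S.φ k e))) =
      swap a c * swap c e * (swap (S.φ k a) (S.φ k c) * swap (S.φ k c) (S.φ k e)) * S.φ w := by
    intro a c e ha hc he h1 h2 h3 h4 h6 h7
    have n1 := (S.φ k).injective.ne h1
    have n3 := (S.φ k).injective.ne h3
    have n6 := (S.φ k).injective.ne h6
    have e2 : S.φ k a ≠ c := fun h => h2 (by rw [← h, hκ])
    have e4 : S.φ k a ≠ e := fun h => h4 (by rw [← h, hκ])
    have e7 : S.φ k c ≠ e := fun h => h7 (by rw [← h, hκ])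
    have hm1 := S.t_mem a c e
    have hm2 := S.t_mem (S.φ k a) (S.φ k c) (S.φ k e)
    have hcomm : S.t a c e * S.t (S.φ k a) (S.φ k c) (S.φ k e) =
        S.t (S.φ k a) (S.φ k c) (S.φ k e) * S.t a c e := by
      apply S.commute_of_disjoint hm1 hm2
      rw [S.φ_t h1 h3 h6, S.φ_t n1 n3 n6]
      intro x
      by_cases hx : x = a ∨ x = c ∨ x = e
      · right
        rw [Perm.mul_apply]
        rcases hx with rfl | rfl | rfl
        · rw [swap_apply_of_ne_of_ne h2 h4, swap_apply_of_ne_of_ne ha.symm h2]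
        · rw [swap_apply_of_ne_of_ne hc.symm h7, swap_apply_of_ne_of_ne e2.symm hc.symm]
        · rw [swap_apply_of_ne_of_ne e7.symm he.symm, swap_apply_of_ne_of_ne e4.symm e7.symm]
      · left
        rw [not_or, not_or] at hx
        rw [Perm.mul_apply, swap_apply_of_ne_of_ne hx.2.1 hx.2.2, swap_apply_of_ne_of_ne hx.1 hx.2.1]
    have hm := S.L.mul_mem hm1 hm2
    have h8 : S.t a c e * S.t (S.φ k a) (S.φ k c) (S.φ k e) * w =
        w * (S.t a c e * S.t (S.φ k a) (S.φ k c) (S.φ k e)) := H _ hm (commutes_of_conj (by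
      rw [show k * (S.t a c e * S.t (S.φ k a) (S.φ k c) (S.φ k e)) * k⁻¹ =
        (k * S.t a c e * k⁻¹) * (k * S.t (S.φ k a) (S.φ k c) (S.φ k e) * k⁻¹) by group,
        S.conj_t hk h1 h3 h6, S.conj_t hk n1 n3 n6, hκ, hκ, hκ, hcomm]))
    rw [← S.φ_t h1 h3 h6, ← S.φ_t n1 n3 n6, ← S.φ_mul _ _ (S.comm _ hm1) (S.comm _ hm2),
      ← S.φ_mul _ _ hw (S.comm _ hm), ← h8, S.φ_mul _ _ (S.comm _ hm) hw]
  -- `w` preserves the block of `a`
  have hA : ∀ a c e : Fin n, S.φ k a ≠ a → S.φ k c ≠ c → S.φ k e ≠ e → a ≠ c → a ≠ S.φ k c → a ≠ e → a ≠ S.φ k e →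
      c ≠ e → c ≠ S.φ k e → S.φ w a = a ∨ S.φ w a = S.φ k a := by
    intro a c e ha hc he h1 h2 h3 h4 h6 h7
    have e2 : S.φ k a ≠ c := fun h => h2 (by rw [← h, hκ])
    have e4 : S.φ k a ≠ e := fun h => h4 (by rw [← h, hκ])
    have e7 : S.φ k c ≠ e := fun h => h7 (by rw [← h, hκ])
    have n1 := (S.φ k).injective.ne h1
    have n6 := (S.φ k).injective.ne h6
    have p1 := hD a c ha hc h1 h2 e2 n1
    have p2 := hD c e hc he h6 h7 e7 n6
    have q1 : S.φ w (S.φ k a) = (swap a (S.φ k a) * swap c (S.φ k c)) (S.φ w a) := by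
      have := happ p1 a
      rwa [Perm.mul_apply (swap a (S.φ k a)) (swap c (S.φ k c)) a, swap_apply_of_ne_of_ne h1 h2,
        swap_apply_left] at this
    have q2 : S.φ w a = (swap c (S.φ k c) * swap e (S.φ k e)) (S.φ w a) := by
      have := happ p2 a
      rwa [Perm.mul_apply (swap c (S.φ k c)) (swap e (S.φ k e)) a, swap_apply_of_ne_of_ne h3 h4,
        swap_apply_of_ne_of_ne h1 h2] at this
    by_contra hcon
    rw [not_or] at hcon
    have hwne : S.φ w (S.φ k a) ≠ S.φ w a := (S.φ w).injective.ne ha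
    by_cases c1 : S.φ w a = c
    · rw [c1, Perm.mul_apply, swap_apply_of_ne_of_ne h6 h7, swap_apply_left] at q2
      exact hc q2.symm
    by_cases c2 : S.φ w a = S.φ k c
    · rw [c2, Perm.mul_apply, swap_apply_of_ne_of_ne e7 n6, swap_apply_right] at q2
      exact hc q2
    rw [Perm.mul_apply, swap_apply_of_ne_of_ne c1 c2, swap_apply_of_ne_of_ne hcon.1 hcon.2] at q1
    exact hwne q1
  -- the alternative is the same on two blocks
  have hC : ∀ a c : Fin n, S.φ k a ≠ a → S.φ k c ≠ c →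
      (S.φ w a = a → S.φ w c = c) ∧ (S.φ w a = S.φ k a → S.φ w c = S.φ k c) := by
    intro a c ha hc
    obtain ⟨b, l, hb, hl, hab, hab', hal, hal', hba, hba', hla, hla', hbl, hbl', hlb, hlb'⟩ := exists_blocks hk2 h5 ha
    have hwa := hA a b l ha hb hl hab hab' hal hal' hbl hbl'
    -- `w (k a)`
    have hka : (S.φ w a = a → S.φ w (S.φ k a) = S.φ k a) ∧ (S.φ w a = S.φ k a → S.φ w (S.φ k a) = a) := by
      have p1 := hD a b ha hb hab hab' hba hba'
      have q1 : S.φ w (S.φ k a) = (swap a (S.φ k a) * swap b (S.φ k b)) (S.φ w a) := by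
        have := happ p1 a
        rwa [Perm.mul_apply (swap a (S.φ k a)) (swap b (S.φ k b)) a, swap_apply_of_ne_of_ne hab hab',
          swap_apply_left] at this
      constructor
      · intro h
        rw [h, Perm.mul_apply, swap_apply_of_ne_of_ne hab hab', swap_apply_left] at q1
        exact q1
      · intro h
        rw [h, Perm.mul_apply, swap_apply_of_ne_of_ne hba hba', swap_apply_right] at q1
        exact q1
    by_cases h1 : c = a
    · rw [h1]; exact ⟨id, id⟩
    by_cases h2 : c = S.φ k a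
    · rw [h2, hκ]; exact hka
    -- a third block
    obtain ⟨e, he, hae, hae', hce, hce'⟩ : ∃ e, S.φ k e ≠ e ∧ a ≠ e ∧ a ≠ S.φ k e ∧ c ≠ e ∧ c ≠ S.φ k e := by
      obtain ⟨e, he, he'⟩ := Finset.exists_mem_notMem_of_card_lt_card (s := {a, S.φ k a, c, S.φ k c})
        (t := Finset.univ.filter fun x => S.φ k x ≠ x) (by
          have := Finset.card_le_four (a := a) (b := S.φ k a) (c := c) (d := S.φ k c); omega)
      simp only [Finset.mem_filter, Finset.mem_univ, true_and] at he
      simp only [Finset.mem_insert, Finset.mem_singleton, not_or] at he'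
      refine ⟨e, he, Ne.symm he'.1, ?_, Ne.symm he'.2.2.1, ?_⟩
      · intro h; apply he'.2.1; rw [h, hκ]
      · intro h; apply he'.2.2.2; rw [h, hκ]
    have hac : a ≠ c := Ne.symm h1
    have hac' : a ≠ S.φ k c := fun h => h2 (by rw [h, hκ])
    have e2 : S.φ k a ≠ c := Ne.symm h2
    have e4 : S.φ k a ≠ e := fun h => hae' (by rw [← h, hκ])
    have e7 : S.φ k c ≠ e := fun h => hce' (by rw [← h, hκ])
    have n1 := (S.φ k).injective.ne hac
    have n3 := (S.φ k).injective.ne hae
    have n6 := (S.φ k).injective.ne hce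
    have h8 := hB a c e ha hc he hac hac' hae hae' hce hce'
    -- the block cycle maps `a ↦ c` and `k a ↦ k c`
    have g1 : (swap a c * swap c e * (swap (S.φ k a) (S.φ k c) * swap (S.φ k c) (S.φ k e))) a = c := by
      simp only [Perm.mul_apply]
      rw [swap_apply_of_ne_of_ne hac' hae', swap_apply_of_ne_of_ne ha.symm hac', swap_apply_of_ne_of_ne hac hae,
        swap_apply_left]
    have g2 : (swap a c * swap c e * (swap (S.φ k a) (S.φ k c) * swap (S.φ k c) (S.φ k e))) (S.φ k a) = S.φ k c := by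
      simp only [Perm.mul_apply]
      rw [swap_apply_of_ne_of_ne n1 n3, swap_apply_left, swap_apply_of_ne_of_ne hc e7,
        swap_apply_of_ne_of_ne hac'.symm hc]
    have g3 : S.φ w c = (swap a c * swap c e * (swap (S.φ k a) (S.φ k c) * swap (S.φ k c) (S.φ k e))) (S.φ w a) := by
      rw [← Perm.mul_apply, ← h8, Perm.mul_apply, g1]
    constructor
    · intro h; rw [g3, h, g1]
    · intro h; rw [g3, h, g2]
  obtain ⟨b, l, hb, hl, hab, hab', hal, hal', hba, hba', hla, hla', hbl, hbl', hlb, hlb'⟩ := exists_blocks hk2 h5 hi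
  rcases hA i b l hi hb hl hab hab' hal hal' hbl hbl' with h | h
  · exact Or.inl ⟨h, fun j hj => (hC i j hi hj).1 h⟩
  · exact Or.inr ⟨h, fun j hj => (hC i j hi hj).2 h⟩

end AltStd

end Cfsg.Agent.StandardComponent
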