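import Cfsg.Agent.StandardComponent.AltInv

/-!
# Standard components of type `2.A_n`: the centralizer of the component

For a pair `z, z'` of commuting distinct conjugate involutions with standard components `L, L'` of type `2.A_n`,
`8 ≤ n < 16`: `z` is the only involution of `C_G(L)` commuting with `z'` (`eq_z_of_sq`), `z' ∈ L` (`mem_L`), the
2-elements of `C_G(L)` are `1, z` (`eq_one_or_eq_z`), and elements of odd order of `C_G(L)` act on `L'` fixing all points
moved by `z` (`fix_of_odd`).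
-/

set_option autoImplicit false

namespace Cfsg.Agent.StandardComponent

open Equiv Cfsg.Agent.SporRec.TwoAn

namespace AltStd

variable {G : Type*} [Group G] {n : ℕ} {z : G} {S : AltStd G n z}

namespace Pair

variable {z' : G} {S' : AltStd G n z'}

/-- An involution centralizing `L` and commuting with `z'` does not centralize `L'`. -/
theorem φ_k_ne (P : Pair S S') {k : G} (hk : ∀ x ∈ S.L, k * x = x * k) (hkz' : k * z' = z' * k) (hk2 : k * k = 1)
    (hk1 : k ≠ 1) : S'.φ k ≠ 1 := by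
  intro h
  have h1 := (S'.φ_ker k hkz').1 h
  have h2 : ∀ x ∈ S.L, x * z' = z' * x := fun x hx => S'.tight k h1 hk2 hk1 x (hk x hx).symm
  exact P.symm.φ_ne ((S.φ_ker z' P.comm.symm).2 fun x hx => (h2 x hx).symm)

/-- `z` is the only involution centralizing `L` and commuting with `z'`. -/
theorem eq_z_of_sq (P : Pair S S') (hn : 8 ≤ n) (hn' : n < 16) {k : G} (hk : ∀ x ∈ S.L, k * x = x * k)
    (hkz' : k * z' = z' * k) (hk2 : k * k = 1) : k = 1 ∨ k = z := by
  by_contra hcon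
  rw [not_or] at hcon
  obtain ⟨hk1, hkz⟩ := hcon
  have hkzc : k * z = z * k := hk z S.z_mem
  -- the same for `k z`
  have hk' : ∀ x ∈ S.L, k * z * x = x * (k * z) := fun x hx => by
    rw [mul_assoc, ← S.comm x hx, ← mul_assoc, hk x hx, mul_assoc]
  have hkz' : k * z' = z' * k := hkz'
  have hkzz' : k * z * z' = z' * (k * z) := by rw [mul_assoc, P.comm, ← mul_assoc, hkz', mul_assoc]
  have hkz2 : k * z * (k * z) = 1 := by
    rw [mul_assoc, ← mul_assoc z, ← hkzc, mul_assoc k z z, S.z_sq, mul_one, hk2]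
  have hkz1 : k * z ≠ 1 := fun h => hkz (by rw [mul_eq_one_iff_eq_inv] at h; rw [h, S.z_inv])
  have hκ := P.φ_k_ne hk hkz' hk2 hk1
  have hκz := P.φ_k_ne hk' hkzz' hkz2 hkz1
  have hκz_eq : S'.φ (k * z) = S'.φ k * S'.φ z := S'.φ_mul _ _ hkz' P.comm
  have hκ2 : S'.φ k * S'.φ k = 1 := by rw [← S'.φ_mul _ _ hkz' hkz', hk2, S'.φ_one]
  have H : ∀ x ∈ S'.L, x * k = k * x → x * z = z * x := fun x _ hx => S.tight k hk hk2 hk1 x hx
  have H' : ∀ x ∈ S'.L, x * (k * z) = k * z * x → x * z = z * x := fun x _ hx => S.tight _ hk' hkz2 hkz1 x hx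
  have hcard : (Finset.univ.filter fun x => S'.φ z x ≠ x).card = 8 := by
    rw [← P.card_support hn hn']
    congr 1
  have hκκ : ∀ x, S'.φ k (S'.φ k x) = x := fun x => by rw [← Perm.mul_apply, hκ2]; rfl
  have hadd := card_filter_add (S'.φ k)
  by_cases h3 : 3 ≤ (Finset.univ.filter fun x => S'.φ k x = x).card
  · -- `z` is trivial on the fixed points of `k`
    have hfix : ∀ p, S'.φ k p = p → S'.φ z p = p := by
      intro p hp
      obtain ⟨q, hq, hq'⟩ := Finset.exists_mem_notMem_of_card_lt_card (s := {p})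
        (t := Finset.univ.filter fun x => S'.φ k x = x) (by rw [Finset.card_singleton]; omega)
      obtain ⟨r, hr, hr'⟩ := Finset.exists_mem_notMem_of_card_lt_card (s := {p, q})
        (t := Finset.univ.filter fun x => S'.φ k x = x) (by
          have := Finset.card_le_two (a := p) (b := q); omega)
      simp only [Finset.mem_filter, Finset.mem_univ, true_and] at hq hr
      simp only [Finset.mem_insert, Finset.mem_singleton, not_or] at hq' hr'
      exact S'.fix_of_fix hkz' P.comm P.φ_sq H (Ne.symm hq') (Ne.symm hr'.1) (Ne.symm hr'.2) hp hq hr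
    have hsub : (Finset.univ.filter fun x => S'.φ z x ≠ x) ⊆ Finset.univ.filter fun x => S'.φ k x ≠ x := by
      intro x hx
      simp only [Finset.mem_filter, Finset.mem_univ, true_and] at hx ⊢
      exact fun h => hx (hfix x h)
    have h8 := Finset.card_le_card hsub
    obtain ⟨i, hi⟩ : (Finset.univ.filter fun x => S'.φ z x ≠ x).Nonempty := by
      rw [← Finset.card_pos]; omega
    have hik := hsub hi
    simp only [Finset.mem_filter, Finset.mem_univ, true_and] at hi hik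
    rcases S'.act_of_move hkz' hκ2 P.comm H (by omega) hik with h | h
    · exact hi h.1
    · apply hκz
      rw [hκz_eq]
      ext x
      rw [Perm.mul_apply]
      by_cases hx : S'.φ k x = x
      · rw [hfix x hx, hx]; rfl
      · rw [h.2 x hx, hκκ]; rfl
  · -- `k` has at most two fixed points
    obtain ⟨i, hi⟩ : (Finset.univ.filter fun x => S'.φ k x ≠ x).Nonempty := by
      rw [← Finset.card_pos]; omega
    simp only [Finset.mem_filter, Finset.mem_univ, true_and] at hi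
    rcases S'.act_of_move hkz' hκ2 P.comm H (by omega) hi with h | h
    · have hsub : (Finset.univ.filter fun x => S'.φ z x ≠ x) ⊆ Finset.univ.filter fun x => S'.φ k x = x := by
        intro x hx
        simp only [Finset.mem_filter, Finset.mem_univ, true_and] at hx ⊢
        by_contra hx'
        exact hx (h.2 x hx')
      have := Finset.card_le_card hsub
      omega
    · -- `k z` is trivial on the points moved by `k`
      have hfix : ∀ x, S'.φ k x ≠ x → S'.φ (k * z) x = x := fun x hx => by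
        rw [hκz_eq, Perm.mul_apply, h.2 x hx, hκκ]
      obtain ⟨q, hq, hq'⟩ := Finset.exists_mem_notMem_of_card_lt_card (s := {i})
        (t := Finset.univ.filter fun x => S'.φ k x ≠ x) (by rw [Finset.card_singleton]; omega)
      obtain ⟨r, hr, hr'⟩ := Finset.exists_mem_notMem_of_card_lt_card (s := {i, q})
        (t := Finset.univ.filter fun x => S'.φ k x ≠ x) (by
          have := Finset.card_le_two (a := i) (b := q); omega)
      simp only [Finset.mem_filter, Finset.mem_univ, true_and] at hq hr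
      simp only [Finset.mem_insert, Finset.mem_singleton, not_or] at hq' hr'
      have := S'.fix_of_fix hkzz' P.comm P.φ_sq H' (Ne.symm hq') (Ne.symm hr'.1) (Ne.symm hr'.2) (hfix i hi)
        (hfix q hq) (hfix r hr)
      rw [h.1] at this
      exact hi this

/-- The conjugate `z'` lies in the component of `z`. -/
theorem mem_L (P : Pair S S') (hn : 8 ≤ n) (hn' : n < 16) : z' ∈ S.L := by
  obtain ⟨l, hl, hlφ⟩ := S.lift _ (P.symm.even hn)
  have hlz := S.comm l hl
  have hk0 : S.φ (l⁻¹ * z') = 1 := by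
    rw [S.φ_mul _ _ (comm_inv hlz) P.comm.symm, S.φ_inv hlz, hlφ, inv_mul_cancel]
  have hk := (S.φ_ker (l⁻¹ * z') (comm_mul (comm_inv hlz) P.comm.symm)).1 hk0
  have hl2 : l * l = 1 := by
    have h := (S.cover.sq_eq_one_iff (g := ⟨l, hl⟩)).2 ⟨by
      show S.φ l * S.φ l = 1
      rw [hlφ, P.symm.φ_sq], by
      show 8 ∣ (S.φ l).support.card
      rw [hlφ, P.symm.card_support hn hn']⟩
    exact congrArg Subtype.val h
  have hli : l⁻¹ = l := inv_eq_of_mul_eq_one_left hl2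
  have hlk := hk l hl
  have hz'l : z' * l = l * z' := by
    have h1 : l⁻¹ * z' * l = z' := by rw [hlk, mul_inv_cancel_left]
    calc z' * l = l * (l⁻¹ * z' * l) := by group
      _ = l * z' := by rw [h1]
  have hkz' : l⁻¹ * z' * z' = z' * (l⁻¹ * z') := by
    rw [hli, ← mul_assoc, hz'l]
  have hk2 : l⁻¹ * z' * (l⁻¹ * z') = 1 := by
    rw [hli, mul_assoc, ← mul_assoc z', hz'l, mul_assoc l z' z', S'.z_sq, mul_one, hl2]
  rcases P.eq_z_of_sq hn hn' hk hkz' hk2 with h | h
  · rw [inv_mul_eq_one] at h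
    rw [← h]; exact hl
  · rw [inv_mul_eq_iff_eq_mul] at h
    rw [h]; exact S.L.mul_mem hl S.z_mem

/-- An element of `C_G(L')` has no square equal to `z'`. -/
theorem sq_ne (P : Pair S S') (hn : 8 ≤ n) (hn' : n < 16) {y : G} (hy : ∀ x ∈ S'.L, y * x = x * y) :
    y * y ≠ z' := by
  intro hyy
  have hzL' : z ∈ S'.L := P.symm.mem_L hn hn'
  have hyz : y * z = z * y := hy z hzL'
  have hη2 : S.φ y * S.φ y = S.φ z' := by rw [← S.φ_mul _ _ hyz hyz, hyy]
  have hηη : ∀ x, S.φ y (S.φ y x) = S.φ z' x := fun x => by rw [← Perm.mul_apply, hη2]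
  have haa : ∀ x, S.φ z' (S.φ z' x) = x := fun x => by rw [← Perm.mul_apply, P.symm.φ_sq]; rfl
  have hinj : ∀ {x w}, S.φ y x = S.φ y w → x = w := fun h => (S.φ y).injective h
  have hcard : (Finset.univ.filter fun x => S.φ z' x ≠ x).card = 8 := by
    rw [← P.symm.card_support hn hn']
    congr 1
  obtain ⟨i0, hi⟩ : (Finset.univ.filter fun x => S.φ z' x ≠ x).Nonempty := by
    rw [← Finset.card_pos]; omega
  obtain ⟨j0, hj, hj'⟩ := Finset.exists_mem_notMem_of_card_lt_card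
    (s := {i0, S.φ y i0, S.φ y (S.φ y i0), S.φ y (S.φ y (S.φ y i0))})
    (t := Finset.univ.filter fun x => S.φ z' x ≠ x) (by
      have := Finset.card_le_four (a := i0) (b := S.φ y i0) (c := S.φ y (S.φ y i0)) (d := S.φ y (S.φ y (S.φ y i0)))
      omega)
  simp only [Finset.mem_filter, Finset.mem_univ, true_and] at hi hj
  simp only [Finset.mem_insert, Finset.mem_singleton, not_or] at hj'
  obtain ⟨hj0, hj1, hj2, hj3⟩ := hj'
  have h4 : ∀ x, S.φ y (S.φ y (S.φ y (S.φ y x))) = x := fun x => by rw [hηη, hηη, haa]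
  rw [← hηη] at hi hj
  obtain ⟨i1, hi1⟩ : ∃ i1, S.φ y i0 = i1 := ⟨_, rfl⟩
  obtain ⟨i2, hi2⟩ : ∃ i2, S.φ y i1 = i2 := ⟨_, rfl⟩
  obtain ⟨i3, hi3⟩ : ∃ i3, S.φ y i2 = i3 := ⟨_, rfl⟩
  have hi4 : S.φ y i3 = i0 := by rw [← hi3, ← hi2, ← hi1, h4]
  obtain ⟨j1, hj1'⟩ : ∃ j1, S.φ y j0 = j1 := ⟨_, rfl⟩
  obtain ⟨j2, hj2'⟩ : ∃ j2, S.φ y j1 = j2 := ⟨_, rfl⟩
  obtain ⟨j3, hj3'⟩ : ∃ j3, S.φ y j2 = j3 := ⟨_, rfl⟩
  have hj4 : S.φ y j3 = j0 := by rw [← hj3', ← hj2', ← hj1', h4]
  rw [hi1, hi2] at hi hj2 hj3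
  rw [hi1] at hj1
  rw [hi3] at hj3
  rw [hj1', hj2'] at hj
  -- distinctness of the `i`'s
  have i01 : i0 ≠ i1 := fun h => hi (by rw [← hi2, ← h, hi1, ← h])
  have i02 : i0 ≠ i2 := Ne.symm hi
  have i12 : i1 ≠ i2 := fun h => i01 (hinj (by rw [hi1, hi2, h]))
  have i13 : i1 ≠ i3 := fun h => i02 (hinj (by rw [hi1, hi3, h]))
  have i23 : i2 ≠ i3 := fun h => i12 (hinj (by rw [hi2, hi3, h]))
  have i03 : i0 ≠ i3 := fun h => i01 (by rw [← hi1, h, hi4, h])
  have j01 : j0 ≠ j1 := fun h => hj (by rw [← hj2', ← h, hj1', ← h])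
  have j02 : j0 ≠ j2 := Ne.symm hj
  have j12 : j1 ≠ j2 := fun h => j01 (hinj (by rw [hj1', hj2', h]))
  have j13 : j1 ≠ j3 := fun h => j02 (hinj (by rw [hj1', hj3', h]))
  have j23 : j2 ≠ j3 := fun h => j12 (hinj (by rw [hj2', hj3', h]))
  have a00 : i0 ≠ j0 := Ne.symm hj0
  have a10 : i1 ≠ j0 := Ne.symm hj1
  have a20 : i2 ≠ j0 := Ne.symm hj2
  have a30 : i3 ≠ j0 := Ne.symm hj3
  have a01 : i0 ≠ j1 := fun h => a30 (hinj (by rw [hi4, hj1', h]))
  have a11 : i1 ≠ j1 := fun h => a00 (hinj (by rw [hi1, hj1', h]))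
  have a21 : i2 ≠ j1 := fun h => a10 (hinj (by rw [hi2, hj1', h]))
  have a31 : i3 ≠ j1 := fun h => a20 (hinj (by rw [hi3, hj1', h]))
  have a02 : i0 ≠ j2 := fun h => a31 (hinj (by rw [hi4, hj2', h]))
  have a12 : i1 ≠ j2 := fun h => a01 (hinj (by rw [hi1, hj2', h]))
  have a22 : i2 ≠ j2 := fun h => a11 (hinj (by rw [hi2, hj2', h]))
  have a32 : i3 ≠ j2 := fun h => a21 (hinj (by rw [hi3, hj2', h]))
  have a03 : i0 ≠ j3 := fun h => a32 (hinj (by rw [hi4, hj3', h]))
  have a13 : i1 ≠ j3 := fun h => a02 (hinj (by rw [hi1, hj3', h]))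
  have a23 : i2 ≠ j3 := fun h => a12 (hinj (by rw [hi2, hj3', h]))
  have a33 : i3 ≠ j3 := fun h => a22 (hinj (by rw [hi3, hj3', h]))
  -- the two lifts
  have hm1 := S.D_mem i0 j0 i2 j2
  have hm2 := S.D_mem i1 j1 i3 j3
  have e1 : y * S.D i0 j0 i2 j2 * y⁻¹ = S.D i1 j1 i3 j3 := by
    rw [S.conj_D hyz a00 i02 a02 a20.symm a22, hi1, hj1', hi3, hj3']
  have e2 : y * S.D i1 j1 i3 j3 * y⁻¹ = z * S.D i0 j0 i2 j2 := by
    rw [S.conj_D hyz a11 i13 a13 a31.symm a33, hi2, hj2', hi4, hj4,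
      S.D_swap a00 i02 a02 a20.symm a22 j02]
  have hcomm : S.D i0 j0 i2 j2 * S.D i1 j1 i3 j3 = S.D i1 j1 i3 j3 * S.D i0 j0 i2 j2 := by
    apply S.commute_of_disjoint hm1 hm2
    rw [S.φ_D a00 i02 a02 a20.symm a22 j02, S.φ_D a11 i13 a13 a31.symm a33 j13]
    intro x
    by_cases hx : x = i0 ∨ x = j0 ∨ x = i2 ∨ x = j2
    · right
      rw [Perm.mul_apply]
      rcases hx with rfl | rfl | rfl | rfl
      · rw [swap_apply_of_ne_of_ne i03 a03, swap_apply_of_ne_of_ne i01 a01]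
      · rw [swap_apply_of_ne_of_ne a30.symm (fun h => j01 (by rw [← hj1', h, hj4, h])),
          swap_apply_of_ne_of_ne a10.symm j01]
      · rw [swap_apply_of_ne_of_ne i23 a23, swap_apply_of_ne_of_ne i12.symm a21]
      · rw [swap_apply_of_ne_of_ne a32.symm j23, swap_apply_of_ne_of_ne a12.symm j12.symm]
    · left
      rw [not_or, not_or, not_or] at hx
      rw [Perm.mul_apply, swap_apply_of_ne_of_ne hx.2.2.1 hx.2.2.2, swap_apply_of_ne_of_ne hx.1 hx.2.1]
  have hq : y * (S.D i0 j0 i2 j2 * S.D i1 j1 i3 j3) * y⁻¹ = z * (S.D i0 j0 i2 j2 * S.D i1 j1 i3 j3) := by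
    rw [show y * (S.D i0 j0 i2 j2 * S.D i1 j1 i3 j3) * y⁻¹ =
      (y * S.D i0 j0 i2 j2 * y⁻¹) * (y * S.D i1 j1 i3 j3 * y⁻¹) by group, e1, e2, ← mul_assoc,
      S.comm _ hm2, mul_assoc, hcomm]
  have hqm := S.L.mul_mem hm1 hm2
  generalize S.D i0 j0 i2 j2 * S.D i1 j1 i3 j3 = q at hq hqm
  -- `q` commutes with `z' = y²`
  have hqz' : q * z' = z' * q := by
    have h1 : y * q = z * q * y := by rw [← hq]; group
    have h2 : y * y * q = q * (y * y) := by
      calc y * y * q = y * (y * q) := by rw [mul_assoc]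
        _ = y * (z * q * y) := by rw [h1]
        _ = z * (y * q) * y := by rw [← mul_assoc, ← mul_assoc, hyz]; group
        _ = z * (z * q * y) * y := by rw [h1]
        _ = (z * z) * q * (y * y) := by group
        _ = q * (y * y) := by rw [S.z_sq, one_mul]
    rw [← hyy, h2]
  -- `z = [y, q]` centralizes `L'`
  apply P.φ_ne
  have hyz' : y * z' = z' * y := by rw [← hyy, mul_assoc]
  have h3 : z = y * (q * y⁻¹ * q⁻¹) := by
    calc z = (y * q * y⁻¹) * q⁻¹ := by rw [hq, mul_inv_cancel_right]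
      _ = y * (q * y⁻¹ * q⁻¹) := by group
  have hφy : S'.φ y = 1 := (S'.φ_ker y hyz').2 hy
  rw [h3, S'.φ_mul _ _ hyz' (comm_mul (comm_mul hqz' (comm_inv hyz')) (comm_inv hqz')),
    S'.φ_conj hqz' (comm_inv hyz'), S'.φ_inv hyz', hφy, inv_one, mul_one, mul_inv_cancel, one_mul]

/-- The 2-elements of the centralizer of the component. -/
theorem eq_one_or_eq_z (P : Pair S S') (hn : 8 ≤ n) (hn' : n < 16) {y : G} (hy : ∀ x ∈ S.L, y * x = x * y) {m : ℕ}
    (hm : y ^ 2 ^ m = 1) : y = 1 ∨ y = z := by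
  induction m generalizing y with
  | zero => left; simpa using hm
  | succ m ih =>
    have hy2 : ∀ x ∈ S.L, y * y * x = x * (y * y) := fun x hx => by
      rw [mul_assoc, hy x hx, ← mul_assoc, hy x hx, mul_assoc]
    have h1 : (y * y) ^ 2 ^ m = 1 := by rw [← pow_two, ← pow_mul, ← pow_succ', hm]
    rcases ih hy2 h1 with h | h
    · exact P.eq_z_of_sq hn hn' hy (hy z' (P.mem_L hn hn')) h
    · exact absurd h (P.symm.sq_ne hn hn' hy)

theorem φ_pow (S : AltStd G n z) {y : G} (hy : y * z = z * y) (m : ℕ) :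
    S.φ (y ^ m) = S.φ y ^ m ∧ y ^ m * z = z * y ^ m := by
  induction m with
  | zero => exact ⟨by rw [pow_zero, pow_zero, S.φ_one], by simp⟩
  | succ m ih => exact ⟨by rw [pow_succ, S.φ_mul _ _ ih.2 hy, ih.1, pow_succ], by rw [pow_succ, comm_mul ih.2 hy]⟩

/-- Elements of odd order centralizing `L` act on `L'` fixing all points moved by `z`. -/
theorem fix_of_odd (P : Pair S S') (hn : 8 ≤ n) (hn' : n < 16) {y : G} (hy : ∀ x ∈ S.L, y * x = x * y) {m : ℕ}
    (hm : Odd m) (hym : y ^ m = 1) {x : Fin n} (hx : S'.φ z x ≠ x) : S'.φ y x = x := by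
  obtain ⟨u, hu, v, hv, huz, hvz, -, -, -, h1, h2, h3⟩ := P.exists_perm hn
  have hyz' : y * z' = z' * y := hy z' (P.mem_L hn hn')
  refine AltQuat.fix_of_odd (by simpa using hn') h1 h2 h3 P.φ_sq ?_ ?_ ?_ hx
  · rw [← S'.φ_mul _ _ hyz' huz, hy u hu, S'.φ_mul _ _ huz hyz']
  · rw [← S'.φ_mul _ _ hyz' hvz, hy v hv, S'.φ_mul _ _ hvz hyz']
  · have : orderOf (S'.φ y) ∣ m := orderOf_dvd_of_pow_eq_one (by
      rw [← (φ_pow S' hyz' m).1, hym, S'.φ_one])
    exact Odd.of_dvd_nat hm this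

/-- Elements of odd order centralizing `L` commute with the 3-cycles of `L'` on points moved by `z`. -/
theorem commute_t (P : Pair S S') (hn : 8 ≤ n) (hn' : n < 16) {y : G} (hy : ∀ x ∈ S.L, y * x = x * y) {m : ℕ}
    (hm : Odd m) (hym : y ^ m = 1) {a b c : Fin n} (ha : S'.φ z a ≠ a) (hb : S'.φ z b ≠ b) (hc : S'.φ z c ≠ c)
    (hab : a ≠ b) (hac : a ≠ c) (hbc : b ≠ c) : y * S'.t a b c = S'.t a b c * y := by
  apply conj_comm
  rw [S'.conj_t (hy z' (P.mem_L hn hn')) hab hac hbc, P.fix_of_odd hn hn' hy hm hym ha,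
    P.fix_of_odd hn hn' hy hm hym hb, P.fix_of_odd hn hn' hy hm hym hc]

end Pair

end AltStd

end Cfsg.Agent.StandardComponent
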