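import Cfsg.Agent.StandardComponent.AltCycles
import Cfsg.Agent.StandardComponent.AltQuat

/-!
# Standard components of type `2.A_n`: quaternion groups and the type of the fused involutions
-/

set_option autoImplicit false

namespace Cfsg.Agent.StandardComponent

open Equiv Cfsg.Agent.SporRec.TwoAn

namespace AltStd

theorem exists_four {X : Type*} {F : Finset X} (h : 4 ≤ F.card) :
    ∃ p ∈ F, ∃ q ∈ F, ∃ r ∈ F, ∃ s ∈ F, p ≠ q ∧ p ≠ r ∧ p ≠ s ∧ q ≠ r ∧ q ≠ s ∧ r ≠ s := by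
  obtain ⟨f⟩ : Nonempty (Fin 4 ↪ F) :=
    Function.Embedding.nonempty_of_card_le (by simpa using h)
  have hf : ∀ i j : Fin 4, i ≠ j → (f i : X) ≠ f j := fun i j hij h => hij (f.injective (Subtype.ext h))
  exact ⟨f 0, (f 0).2, f 1, (f 1).2, f 2, (f 2).2, f 3, (f 3).2, hf _ _ (by decide), hf _ _ (by decide),
    hf _ _ (by decide), hf _ _ (by decide), hf _ _ (by decide), hf _ _ (by decide)⟩

/-- An involution moving at least 5 points has three transpositions, the first one being prescribed. -/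
theorem exists_blocks {n : ℕ} {σ : Perm (Fin n)} (h2 : σ * σ = 1)
    (h5 : 5 ≤ (Finset.univ.filter fun x => σ x ≠ x).card) {i : Fin n} (_hi : σ i ≠ i) :
    ∃ j l : Fin n, σ j ≠ j ∧ σ l ≠ l ∧ i ≠ j ∧ i ≠ σ j ∧ i ≠ l ∧ i ≠ σ l ∧ σ i ≠ j ∧ σ i ≠ σ j ∧ σ i ≠ l ∧ σ i ≠ σ l ∧
      j ≠ l ∧ j ≠ σ l ∧ σ j ≠ l ∧ σ j ≠ σ l := by
  have hσ : ∀ x, σ (σ x) = x := fun x => by rw [← Perm.mul_apply, h2]; rfl
  obtain ⟨j, hj, hj'⟩ := Finset.exists_mem_notMem_of_card_lt_card (s := {i, σ i})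
    (t := Finset.univ.filter fun x => σ x ≠ x) (by
      have := Finset.card_le_two (a := i) (b := σ i); omega)
  obtain ⟨l, hl, hl'⟩ := Finset.exists_mem_notMem_of_card_lt_card (s := {i, σ i, j, σ j})
    (t := Finset.univ.filter fun x => σ x ≠ x) (by
      have := Finset.card_le_four (a := i) (b := σ i) (c := j) (d := σ j); omega)
  simp only [Finset.mem_filter, Finset.mem_univ, true_and] at hj hl
  simp only [Finset.mem_insert, Finset.mem_singleton, not_or] at hj' hl'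
  refine ⟨j, l, hj, hl, Ne.symm hj'.1, ?_, Ne.symm hl'.1, ?_, Ne.symm hj'.2, ?_, Ne.symm hl'.2.1, ?_, Ne.symm hl'.2.2.1,
    ?_, Ne.symm hl'.2.2.2, ?_⟩
  · intro h; apply hj'.2; rw [h, hσ]
  · intro h; apply hl'.2.1; rw [h, hσ]
  · intro h; exact hj'.1 (σ.injective h).symm
  · intro h; exact hl'.1 (σ.injective h).symm
  · intro h; apply hl'.2.2.2; rw [h, hσ]
  · intro h; exact hl'.2.2.1 (σ.injective h).symm

theorem card_filter_add {n : ℕ} (σ : Perm (Fin n)) : (Finset.univ.filter fun x => σ x = x).card +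
    (Finset.univ.filter fun x => σ x ≠ x).card = n := by
  rw [Finset.card_filter_add_card_filter_not, Finset.card_univ, Fintype.card_fin]

variable {G : Type*} [Group G] {n : ℕ} {z : G} (S : AltStd G n z)

/-- Every element of `C(z)` acting as an involution centralizes a quaternion subgroup of the component with
centre `⟨z⟩`. -/
theorem exists_quat (hn : 8 ≤ n) {y : G} (hy : y * z = z * y) (h2 : S.φ y * S.φ y = 1) :
    ∃ u ∈ S.L, ∃ v ∈ S.L, u * u = z ∧ v * v = z ∧ v * u = u * v * z ∧ y * u = u * y ∧ y * v = v * y := by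
  have hadd := card_filter_add (S.φ y)
  by_cases h4 : 4 ≤ (Finset.univ.filter fun x => S.φ y x = x).card
  · obtain ⟨p, hp, q, hq, r, hr, s, hs, hpq, hpr, hps, hqr, hqs, hrs⟩ := exists_four h4
    simp only [Finset.mem_filter, Finset.mem_univ, true_and] at hp hq hr hs
    have hu := S.D_mem p q r s
    have hv := S.D_mem p r q s
    refine ⟨_, hu, _, hv, S.D_sq hpq hpr hps hqr hrs hqs, S.D_sq hpr hpq hps hqr.symm hqs hrs, ?_, ?_, ?_⟩
    · have h3 := S.cover.anticomm hpq hpr hps hqr hqs hrs (g := ⟨S.D p q r s, hu⟩)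
        (h := ⟨S.D p r q s, hv⟩) (S.φ_D hpq hpr hps hqr hrs hqs) (S.φ_D hpr hpq hps hqr.symm hqs hrs)
      exact congrArg Subtype.val h3
    · apply conj_comm
      rw [S.conj_D hy hpq hpr hps hqr hrs, hp, hq, hr, hs]
    · apply conj_comm
      rw [S.conj_D hy hpr hpq hps hqr.symm hqs, hp, hq, hr, hs]
  · obtain ⟨i, hi⟩ : (Finset.univ.filter fun x => S.φ y x ≠ x).Nonempty := by
      rw [← Finset.card_pos]; omega
    simp only [Finset.mem_filter, Finset.mem_univ, true_and] at hi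
    obtain ⟨j, l, hj, hl, hij, hij', hil, hil', hji, hji', hli, hli', hjl, hjl', hlj, hlj'⟩ :=
      exists_blocks h2 (by omega) hi
    have hσ : ∀ x, S.φ y (S.φ y x) = x := fun x => by rw [← Perm.mul_apply, h2]; rfl
    have hu := S.D_mem i (S.φ y i) j (S.φ y j)
    have hv := S.D_mem j (S.φ y j) l (S.φ y l)
    have hu2 := S.D_sq hi.symm hij hij' hji hj.symm hji'
    have hv2 := S.D_sq hj.symm hjl hjl' hlj hl.symm hlj'
    have φu := S.φ_D hi.symm hij hij' hji hj.symm hji'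
    have φv := S.φ_D hj.symm hjl hjl' hlj hl.symm hlj'
    refine ⟨_, hu, _, hv, hu2, hv2, ?_, ?_, ?_⟩
    · have h3 : S.D i (S.φ y i) j (S.φ y j) * S.D j (S.φ y j) l (S.φ y l) *
          (S.D i (S.φ y i) j (S.φ y j) * S.D j (S.φ y j) l (S.φ y l)) = z := by
        apply S.dbl i (S.φ y i) l (S.φ y l) hi.symm hil hil' hli hli' hl.symm _ (S.L.mul_mem hu hv)
        rw [S.φ_mul _ _ (S.comm _ hu) (S.comm _ hv), φu, φv, mul_assoc, ← mul_assoc (swap j (S.φ y j)),
          swap_mul_self, one_mul]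
      have hiz := S.z_sq
      generalize S.D i (S.φ y i) j (S.φ y j) = u at *
      generalize S.D j (S.φ y j) l (S.φ y l) = v at *
      have e1 : u⁻¹ = u * z := by rw [inv_eq_iff_mul_eq_one, ← mul_assoc, hu2, hiz]
      have e2 : v⁻¹ = v * z := by rw [inv_eq_iff_mul_eq_one, ← mul_assoc, hv2, hiz]
      have e3 : v * u = u⁻¹ * (u * v * (u * v)) * v⁻¹ := by group
      rw [e3, h3, e1, e2, mul_assoc u, hiz, mul_one, ← mul_assoc]
    · apply conj_comm
      rw [S.conj_D hy hi.symm hij hij' hji hj.symm, hσ, hσ, S.D_flip hi.symm hij hij' hji hj.symm hji']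
    · apply conj_comm
      rw [S.conj_D hy hj.symm hjl hjl' hlj hl.symm, hσ, hσ, S.D_flip hj.symm hjl hjl' hlj hl.symm hlj']

/-- A pair of commuting distinct conjugate involutions, both with a standard component of type `2.A_n`. -/
structure Pair {z z' : G} (S : AltStd G n z) (S' : AltStd G n z') : Prop where
  comm : z * z' = z' * z
  ne : z ≠ z'
  conj : ∃ g : G, g * z * g⁻¹ = z'

namespace Pair

variable {S} {z' : G} {S' : AltStd G n z'}

theorem symm (P : Pair S S') : Pair S' S := by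
  refine ⟨P.comm.symm, P.ne.symm, ?_⟩
  obtain ⟨g, hg⟩ := P.conj
  exact ⟨g⁻¹, by rw [← hg]; group⟩

/-- `z` does not centralize the component of `z'`. -/
theorem φ_ne (P : Pair S S') : S'.φ z ≠ 1 := by
  intro h
  have h1 := (S'.φ_ker z P.comm).1 h
  obtain ⟨g, hg⟩ := P.symm.conj
  have h2 := S'.uniq g (fun x hx => by rw [hg]; exact h1 x hx)
  exact P.ne (hg.symm.trans h2)

theorem φ_sq (P : Pair S S') : S'.φ z * S'.φ z = 1 := by
  rw [← S'.φ_mul _ _ P.comm P.comm, S.z_sq, S'.φ_one]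

/-- The quaternion group as a group of permutations. -/
theorem exists_perm (P : Pair S S') (hn : 8 ≤ n) : ∃ u ∈ S.L, ∃ v ∈ S.L, u * z' = z' * u ∧ v * z' = z' * v ∧
    u * u = z ∧ v * v = z ∧ v * u = u * v * z ∧
    S'.φ u * S'.φ u = S'.φ z ∧ S'.φ v * S'.φ v = S'.φ z ∧ S'.φ v * S'.φ u = S'.φ u * S'.φ v * S'.φ z := by
  obtain ⟨u, hu, v, hv, hu2, hv2, hvu, hyu, hyv⟩ := S.exists_quat hn P.comm.symm P.symm.φ_sq
  refine ⟨u, hu, v, hv, hyu.symm, hyv.symm, hu2, hv2, hvu, ?_, ?_, ?_⟩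
  · rw [← S'.φ_mul _ _ hyu.symm hyu.symm, hu2]
  · rw [← S'.φ_mul _ _ hyv.symm hyv.symm, hv2]
  · rw [← S'.φ_mul _ _ hyv.symm hyu.symm, hvu, S'.φ_mul _ _ (comm_mul hyu.symm hyv.symm) P.comm,
      S'.φ_mul _ _ hyu.symm hyv.symm]

/-- The involution `z` acts on the component of `z'` as a product of 4 transpositions. -/
theorem card_support (P : Pair S S') (hn : 8 ≤ n) (hn' : n < 16) : (S'.φ z).support.card = 8 := by
  obtain ⟨u, hu, v, hv, -, -, -, -, -, h1, h2, h3⟩ := P.exists_perm hn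
  exact AltQuat.card_support (by simpa using hn') h1 h2 h3 P.φ_sq P.φ_ne

theorem even (P : Pair S S') (hn : 8 ≤ n) : S'.φ z ∈ alternatingGroup (Fin n) := by
  obtain ⟨u, hu, v, hv, -, -, -, -, -, h1, h2, h3⟩ := P.exists_perm hn
  rw [Perm.mem_alternatingGroup, ← h1, map_mul, Int.units_mul_self]

end Pair

end AltStd

end Cfsg.Agent.StandardComponent
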