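import Cfsg.Agent.SporRec.TwoAn

/-!
# Standard components of type `2.A_n`: the basic data

`AltStd G n z`: the involution `z` of `G` has a centralizer `M = C_G(z)` with a normal subgroup `L`, a double cover of
the alternating group of degree `n` with centre `⟨z⟩`, and `φ : M → Perm (Fin n)` is the action of `M` on `L`
modulo `z` (written as a total function on `G`); `C_G(k) ≤ C_G(z)` for every involution `k` centralizing `L`, and `z` is
the only conjugate of `z` centralizing `L`.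
-/

set_option autoImplicit false

namespace Cfsg.Agent.StandardComponent

open Equiv Cfsg.Agent.SporRec.TwoAn

/-- The data of a standard component of type `2.A_n` with central involution `z`. -/
structure AltStd (G : Type*) [Group G] (n : ℕ) (z : G) where
  /-- the component -/
  L : Subgroup G
  /-- the action of the centralizer of `z` on the component, as permutations -/
  φ : G → Perm (Fin n)
  z_sq : z * z = 1
  z_ne : z ≠ 1
  z_mem : z ∈ L
  comm : ∀ x ∈ L, x * z = z * x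
  conj_mem : ∀ y, y * z = z * y → ∀ x ∈ L, y * x * y⁻¹ ∈ L
  φ_mul : ∀ x y, x * z = z * x → y * z = z * y → φ (x * y) = φ x * φ y
  φ_even : ∀ x ∈ L, φ x ∈ alternatingGroup (Fin n)
  lift : ∀ σ ∈ alternatingGroup (Fin n), ∃ x ∈ L, φ x = σ
  φ_ker : ∀ y, y * z = z * y → (φ y = 1 ↔ ∀ x ∈ L, y * x = x * y)
  φ_L : ∀ x ∈ L, φ x = 1 → x = 1 ∨ x = z
  dbl : ∀ a b c d : Fin n, a ≠ b → a ≠ c → a ≠ d → b ≠ c → b ≠ d → c ≠ d →
    ∀ g ∈ L, φ g = swap a b * swap c d → g * g = z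
  tight : ∀ k, (∀ x ∈ L, k * x = x * k) → k * k = 1 → k ≠ 1 → ∀ y, y * k = k * y → y * z = z * y
  uniq : ∀ g, (∀ x ∈ L, g * z * g⁻¹ * x = x * (g * z * g⁻¹)) → g * z * g⁻¹ = z

namespace AltStd

variable {G : Type*} [Group G] {n : ℕ} {z : G} (S : AltStd G n z)

theorem z_inv (S : AltStd G n z) : z⁻¹ = z := inv_eq_of_mul_eq_one_left S.z_sq

theorem φ_one : S.φ 1 = 1 := by
  have := S.φ_mul 1 1 (by simp) (by simp)
  rw [mul_one] at this
  exact (mul_eq_left.mp this.symm)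

theorem φ_inv {x : G} (hx : x * z = z * x) : S.φ x⁻¹ = (S.φ x)⁻¹ := by
  have hx' : x⁻¹ * z = z * x⁻¹ := by
    rw [inv_mul_eq_iff_eq_mul, ← mul_assoc, hx, mul_inv_cancel_right]
  have := S.φ_mul x⁻¹ x hx' hx
  rw [inv_mul_cancel, S.φ_one] at this
  exact (inv_eq_of_mul_eq_one_left this.symm).symm

theorem φ_z : S.φ z = 1 := (S.φ_ker z rfl).2 fun x hx => (S.comm x hx).symm

theorem comm_inv {x : G} (hx : x * z = z * x) : x⁻¹ * z = z * x⁻¹ := by
  rw [inv_mul_eq_iff_eq_mul, ← mul_assoc, hx, mul_inv_cancel_right]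

theorem comm_mul {x y : G} (hx : x * z = z * x) (hy : y * z = z * y) : x * y * z = z * (x * y) := by
  rw [mul_assoc, hy, ← mul_assoc, hx, mul_assoc]

theorem φ_conj {x y : G} (hx : x * z = z * x) (hy : y * z = z * y) :
    S.φ (x * y * x⁻¹) = S.φ x * S.φ y * (S.φ x)⁻¹ := by
  rw [S.φ_mul _ _ (comm_mul hx hy) (comm_inv hx), S.φ_mul _ _ hx hy, S.φ_inv hx]

/-- the restriction of `φ` to the component -/
def π : S.L →* Perm (Fin n) where
  toFun x := S.φ x
  map_one' := S.φ_one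
  map_mul' x y := S.φ_mul x y (S.comm x x.2) (S.comm y y.2)

theorem π_apply (x : S.L) : S.π x = S.φ x := rfl

/-- The component as an abstract cover. -/
def cover : Cover (Fin n) S.L where
  π := S.π
  range_eq := by
    ext σ
    constructor
    · rintro ⟨x, rfl⟩
      exact S.φ_even x x.2
    · intro h
      obtain ⟨x, hx, rfl⟩ := S.lift σ h
      exact ⟨⟨x, hx⟩, rfl⟩
  z := ⟨z, S.z_mem⟩
  z_ne h := S.z_ne (congrArg Subtype.val h)
  ker x := by
    constructor
    · intro h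
      rcases S.φ_L x x.2 h with h | h
      · exact Or.inl (Subtype.ext h)
      · exact Or.inr (Subtype.ext h)
    · rintro (rfl | rfl)
      · exact S.π.map_one
      · exact S.φ_z
  dbl a b c d h1 h2 h3 h4 h5 h6 g hg := Subtype.ext (S.dbl a b c d h1 h2 h3 h4 h5 h6 g g.2 hg)

/-- Transport of the data by conjugation. -/
def conj (g : G) : AltStd G n (g * z * g⁻¹) where
  L := S.L.map (MulAut.conj g).toMonoidHom
  φ x := S.φ (g⁻¹ * x * g)
  z_sq := by
    rw [show g * z * g⁻¹ * (g * z * g⁻¹) = g * (z * z) * g⁻¹ by group, S.z_sq, mul_one, mul_inv_cancel]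
  z_ne h := S.z_ne (by simpa using h)
  z_mem := ⟨z, S.z_mem, by simp⟩
  comm := by
    rintro _ ⟨x, hx, rfl⟩
    show g * x * g⁻¹ * (g * z * g⁻¹) = g * z * g⁻¹ * (g * x * g⁻¹)
    rw [show g * x * g⁻¹ * (g * z * g⁻¹) = g * (x * z) * g⁻¹ by group, S.comm x hx]; group
  conj_mem := by
    rintro y hy _ ⟨x, hx, rfl⟩
    refine ⟨g⁻¹ * y * g * x * (g⁻¹ * y * g)⁻¹, S.conj_mem _ ?_ x hx, ?_⟩
    · rw [show g⁻¹ * y * g * z = g⁻¹ * (y * (g * z * g⁻¹)) * g by group, hy]; group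
    · show g * (g⁻¹ * y * g * x * (g⁻¹ * y * g)⁻¹) * g⁻¹ = y * (g * x * g⁻¹) * y⁻¹
      group
  φ_mul := by
    intro x y hx hy
    rw [show g⁻¹ * (x * y) * g = (g⁻¹ * x * g) * (g⁻¹ * y * g) by group]
    apply S.φ_mul
    · rw [show g⁻¹ * x * g * z = g⁻¹ * (x * (g * z * g⁻¹)) * g by group, hx]; group
    · rw [show g⁻¹ * y * g * z = g⁻¹ * (y * (g * z * g⁻¹)) * g by group, hy]; group
  φ_even := by
    rintro _ ⟨x, hx, rfl⟩
    rw [show g⁻¹ * ((MulAut.conj g).toMonoidHom x) * g = x by simp [mul_assoc]]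
    exact S.φ_even x hx
  lift := by
    intro σ hσ
    obtain ⟨x, hx, rfl⟩ := S.lift σ hσ
    exact ⟨_, ⟨x, hx, rfl⟩, by simp [mul_assoc]⟩
  φ_ker := by
    intro y hy
    rw [S.φ_ker]
    · constructor
      · rintro h _ ⟨x, hx, rfl⟩
        have := h x hx
        show y * (g * x * g⁻¹) = g * x * g⁻¹ * y
        rw [show y * (g * x * g⁻¹) = g * (g⁻¹ * y * g * x) * g⁻¹ by group, this]; group
      · intro h x hx
        have : y * (g * x * g⁻¹) = g * x * g⁻¹ * y := h _ ⟨x, hx, rfl⟩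
        rw [show g⁻¹ * y * g * x = g⁻¹ * (y * (g * x * g⁻¹)) * g by group, this]; group
    · rw [show g⁻¹ * y * g * z = g⁻¹ * (y * (g * z * g⁻¹)) * g by group, hy]; group
  φ_L := by
    rintro _ ⟨x, hx, rfl⟩ h
    rw [show g⁻¹ * ((MulAut.conj g).toMonoidHom x) * g = x by simp [mul_assoc]] at h
    rcases S.φ_L x hx h with rfl | rfl
    · left; simp
    · right; rfl
  dbl := by
    rintro a b c d h1 h2 h3 h4 h5 h6 _ ⟨x, hx, rfl⟩ h
    rw [show g⁻¹ * ((MulAut.conj g).toMonoidHom x) * g = x by simp [mul_assoc]] at h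
    have := S.dbl a b c d h1 h2 h3 h4 h5 h6 x hx h
    show g * x * g⁻¹ * (g * x * g⁻¹) = g * z * g⁻¹
    rw [← this]; group
  tight := by
    intro k hk hk2 hk1 y hy
    have h1 := S.tight (g⁻¹ * k * g) (fun x hx => by
      have : k * (g * x * g⁻¹) = g * x * g⁻¹ * k := hk _ ⟨x, hx, rfl⟩
      rw [show g⁻¹ * k * g * x = g⁻¹ * (k * (g * x * g⁻¹)) * g by group, this]; group) (by
      rw [show g⁻¹ * k * g * (g⁻¹ * k * g) = g⁻¹ * (k * k) * g by group, hk2]; group) (by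
      intro h
      apply hk1
      rw [show k = g * (g⁻¹ * k * g) * g⁻¹ by group, h]; group) (g⁻¹ * y * g) (by
      rw [show g⁻¹ * y * g * (g⁻¹ * k * g) = g⁻¹ * (y * k) * g by group, hy]; group)
    rw [show y * (g * z * g⁻¹) = g * (g⁻¹ * y * g * z) * g⁻¹ by group, h1]; group
  uniq := by
    intro h hh
    have h1 := S.uniq (g⁻¹ * h * g) (fun x hx => by
      have : h * (g * z * g⁻¹) * h⁻¹ * (g * x * g⁻¹) = g * x * g⁻¹ * (h * (g * z * g⁻¹) * h⁻¹) := hh _ ⟨x, hx, rfl⟩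
      rw [show g⁻¹ * h * g * z * (g⁻¹ * h * g)⁻¹ * x =
        g⁻¹ * (h * (g * z * g⁻¹) * h⁻¹ * (g * x * g⁻¹)) * g by group, this]; group)
    rw [show h * (g * z * g⁻¹) * h⁻¹ = g * (g⁻¹ * h * g * z * (g⁻¹ * h * g)⁻¹) * g⁻¹ by group, h1]

end AltStd

end Cfsg.Agent.StandardComponent
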