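import Mathlib

/-!
# Involutions acting on an elementary abelian group of order eight

`E` an elementary abelian subgroup of order eight on which enough transvections are induced in `G`. Then an involution
`v` normalizing but not centralizing `E` is conjugate to one inducing a transvection with centre `z` on `E`.
-/

set_option autoImplicit false

namespace Cfsg.Agent.StandardComponent.EightMove

variable {G : Type*} [Group G]

/-- An involution acting non-trivially on an elementary abelian group of order eight has a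
commutator group of order two. -/
theorem exists_centre (E : Subgroup G) (hE : ∀ x ∈ E, x * x = 1) (hc : Nat.card E = 8)
    (v : G) (hv : v * v = 1) (hvE : ∀ x ∈ E, v * x * v⁻¹ ∈ E) (hvn : ∃ x ∈ E, v * x ≠ x * v) :
    ∃ c ∈ E, c ≠ 1 ∧ v * c = c * v ∧ ∀ x ∈ E, v * x * v⁻¹ = x ∨ v * x * v⁻¹ = x * c := by
  classical
  have : Finite E := Nat.finite_of_card_ne_zero (by rw [hc]; decide)
  have hvi : v⁻¹ = v := inv_eq_of_mul_eq_one_left hv
  have hcomm : ∀ x ∈ E, ∀ y ∈ E, x * y = y * x := by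
    intro x hx y hy
    have h1 := hE _ (mul_mem hx hy)
    have hx' : x⁻¹ = x := inv_eq_of_mul_eq_one_left (hE x hx)
    have hy' : y⁻¹ = y := inv_eq_of_mul_eq_one_left (hE y hy)
    have h2 : (x * y)⁻¹ = x * y := inv_eq_of_mul_eq_one_left h1
    rw [mul_inv_rev, hx', hy'] at h2
    exact h2.symm
  let δ : E →* E :=
    { toFun := fun x => ⟨x * (v * x * v⁻¹), mul_mem x.2 (hvE x x.2)⟩
      map_one' := by apply Subtype.ext; simp
      map_mul' := by
        intro x y
        apply Subtype.ext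
        show (x : G) * y * (v * (x * y) * v⁻¹) = x * (v * x * v⁻¹) * (y * (v * y * v⁻¹))
        have h1 := hcomm (y : G) y.2 (v * x * v⁻¹) (hvE x x.2)
        calc (x : G) * y * (v * (x * y) * v⁻¹) = x * (y * (v * x * v⁻¹)) * (v * y * v⁻¹) := by group
          _ = x * ((v * x * v⁻¹) * y) * (v * y * v⁻¹) := by rw [h1]
          _ = _ := by group }
  have hδ : ∀ x : E, ((δ x : E) : G) = x * (v * x * v⁻¹) := fun x => rfl
  have hle : δ.range ≤ δ.ker := by
    rintro _ ⟨x, rfl⟩
    rw [MonoidHom.mem_ker]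
    apply Subtype.ext
    rw [hδ, hδ]
    show (x : G) * (v * x * v⁻¹) * (v * (x * (v * x * v⁻¹)) * v⁻¹) = 1
    rw [hvi]
    have h1 : v * ((x : G) * (v * x * v)) * v = (v * x * v) * (v * (v * x * v) * v) := by
      have : (v * x * v) * (v * (v * x * v) * v) = v * x * (v * v) * (v * x * v) * v := by group
      rw [this, hv, mul_one]; group
    have h2 : v * (v * (x : G) * v) * v = x := by
      have : v * (v * (x : G) * v) * v = (v * v) * x * (v * v) := by group
      rw [this, hv, one_mul, mul_one]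
    rw [h1, h2]
    have h3 := hcomm (x : G) x.2 (v * x * v) (by simpa [hvi] using hvE x x.2)
    calc (x : G) * (v * x * v) * (v * x * v * x) = (x * (v * x * v)) * ((v * x * v) * x) := by group
      _ = ((v * x * v) * x) * ((v * x * v) * x) := by rw [h3]
      _ = 1 := hE _ (mul_mem (by simpa [hvi] using hvE x x.2) x.2)
  have hcard : Nat.card δ.ker * Nat.card δ.range = 8 := by
    rw [← hc, ← Subgroup.index_ker, Subgroup.card_mul_index]
  have hr : Nat.card δ.range ≤ Nat.card δ.ker := Nat.le_of_dvd Nat.card_pos (Subgroup.card_dvd_of_le hle)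
  have hrne : Nat.card δ.range ≠ 1 := by
    intro h1
    have h2 : δ.range = ⊥ := Subgroup.card_eq_one.1 h1
    obtain ⟨x, hx, hxn⟩ := hvn
    apply hxn
    have h3 : δ ⟨x, hx⟩ = 1 := by
      have : δ ⟨x, hx⟩ ∈ δ.range := ⟨_, rfl⟩
      rw [h2] at this
      exact Subgroup.mem_bot.1 this
    have h4 : x * (v * x * v⁻¹) = 1 := congrArg Subtype.val h3
    have hx' : x⁻¹ = x := inv_eq_of_mul_eq_one_left (hE x hx)
    have h5 : v * x * v⁻¹ = x := by
      rw [← hx']
      rw [hx']
      have := eq_inv_of_mul_eq_one_right h4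
      rw [this, hx']
    rw [mul_inv_eq_iff_eq_mul] at h5
    exact h5
  have hr2 : Nat.card δ.range = 2 := by
    have h8 : Nat.card δ.range ∣ 8 := ⟨_, by rw [mul_comm]; exact hcard.symm⟩
    have h9 : Nat.card δ.range ≤ 8 := Nat.le_of_dvd (by norm_num) h8
    interval_cases h : Nat.card δ.range
    · simp at h8
    · exact absurd rfl hrne
    · rfl
    · omega
    · omega
    · omega
    · omega
    · omega
    · omega
  obtain ⟨c', hc', hcu⟩ := (Nat.card_eq_two_iff' (1 : δ.range)).1 hr2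
  have hcE : ((c' : E) : G) ∈ E := (c' : E).2
  have hcne : ((c' : E) : G) ≠ 1 := by
    intro h
    apply hc'
    apply Subtype.ext
    apply Subtype.ext
    exact h
  have hcc : v * ((c' : E) : G) = (c' : E) * v := by
    have h1 := hle c'.2
    rw [MonoidHom.mem_ker] at h1
    have h2 : ((c' : E) : G) * (v * (c' : E) * v⁻¹) = 1 := congrArg Subtype.val h1
    have h3 := eq_inv_of_mul_eq_one_right h2
    have h4 : (((c' : E) : G))⁻¹ = (c' : E) := inv_eq_of_mul_eq_one_left (hE _ hcE)
    rw [h4, mul_inv_eq_iff_eq_mul] at h3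
    exact h3
  refine ⟨((c' : E) : G), hcE, hcne, hcc, ?_⟩
  intro x hx
  have hx' : x * x = 1 := hE x hx
  by_cases h1 : δ ⟨x, hx⟩ = 1
  · left
    have h2 : x * (v * x * v⁻¹) = 1 := congrArg Subtype.val h1
    have h3 := eq_inv_of_mul_eq_one_right h2
    rw [h3]
    exact inv_eq_of_mul_eq_one_left hx'
  · right
    have h2 : (⟨δ ⟨x, hx⟩, ⟨_, rfl⟩⟩ : δ.range) = c' := by
      apply hcu
      intro h
      exact h1 (congrArg Subtype.val h)
    have h3 : x * (v * x * v⁻¹) = ((c' : E) : G) :=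
      congrArg (fun y : δ.range => ((y : E) : G)) h2
    rw [← h3, ← mul_assoc, hx', one_mul]

/-- An involution normalizing but not centralizing `E` is conjugate to one inducing a
transvection with centre `z` on `E`. -/
theorem exists_conj (E : Subgroup G) (hE : ∀ x ∈ E, x * x = 1) (hc : Nat.card E = 8) {z : G}
    (hz : z ∈ E) (hz1 : z ≠ 1)
    (hmove : ∀ u ∈ E, u ≠ 1 → ∀ c ∈ E, c ≠ 1 → c ≠ u →
      ∃ n, (∀ x, x ∈ E ↔ n * x * n⁻¹ ∈ E) ∧ n * c * n⁻¹ = c * u)
    (v : G) (hv : v * v = 1) (hvE : ∀ x ∈ E, v * x * v⁻¹ ∈ E) (hvn : ∃ x ∈ E, v * x ≠ x * v) :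
    ∃ n, (∀ x, x ∈ E ↔ n * x * n⁻¹ ∈ E) ∧ (n * v * n⁻¹) * z = z * (n * v * n⁻¹) ∧
      ∀ x ∈ E, (n * v * n⁻¹) * x * (n * v * n⁻¹)⁻¹ = x ∨
        (n * v * n⁻¹) * x * (n * v * n⁻¹)⁻¹ = x * z := by
  obtain ⟨c, hcE, hc1, hvc, hact⟩ := exists_centre E hE hc v hv hvE hvn
  -- an element moving c to z
  obtain ⟨n, hn, hnc⟩ : ∃ n, (∀ x, x ∈ E ↔ n * x * n⁻¹ ∈ E) ∧ n * c * n⁻¹ = z := by
    by_cases hcz : c = z
    · exact ⟨1, fun x => by simp, by simpa using hcz⟩
    · have hne : c * z ≠ 1 := by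
        intro h
        apply hcz
        have h1 : z⁻¹ = z := inv_eq_of_mul_eq_one_left (hE z hz)
        rw [← h1]
        exact eq_inv_of_mul_eq_one_left h
      have hne' : c ≠ c * z := by
        intro h
        exact hz1 (mul_eq_left.1 h.symm)
      obtain ⟨n, hn, hnc⟩ := hmove (c * z) (mul_mem hcE hz) hne c hcE hc1 hne'
      refine ⟨n, hn, ?_⟩
      rw [hnc, ← mul_assoc, hE c hcE, one_mul]
  refine ⟨n, hn, ?_, ?_⟩
  · rw [← hnc]
    calc n * v * n⁻¹ * (n * c * n⁻¹) = n * (v * c) * n⁻¹ := by group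
      _ = n * (c * v) * n⁻¹ := by rw [hvc]
      _ = _ := by group
  · intro x hx
    have hx' : n⁻¹ * x * n ∈ E := by
      rw [hn]
      have : n * (n⁻¹ * x * n) * n⁻¹ = x := by group
      rwa [this]
    have e1 : n * v * n⁻¹ * x * (n * v * n⁻¹)⁻¹ = n * (v * (n⁻¹ * x * n) * v⁻¹) * n⁻¹ := by group
    rcases hact _ hx' with h | h
    · left
      rw [e1, h]; group
    · right
      rw [e1, h, ← hnc]; group

end Cfsg.Agent.StandardComponent.EightMove
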