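import Cfsg.Agent.StandardComponent.FiRedPair

/-!
# Good pairs and automorphisms

`LocAut Y`: for `J ≤ Y` and `D ≤ Aut Y` with `Inn J ≤ D`, `x β(x)⁻¹ ∈ J` for the fixed points `x` of the involutions of
`D` and all `β ∈ D`, and `4 ∣ |D|`, the subgroup `J` is all of `Y`. Then there are no good pairs.
-/

set_option autoImplicit false

namespace Cfsg.Agent.StandardComponent.FiRedAutPair

open Subgroup Cfsg.Agent.StdAlt.Conj Cfsg.Agent.StdAlt.Pairs

/-- the hypothesis on `J ≤ Y` and `D ≤ Aut Y` -/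
structure HypAut {Y : Type*} [Group Y] (J : Subgroup Y) (D : Subgroup (MulAut Y)) : Prop where
  inn : ∀ j ∈ J, MulAut.conj j ∈ D
  com : ∀ a ∈ D, a ≠ 1 → a * a = 1 → ∀ x : Y, a x = x → ∀ β ∈ D, x * (β x)⁻¹ ∈ J

/-- the local lemma -/
def LocAut (Y : Type*) [Group Y] : Prop :=
  ∀ (J : Subgroup Y) (D : Subgroup (MulAut Y)), HypAut J D → 4 ∣ Nat.card D → J = ⊤

variable {G : Type*} [Group G] {A B : Subgroup G}

theorem odd_order [Finite G] (hA : TE A) (hcj : Cj A B) (hne : A ≠ B) {g : G} (h1 : g ∈ C A)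
    (h2 : g ∈ C B) : Odd (orderOf g) := by
  rw [← Nat.not_even_iff_odd]
  intro hev
  obtain ⟨m, hm⟩ := hev.two_dvd
  have hpos : 0 < orderOf g := orderOf_pos _
  have hm0 : m ≠ 0 := by
    rintro rfl
    omega
  have h3 : orderOf (g ^ m) = 2 := by
    rw [orderOf_pow' _ hm0, hm, Nat.gcd_eq_right (Dvd.intro_left 2 rfl),
      Nat.mul_div_cancel _ (Nat.pos_of_ne_zero hm0)]
  refine hne (hA.eq_of_mem hcj (k := g ^ m) ?_ ?_ (pow_mem h1 m) (pow_mem h2 m))
  · intro e
    rw [e, orderOf_one] at h3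
    exact absurd h3 (by norm_num)
  · rw [← sq, ← h3]; exact pow_orderOf_eq_one _

/-- the action of `C A ⊓ N B` on `B` -/
def act (A B : Subgroup G) : ↥(C A ⊓ N B) →* MulAut B :=
  B.normalizerMonoidHom.comp (Subgroup.inclusion inf_le_right)

theorem act_apply (g : ↥(C A ⊓ N B)) (x : B) : ((act A B g x : B) : G) = g * x * (g : G)⁻¹ := rfl

theorem act_eq_one (g : ↥(C A ⊓ N B)) (h : act A B g = 1) : (g : G) ∈ C B := by
  rw [mem_C]
  intro x hx
  have h1 := act_apply g ⟨x, hx⟩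
  rw [h] at h1
  have h2 : x = g * x * (g : G)⁻¹ := h1
  exact (eq_mul_inv_iff_mul_eq.1 h2).symm

theorem side_aut [Finite G] (hA : TE A) (hcj : Cj A B) (hne : A ≠ B) (hloc : LocAut B)
    (h4 : 4 ∣ Nat.card ↥(C A ⊓ N B)) : B ≤ C A := by
  have hH : HypAut ((C A).subgroupOf B) (act A B).range := by
    refine ⟨?_, ?_⟩
    · intro j hj
      rw [mem_subgroupOf] at hj
      exact ⟨⟨j, hj, le_N j.2⟩, by ext x; rfl⟩
    · rintro _ ⟨g, rfl⟩ ha1 haa x hx _ ⟨k, rfl⟩
      rw [mem_subgroupOf]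
      -- an involution inducing the same automorphism
      have hgg : ((g * g : ↥(C A ⊓ N B)) : G) ∈ C B :=
        act_eq_one (g * g) (by rw [map_mul]; exact haa)
      obtain ⟨m, hm⟩ := odd_order hA hcj hne (g * g).2.1 hgg
      rw [Subgroup.orderOf_coe] at hm
      have hact : act A B (g ^ (2 * m + 1)) = act A B g := by
        rw [map_pow, pow_succ, pow_mul, sq, haa, one_pow, one_mul]
      have hg1 : g ^ (2 * m + 1) ≠ 1 := by
        intro e
        apply ha1
        rw [← hact, e, map_one]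
      have hg2 : g ^ (2 * m + 1) * g ^ (2 * m + 1) = 1 := by
        rw [← sq, ← pow_mul, mul_comm, pow_mul, sq, ← hm]
        exact pow_orderOf_eq_one _
      have hxg : (x : G) * (g ^ (2 * m + 1) : ↥(C A ⊓ N B)) = (g ^ (2 * m + 1) : ↥(C A ⊓ N B)) * (x : G) := by
        have h1 := act_apply (g ^ (2 * m + 1)) x
        rw [hact, hx] at h1
        exact eq_mul_inv_iff_mul_eq.1 h1
      have hxN : (x : G) ∈ N A := hA.nrm (g ^ (2 * m + 1)).2.1 (fun e => hg1 (Subtype.ext e))
        (congrArg Subtype.val hg2) hxg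
      have h4 := mul_mem (conj_mem_C hxN k.2.1) (inv_mem k.2.1)
      have h5 : ((x * (act A B k x)⁻¹ : B) : G) = x * k * (x : G)⁻¹ * (k : G)⁻¹ := by
        rw [coe_mul, coe_inv, act_apply]; group
      rw [h5]
      exact h4
  have hker : Odd (Nat.card (act A B).ker) := by
    rw [← Nat.not_even_iff_odd]
    intro hev
    obtain ⟨x, hx⟩ := exists_prime_orderOf_dvd_card' (G := (act A B).ker) 2 hev.two_dvd
    have ho : orderOf (((x : ↥(C A ⊓ N B)) : G)) = 2 := by
      rw [Subgroup.orderOf_coe, Subgroup.orderOf_coe]; exact hx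
    have h1 := odd_order hA hcj hne (x : ↥(C A ⊓ N B)).2.1 (act_eq_one _ x.2)
    rw [ho] at h1
    exact absurd h1 (by decide)
  have h4' : 4 ∣ Nat.card (act A B).range := by
    have hcard := (act A B).ker.card_mul_index
    rw [Subgroup.index_ker] at hcard
    rw [← hcard] at h4
    have hcop : Nat.Coprime 4 (Nat.card (act A B).ker) := by
      rw [show (4 : ℕ) = 2 ^ 2 by norm_num]
      exact Nat.Coprime.pow_left 2 (Nat.coprime_two_left.2 hker)
    exact hcop.dvd_of_dvd_mul_left h4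
  exact subgroupOf_eq_top.1 (hloc _ _ hH h4')

/-- **no good pair** -/
theorem not_good [Finite G] (hA : TE A) (hnc : ∀ B, Cj A B → A ≠ B → ¬ B ≤ C A)
    (hloc : ∀ B, Cj A B → LocAut B) : ¬ Good A := by
  rintro ⟨B, hcj, hne, h4⟩
  exact hnc B hcj hne (side_aut hA hcj hne (hloc B hcj) h4)

end Cfsg.Agent.StandardComponent.FiRedAutPair
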