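import Cfsg.Agent.StandardComponent.FiRedLocalB

/-!
# The local lemma for `Ω₈⁺(2)`, main statement
-/

set_option autoImplicit false

namespace Cfsg.Agent.StandardComponent.FiRedLocalC

open QuadraticMap Cfsg.Agent.StdO8.Model Cfsg.Agent.StandardComponent.FiRedVec
  Cfsg.Agent.StandardComponent.FiRedLocal Cfsg.Agent.StandardComponent.FiRedRank
  Cfsg.Agent.StandardComponent.FiRedLocalB Cfsg.Agent.LieClassical.OrthCore

/-- an element next to a given involution -/
theorem exists_beta {G : Type*} [Group G] [Finite G] (D : Subgroup G) (h4 : 4 ∣ Nat.card D) {c : G}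
    (hc : c ∈ D) (hc1 : c ≠ 1) (hcc : c * c = 1) :
    ∃ β ∈ D, β ≠ 1 ∧ β ≠ c ∧ β * c = c * β ∧ (β * β = 1 ∨ β * β = c) := by
  have h4' := StdAlt.Pairs.four_dvd_centralizer D h4 hc hcc
  have hck : c ∈ D ⊓ Subgroup.centralizer {c} := ⟨hc, StdAlt.Pairs.mem_cent.2 rfl⟩
  have hcp : IsPGroup 2 (Subgroup.zpowers c) := by
    apply IsPGroup.of_card (n := 1)
    rw [Nat.card_zpowers, pow_one]
    exact orderOf_eq_prime (by rw [pow_two]; exact hcc) hc1
  obtain ⟨P, hP, hcP, hPK, hdvd⟩ := StdAlt.Pairs.exists_two_subgroup _ (Subgroup.zpowers c) hcp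
    (by rw [Subgroup.zpowers_le]; exact hck)
  have h4P : 4 ∣ Nat.card P := hdvd 2 (by norm_num; exact h4')
  have hcP : c ∈ P := hcP (Subgroup.mem_zpowers c)
  obtain ⟨x, hxP, hx⟩ : ∃ x ∈ P, ¬ (x = 1 ∨ x = c) := by
    by_contra hcon
    push Not at hcon
    have h1 : (P : Set G) ⊆ {1, c} := fun x hx => by
      simp only [Set.mem_insert_iff, Set.mem_singleton_iff]
      exact hcon x hx
    have h2 : Nat.card P ≤ 2 := by
      rw [← SetLike.coe_sort_coe, Nat.card_coe_set_eq]
      exact (Set.ncard_le_ncard h1).trans ((Set.ncard_insert_le _ _).trans (by simp))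
    have h3 := Nat.le_of_dvd Nat.card_pos h4P
    omega
  have hex : ∃ n, (x ^ 2 ^ n = 1 ∨ x ^ 2 ^ n = c) := by
    obtain ⟨n, hn⟩ := hP ⟨x, hxP⟩
    exact ⟨n, Or.inl (congrArg Subtype.val hn)⟩
  classical
  have hspec := Nat.find_spec hex
  set n := Nat.find hex with hn
  have hn0 : n ≠ 0 := by
    intro e
    rw [e, pow_zero, pow_one] at hspec
    exact hx hspec
  obtain ⟨k, hk⟩ := Nat.exists_eq_succ_of_ne_zero hn0
  have hnot : ¬ (x ^ 2 ^ k = 1 ∨ x ^ 2 ^ k = c) := Nat.find_min hex (by omega)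
  push Not at hnot
  have hmem : x ^ 2 ^ k ∈ D ⊓ Subgroup.centralizer {c} := hPK (P.pow_mem hxP _)
  refine ⟨x ^ 2 ^ k, hmem.1, hnot.1, hnot.2, StdAlt.Pairs.mem_cent.1 hmem.2, ?_⟩
  rw [← pow_add, ← two_mul, ← pow_succ']
  rw [hk] at hspec
  exact hspec

/-- parity -/
theorem even_card {X : Finset V} {f : V → V} (hm : ∀ x ∈ X, f x ∈ X) (hi : ∀ x ∈ X, f (f x) = x)
    (hn : ∀ x ∈ X, f x ≠ x) : Even X.card := by
  have h1 : ∑ x ∈ X, (1 : ZMod 2) = 0 := by
    refine Finset.sum_involution (fun x _ => f x) ?_ ?_ ?_ ?_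
    · intro x _; exact aa 1
    · intro x hx _; exact hn x hx
    · intro x hx; exact hm x hx
    · intro x hx; exact hi x hx
  rw [Finset.sum_const, nsmul_eq_mul, mul_one, ZMod.natCast_eq_zero_iff] at h1
  exact even_iff_two_dvd.2 h1

noncomputable instance : DecidablePred fun v : V => q v = 0 ∧ v ≠ 0 := Classical.decPred _

theorem cnt : (Finset.univ.filter
    (fun v : V => (∑ i : Fin 4, v (.inl i) * v (.inr i)) = 0 ∧ v ≠ 0)).card = 135 := by
  decide +kernel

/-- a singular vector fixed by two commuting elements -/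
theorem exists_fixed {a b : V ≃ₗ[ZMod 2] V} (ha : a ∈ O8) (hb : b ∈ O8) (ha2 : a * a = 1)
    (hab : b * a = a * b) (hb2 : b * b = 1 ∨ b * b = a) :
    ∃ u, q u = 0 ∧ u ≠ 0 ∧ a u = u ∧ b u = u := by
  classical
  have haa : ∀ z, a (a z) = z := fun z => congrArg (fun k : V ≃ₗ[ZMod 2] V => k z) ha2
  have hba : ∀ z, b (a z) = a (b z) := fun z => congrArg (fun k : V ≃ₗ[ZMod 2] V => k z) hab
  set X := Finset.univ.filter
    (fun v : V => (∑ i : Fin 4, v (.inl i) * v (.inr i)) = 0 ∧ v ≠ 0) with hX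
  have hXm : ∀ v, v ∈ X ↔ q v = 0 ∧ v ≠ 0 := by
    intro v
    rw [hX, Finset.mem_filter, q_apply]
    simp
  have hcard : X.card = 135 := by rw [hX]; exact cnt
  by_contra hcon
  push Not at hcon
  have hmap : ∀ g : V ≃ₗ[ZMod 2] V, g ∈ O8 → ∀ v ∈ X, g v ∈ X := by
    intro g hg v hv
    rw [hXm] at hv ⊢
    exact ⟨by rw [O8_q hg]; exact hv.1, fun e => hv.2 (g.map_eq_zero_iff.1 e)⟩
  have e1 : Even (X.filter fun v => a v ≠ v).card := by
    refine even_card (f := a) ?_ (fun x _ => haa x) (fun x hx => (Finset.mem_filter.1 hx).2)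
    intro x hx
    rw [Finset.mem_filter] at hx ⊢
    exact ⟨hmap a ha x hx.1, fun e => hx.2 (a.injective e)⟩
  have e2 : Even (X.filter fun v => a v = v).card := by
    refine even_card (f := b) ?_ ?_ ?_
    · intro x hx
      rw [Finset.mem_filter] at hx ⊢
      exact ⟨hmap b hb x hx.1, by rw [← hba, hx.2]⟩
    · intro x hx
      rw [Finset.mem_filter] at hx
      rcases hb2 with h | h
      · exact congrArg (fun k : V ≃ₗ[ZMod 2] V => k x) h
      · have : b (b x) = a x := congrArg (fun k : V ≃ₗ[ZMod 2] V => k x) h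
        rw [this, hx.2]
    · intro x hx
      rw [Finset.mem_filter] at hx
      exact hcon x ((hXm x).1 hx.1).1 ((hXm x).1 hx.1).2 hx.2
  have e3 := Finset.card_filter_add_card_filter_not (s := X) (fun v => a v = v)
  rw [hcard] at e3
  have e4 := e2.add e1
  rw [e3] at e4
  exact absurd e4 (by decide)

/-- an isometry commuting with `X u m` moves `u` inside `⟨u, m⟩` -/
theorem image_mem {g : V ≃ₗ[ZMod 2] V} (hg : g ∈ O8) {u m : V} (hu : q u = 0) (hu0 : u ≠ 0)
    (hm : B u m = 0) (hm0 : m ≠ 0) (hmu : m ≠ u) (hc : g * X u m = X u m * g) :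
    g u = u ∨ g u = m ∨ g u = u + m := by
  have e : X (g u) (g m) = X u m := by rw [← X_conj hg, hc]; group
  have hgu : g u ≠ 0 := fun h => hu0 (g.map_eq_zero_iff.1 h)
  have hgm : g m ≠ 0 := fun h => hm0 (g.map_eq_zero_iff.1 h)
  obtain ⟨v, h1, h2⟩ := exists_B hgu hgm (fun h => hmu (g.injective h).symm) 0 1
  have hgq : q (g u) = 0 := by rw [O8_q hg]; exact hu
  have hgB : B (g u) (g m) = 0 := by rw [O8_B hg]; exact hm
  have h3 : X (g u) (g m) v = v + g u := by rw [X_one_left0 hgq hgB h1, h2, one_smul]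
  rw [e] at h3
  rcases z2 (B u v) with h4 | h4
  · rw [X_one_left0 hu hm h4] at h3
    have h5 := add_left_cancel h3
    rcases z2 (B m v) with h6 | h6
    · rw [h6, zero_smul] at h5
      exact absurd h5.symm hgu
    · rw [h6, one_smul] at h5
      exact Or.inl h5.symm
  · rw [X_one_left hu hm h4, add_assoc] at h3
    have h5 := add_left_cancel h3
    rcases z2 (B m v + q m) with h6 | h6
    · rw [h6, zero_smul, add_zero] at h5
      exact Or.inr (Or.inl h5.symm)
    · rw [h6, one_smul, add_comm] at h5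
      exact Or.inr (Or.inr h5.symm)

section

variable {J D : Subgroup (V ≃ₗ[ZMod 2] V)}

theorem of_mem (h : H8 J D) (h4 : 4 ∣ Nat.card D) {u m : V} (hu : q u = 0) (hu0 : u ≠ 0)
    (hm : B u m = 0) (hm0 : m ≠ 0) (hmu : m ≠ u) (ha : X u m ∈ D) : J = Om := by
  have : Finite (V ≃ₗ[ZMod 2] V) := Finite.of_injective (fun g => (g : V → V)) DFunLike.coe_injective
  have hc1 := X_ne_one hu hu0 hm hm0 hmu
  obtain ⟨β, hβ, hβ1, hβc, hcomm, hβ2⟩ := exists_beta D h4 ha hc1 (X_mul_self u m)
  have hβO := h.DO hβ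
  have hXu : X u m u = u := X_fix hu hm (B_self u) (by rw [B_comm]; exact hm)
  have hββ : β (β u) = u := by
    rcases hβ2 with e | e
    · exact congrArg (fun k : V ≃ₗ[ZMod 2] V => k u) e
    · have : β (β u) = X u m u := congrArg (fun k : V ≃ₗ[ZMod 2] V => k u) e
      rw [this, hXu]
  rcases image_mem hβO hu hu0 hm hm0 hmu hcomm with e | e | e
  · exact eq_of_all h hu hu0 (all_of_Q h hu hu0 hm hm0 hmu ha hβ e hβ1 hβc)
  · -- `β u = m`
    have hqm : q m = 0 := by rw [← e, O8_q hβO]; exact hu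
    have hβm : β m = u := by rw [← e]; exact hββ
    have hq' : q (u + m) = 0 := by rw [q_add, hu, hqm, hm]; decide
    have h0' : u + m ≠ 0 := fun e => hmu (eq_of_add_eq_zero e).symm
    have hX : X (u + m) m = X u m := by
      rw [X_comm hq' hqm, X_add_right hqm, X_comm hqm hu]
    have hne : m ≠ u + m := fun e => hu0 (right_eq_add.1 e)
    refine eq_of_all h hq' h0' (all_of_Q h hq' h0' (m := m) (by rw [B_add_left, hm, B_self, add_zero])
      hm0 hne (by rw [hX]; exact ha) hβ (by rw [map_add, e, hβm, add_comm]) hβ1 (by rw [hX]; exact hβc))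
  · -- `β u = u + m`
    have hq' : q (u + m) = 0 := by rw [← e, O8_q hβO]; exact hu
    have hqm : q m = 0 := by rwa [q_add, hu, hm, zero_add, add_zero] at hq'
    have hβm : β m = m := by
      rw [e, map_add, e] at hββ
      have h5 : u + (m + β m) = u := by rw [← add_assoc]; exact hββ
      exact (eq_of_add_eq_zero (add_eq_left.1 h5)).symm
    have hX : X m u = X u m := X_comm hqm hu
    exact eq_of_all h hqm hm0 (all_of_Q h hqm hm0 (by rw [B_comm]; exact hm) hu0 hmu.symm
      (by rw [hX]; exact ha) hβ hβm hβ1 (by rw [hX]; exact hβc))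

/-- **the local lemma** -/
theorem main (h : H8 J D) (h4 : 4 ∣ Nat.card D) : J = Om := by
  have : Finite (V ≃ₗ[ZMod 2] V) := Finite.of_injective (fun g => (g : V → V)) DFunLike.coe_injective
  by_contra hne
  obtain ⟨a', ha'⟩ := exists_prime_orderOf_dvd_card' (G := D) 2 (Dvd.dvd.trans (by norm_num) h4)
  obtain ⟨a, haD⟩ := a'
  rw [Subgroup.orderOf_mk] at ha'
  have haa : a * a = 1 := by
    have := pow_orderOf_eq_one a
    rwa [ha', pow_two] at this
  have ha1 : a ≠ 1 := by
    intro e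
    rw [e, orderOf_one] at ha'
    exact absurd ha' (by norm_num)
  obtain ⟨b, hbD, hb1, hba, hab, hb2⟩ := exists_beta D h4 haD ha1 haa
  have haO := h.DO haD
  have hbO := h.DO hbD
  obtain ⟨u, hu, hu0, hau, hbu⟩ := exists_fixed haO hbO haa hab hb2
  have triv : ∀ g ∈ D, g u = u → (∀ y, B u y = 0 → Fx u g y) → g = 1 := by
    intro g hg hgu hgt
    obtain ⟨s, hs, rfl⟩ := exists_eq_X hu hu0 (h.DO hg) hgu hgt
    by_cases h0 : s = 0
    · rw [h0]; exact X_zero_right u
    by_cases h1 : s = u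
    · rw [h1]; exact X_self hu
    exact absurd (of_mem h h4 hu hu0 hs h0 h1 hg) hne
  have abs : ∀ g ∈ D, g ≠ 1 → g * g = 1 → g u = u → ∀ β ∈ D, β u = u → ∀ y, B u y = 0 →
      Fx u g y → Fx u β y := by
    intro g hg hg1 hg2 hgu β hβ hβu y hy hgy
    by_contra hF
    have h1 := absorb h hg hg1 hg2 hu hgu hy hgy hβ hβu
    have h2 : B u (y + β y) = 0 := by
      have := O8_B (h.DO hβ) u y
      rw [hβu] at this
      rw [B_add_right, this, hy, add_zero]
    refine hne (of_mem h h4 hu hu0 h2 (fun e => hF (Or.inl (eq_of_add_eq_zero e).symm)) (fun e => ?_)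
      (h.JD h1))
    exact hF (Or.inr (by rw [← e, add_self_add]))
  have haz : ∀ z, a (a z) = z := fun z => congrArg (fun k : V ≃ₗ[ZMod 2] V => k z) haa
  have hbaz : ∀ z, b (a z) = a (b z) := fun z => congrArg (fun k : V ≃ₗ[ZMod 2] V => k z) hab
  apply ha1
  apply triv a haD hau
  rcases hb2 with hb2 | hb2
  · refine trivial_of_same hu hu0 haO hbO haa hb2 hab.symm hau ?_ ?_ ?_
    · exact abs a haD ha1 haa hau b hbD hbu
    · exact abs b hbD hb1 hb2 hbu a haD hau
    · refine abs (a * b) (D.mul_mem haD hbD) ?_ ?_ ?_ a haD hau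
      · intro e
        apply hba
        have : b = a⁻¹ := (inv_eq_of_mul_eq_one_right e).symm
        rw [this]
        exact inv_eq_of_mul_eq_one_left haa
      · rw [show a * b * (a * b) = a * (b * a) * b by group, hab,
          show a * (a * b) * b = (a * a) * (b * b) by group, haa, hb2, one_mul]
      · show a (b u) = u
        rw [hbu, hau]
  · intro y hy
    have hbbz : ∀ z, b (b z) = a z := fun z => congrArg (fun k : V ≃ₗ[ZMod 2] V => k z) hb2
    have hB : ∀ g : V ≃ₗ[ZMod 2] V, g ∈ O8 → g u = u → B u (g y) = 0 := by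
      intro g hg hgu
      have := O8_B hg u y
      rw [hgu] at this
      rw [this, hy]
    have hy3 : B u (a y + y) = 0 := by rw [B_add_right, hB a haO hau, hy, add_zero]
    have k1 := abs a haD ha1 haa hau b hbD hbu (a y + y) hy3
      (Or.inl (by rw [map_add, haz, add_comm]))
    have k2 : Fx u a (b y + y) := by
      rw [Fx_iff] at k1 ⊢
      have : a (b y + y) + (b y + y) = b (a y + y) + (a y + y) := by
        rw [map_add, map_add, hbaz]; abel
      rw [this]
      exact k1
    have k3 := abs a haD ha1 haa hau b hbD hbu (b y + y)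
      (by rw [B_add_right, hB b hbO hbu, hy, add_zero]) k2
    rw [Fx_iff] at k3 ⊢
    have : b (b y + y) + (b y + y) = a y + y := by
      rw [map_add, hbbz]
      have : a y + b y + (b y + y) = a y + y + (b y + b y) := by abel
      rw [this, add_self, add_zero]
    rwa [this] at k3

end

end Cfsg.Agent.StandardComponent.FiRedLocalC
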