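import Cfsg.Agent.StandardComponent.FiRedAutPair
import Cfsg.Agent.StandardComponent.FiRedGen
import Cfsg.Agent.StandardComponent.FiRedLocalC
import Cfsg.Agent.StdO8.Frame

/-!
# Standard subgroups isomorphic to `Ω₈⁺(2)`: the reduction

`exists_involution`: an involution `t` with `C(L) ∩ C(t) = {1, t}`; `exists_ctx`: the context of `StdO8.Frame`.
-/

set_option autoImplicit false

namespace Cfsg.Agent.StandardComponent.FiRedEight

open Subgroup Cfsg.Agent.StdAlt.Conj Cfsg.Agent.StdAlt.Pairs Cfsg.Agent.StdAlt.First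
open Cfsg.Agent.StandardComponent.FiRedAutPair Cfsg.Agent.StdO8.Model Cfsg.Agent.StdO8.Aut
  Cfsg.Agent.StandardComponent.FiRedLocal Cfsg.Agent.StandardComponent.FiRedLocalB
  Cfsg.Agent.StandardComponent.FiRedLocalC Cfsg.Agent.StandardComponent.FiRedRank

instance : Finite (V ≃ₗ[ZMod 2] V) := Finite.of_injective (fun g => (g : V → V)) DFunLike.coe_injective

instance : Finite (MulAut Om) := Finite.of_injective (fun g => (g : Om → Om)) DFunLike.coe_injective

/-- a 2-group in a group with a subgroup of index three -/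
theorem exists_fix_gen {X : Type*} [Group X] {R P : Subgroup X} (hR : R.index = 3)
    (hP : IsPGroup 2 P) : ∃ β : X, ∀ p ∈ P, β⁻¹ * p * β ∈ R := by
  have hcard : Nat.card (X ⧸ R) = 3 := by
    rw [← Subgroup.index_eq_card]
    exact hR
  obtain ⟨x, hx⟩ := hP.nonempty_fixed_point_of_prime_not_dvd_card (X ⧸ R)
    (by rw [hcard]; norm_num)
  obtain ⟨β, rfl⟩ := QuotientGroup.mk_surjective x
  refine ⟨β, fun p hp => ?_⟩
  have h3 : (⟨p, hp⟩ : P) • (QuotientGroup.mk β : X ⧸ R) = QuotientGroup.mk β :=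
    hx ⟨p, hp⟩
  have h4 : (QuotientGroup.mk (p * β) : X ⧸ R) = QuotientGroup.mk β := h3
  have h5 := QuotientGroup.eq.1 h4.symm
  rwa [mul_assoc]

/-- a 2-group of automorphisms is conjugate into the isometries -/
theorem exists_fix {P : Subgroup (MulAut Om)} (hP : IsPGroup 2 P) :
    ∃ β : MulAut Om, ∀ p ∈ P, β⁻¹ * p * β ∈ (StdO8.Aut.cj).range := by
  have h := index_range
  exact exists_fix_gen h hP

section Psi

variable {Y : Type*} [Group Y]

/-- the isometries acting on `Y ≃* Om` -/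
def psi (f : Y ≃* Om) : O8 →* MulAut Y := (MulAut.congr f).symm.toMonoidHom.comp cj

theorem psi_apply (f : Y ≃* Om) (M : O8) (y : Y) : psi f M y = f.symm (cj M (f y)) := rfl

theorem f_psi (f : Y ≃* Om) (M : O8) (y : Y) : f (psi f M y) = cj M (f y) := by
  rw [psi_apply, f.apply_symm_apply]

theorem psi_injective (f : Y ≃* Om) : Function.Injective (psi f) :=
  (MulAut.congr f).symm.injective.comp Cfsg.Agent.StdO8.Frame.Ctx.cj_injective

theorem exists_trans (e : Y ≃* Om) {P : Subgroup (MulAut Y)} (hP : IsPGroup 2 P) :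
    ∃ f : Y ≃* Om, P ≤ (psi f).range := by
  obtain ⟨β, hβ⟩ := exists_fix (P := P.map (MulAut.congr e).toMonoidHom) (hP.map _)
  refine ⟨e.trans β.symm, fun p hp => ?_⟩
  obtain ⟨M, hM⟩ := hβ _ ⟨p, hp, rfl⟩
  refine ⟨M, ?_⟩
  ext y
  rw [psi_apply, hM]
  show e.symm (β (β.symm (e (p (e.symm (β (β.symm (e y)))))))) = p y
  rw [β.apply_symm_apply, β.apply_symm_apply, e.symm_apply_apply, e.symm_apply_apply]

theorem locAut [Finite Y] (e : Y ≃* Om) : LocAut Y := by
  intro J D hH h4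
  have : Finite (MulAut Y) := Finite.of_injective (fun g => (g : Y → Y)) DFunLike.coe_injective
  let P : Sylow 2 D := default
  set P' : Subgroup (MulAut Y) := (P : Subgroup D).map D.subtype with hP'
  have hP'D : P' ≤ D := Subgroup.map_subtype_le _
  have h4P : 4 ∣ Nat.card P' := by
    rw [hP', Subgroup.card_map_of_injective D.subtype_injective]
    have h1 : (4 : ℕ) = 2 ^ 2 := by norm_num
    rw [h1] at h4 ⊢
    exact P.pow_dvd_card_of_pow_dvd_card h4
  obtain ⟨f, hf⟩ := exists_trans e (P := P') (P.isPGroup'.map _)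
  set D8 : Subgroup (V ≃ₗ[ZMod 2] V) := (D.comap (psi f)).map O8.subtype with hD8
  set J8 : Subgroup (V ≃ₗ[ZMod 2] V) := (J.map f.toMonoidHom).map Om.subtype with hJ8
  have h8 : H8 J8 D8 := by
    refine ⟨Subgroup.map_subtype_le _, ?_, Subgroup.map_subtype_le _, ?_⟩
    · rintro _ ⟨_, ⟨j, hj, rfl⟩, rfl⟩
      refine ⟨Cfsg.Agent.StdO8.Frame.Ctx.up (f j), ?_, rfl⟩
      show psi f (Cfsg.Agent.StdO8.Frame.Ctx.up (f j)) ∈ D
      have : psi f (Cfsg.Agent.StdO8.Frame.Ctx.up (f j)) = MulAut.conj j := by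
        ext y
        apply f.injective
        rw [f_psi, MulAut.conj_apply, map_mul, map_mul, map_inv]
        rfl
      rw [this]
      exact hH.inn j hj
    · rintro _ ⟨M, hM, rfl⟩ hM1 hMM x hx hxM _ ⟨N, hN, rfl⟩
      have hM' : psi f M ∈ D := hM
      have hN' : psi f N ∈ D := hN
      have h1 : psi f M ≠ 1 := by
        intro h
        apply hM1
        have : M = 1 := psi_injective f (by rw [h, map_one])
        rw [this]; rfl
      have h2 : psi f M * psi f M = 1 := by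
        rw [← map_mul]
        have : M * M = 1 := Subtype.ext hMM
        rw [this, map_one]
      have h3 : psi f M (f.symm ⟨x, hx⟩) = f.symm ⟨x, hx⟩ := by
        apply f.injective
        rw [f_psi, f.apply_symm_apply]
        apply Subtype.ext
        rw [cj_coe]
        show (M : V ≃ₗ[ZMod 2] V) * x * (M : V ≃ₗ[ZMod 2] V)⁻¹ = x
        have : x * (M : V ≃ₗ[ZMod 2] V) = (M : V ≃ₗ[ZMod 2] V) * x := hxM
        rw [← this, mul_inv_cancel_right]
      have h4 := hH.com _ hM' h1 h2 _ h3 _ hN'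
      refine ⟨f (f.symm ⟨x, hx⟩ * (psi f N (f.symm ⟨x, hx⟩))⁻¹), ⟨_, h4, rfl⟩, ?_⟩
      rw [map_mul, map_inv, f_psi, f.apply_symm_apply]
      show x * ((N : V ≃ₗ[ZMod 2] V) * x * (N : V ≃ₗ[ZMod 2] V)⁻¹)⁻¹ =
        x * (N : V ≃ₗ[ZMod 2] V) * x⁻¹ * (N : V ≃ₗ[ZMod 2] V)⁻¹
      group
  have hc8 : 4 ∣ Nat.card D8 := by
    rw [hD8, Subgroup.card_map_of_injective O8.subtype_injective,
      ← Subgroup.card_map_of_injective (psi_injective f)]
    refine h4P.trans (Subgroup.card_dvd_of_le fun p hp => ?_)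
    obtain ⟨M, rfl⟩ := hf hp
    exact ⟨M, hP'D hp, rfl⟩
  have hJ := FiRedLocalC.main h8 hc8
  rw [eq_top_iff]
  intro y _
  have h1 : ((f y : Om) : V ≃ₗ[ZMod 2] V) ∈ J8 := by rw [hJ]; exact (f y).2
  obtain ⟨_, ⟨j, hj, rfl⟩, h2⟩ := h1
  have h3 : f j = f y := Subtype.ext h2
  rw [← f.injective h3]
  exact hj

end Psi

section

variable {G : Type*} [Group G]

/-- outer involutions -/
theorem outer [Finite G] {L : Subgroup G} (e : L ≃* Om) : Outer L := by
  intro y hy hy1 hyy hno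
  set α : MulAut L := L.normalizerMonoidHom ⟨y, hy⟩ with hα
  have hαa : ∀ x : L, ((α x : L) : G) = y * x * y⁻¹ := fun x => rfl
  have hαα : α * α = 1 := by
    rw [hα, ← map_mul]
    have : (⟨y, hy⟩ : N L) * ⟨y, hy⟩ = 1 := Subtype.ext hyy
    rw [this, map_one]
  have hp : IsPGroup 2 (zpowers α) := by
    intro g
    obtain ⟨g, hg⟩ := g
    obtain ⟨k, rfl⟩ := mem_zpowers_iff.1 hg
    refine ⟨1, Subtype.ext ?_⟩
    show (α ^ k) ^ (2 ^ 1) = 1
    rw [pow_one, ← zpow_natCast, ← zpow_mul, mul_comm, zpow_mul]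
    have : α ^ ((2 : ℕ) : ℤ) = 1 := by rw [zpow_natCast, sq]; exact hαα
    rw [this, one_zpow]
  obtain ⟨f, hf⟩ := exists_trans e hp
  obtain ⟨M, hM⟩ := hf (mem_zpowers α)
  have hMM : M * M = 1 := by
    apply psi_injective f
    rw [map_mul, hM, hαα, map_one]
  have hMM' : (M : V ≃ₗ[ZMod 2] V) * M = 1 := congrArg Subtype.val hMM
  have hMOm : (M : V ≃ₗ[ZMod 2] V) ∉ Om := by
    intro hMO
    set a : L := f.symm ⟨M, hMO⟩ with ha
    have h1 : ∀ x : L, α x = a * x * a⁻¹ := by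
      intro x
      apply f.injective
      rw [← hM, f_psi, map_mul, map_mul, map_inv, ha, f.apply_symm_apply]
      rfl
    refine hno (a : G)⁻¹ (inv_mem a.2) ?_
    rw [mem_C]
    intro x hx
    have h2 := congrArg Subtype.val (h1 ⟨x, hx⟩)
    rw [hαa] at h2
    have h3 : y * x * y⁻¹ = (a : G) * x * (a : G)⁻¹ := h2
    have h4 : y * x = (a : G) * x * (a : G)⁻¹ * y := by rw [← h3]; group
    rw [mul_assoc, h4]; group
  obtain ⟨u, hu, hu0, hMu, -⟩ := exists_fixed (a := M) (b := 1) M.2 (one_mem _) hMM'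
    (by rw [one_mul, mul_one]) (Or.inl (one_mul 1))
  have hMz : ∀ z, (M : V ≃ₗ[ZMod 2] V) ((M : V ≃ₗ[ZMod 2] V) z) = z :=
    fun z => congrArg (fun k : V ≃ₗ[ZMod 2] V => k z) hMM'
  obtain ⟨v, hv, hvF⟩ : ∃ v, B u v = 0 ∧ ¬ Fx u (M : V ≃ₗ[ZMod 2] V) v := by
    by_contra hcon
    push Not at hcon
    obtain ⟨s, hs, h⟩ := exists_eq_X hu hu0 M.2 hMu hcon
    apply hMOm
    rw [h]
    exact X_mem u s
  have hBM : B u ((M : V ≃ₗ[ZMod 2] V) v) = 0 := by
    have := O8_B M.2 u v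
    rw [hMu] at this
    rw [this, hv]
  set w0 : Om := ⟨X u v, X_mem u v⟩ with hw0
  set s0 : Om := ⟨X u (v + (M : V ≃ₗ[ZMod 2] V) v), X_mem u _⟩ with hs0
  have hBs : B u (v + (M : V ≃ₗ[ZMod 2] V) v) = 0 := by rw [B_add_right, hv, hBM, add_zero]
  have hs1 : s0 ≠ 1 := by
    intro h
    refine X_ne_one hu hu0 hBs ?_ ?_ (congrArg Subtype.val h)
    · intro h1
      exact hvF (Or.inl (eq_of_add_eq_zero h1).symm)
    · intro h1
      exact hvF (Or.inr (by rw [← h1, add_self_add]))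
  have hss : s0 * s0 = 1 := Subtype.ext (X_mul_self _ _)
  have hws : w0 * (cj M w0)⁻¹ = s0 := by
    apply Subtype.ext
    show X u v * ((M : V ≃ₗ[ZMod 2] V) * X u v * (M : V ≃ₗ[ZMod 2] V)⁻¹)⁻¹ = _
    rw [X_conj M.2, hMu, X_inv, X_mul hu hv hBM]
  have hMs : cj M s0 = s0 := by
    apply Subtype.ext
    show (M : V ≃ₗ[ZMod 2] V) * X u (v + (M : V ≃ₗ[ZMod 2] V) v) * (M : V ≃ₗ[ZMod 2] V)⁻¹ = X u _
    rw [X_conj M.2, hMu, map_add, hMz, add_comm]
  refine ⟨(f.symm s0 : L), (f.symm s0).2, ?_, ?_, ?_, (f.symm w0 : L), (f.symm w0).2, ?_⟩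
  · intro h
    apply hs1
    have : f.symm s0 = 1 := Subtype.ext h
    rw [← f.apply_symm_apply s0, this, map_one]
  · have : f.symm s0 * f.symm s0 = 1 := by rw [← map_mul, hss, map_one]
    exact congrArg Subtype.val this
  · have h1 : α (f.symm s0) = f.symm s0 := by
      apply f.injective
      rw [← hM, f_psi, f.apply_symm_apply, hMs]
    have h2 := congrArg Subtype.val h1
    rw [hαa] at h2
    exact (mul_inv_eq_iff_eq_mul.1 h2).symm
  · have h1 : f.symm w0 * (α (f.symm w0))⁻¹ = f.symm s0 := by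
      apply f.injective
      rw [map_mul, map_inv, ← hM, f_psi, f.apply_symm_apply, f.apply_symm_apply, hws]
    have h2 := congrArg Subtype.val h1
    rw [coe_mul, coe_inv, hαa] at h2
    rw [← h2]; group

theorem simple_Om : IsSimpleGroup Om := by
  have h : IsSimpleGroup (Cfsg.Agent.ClassicalGeometry.OrthAut1.P q) :=
    Cfsg.Agent.LieClassical.OrthSimple.good_isSimpleGroup good
  exact pm.isSimpleGroup

/-- **reduction**: the involution -/
theorem exists_involution [Finite G] [IsSimpleGroup G] (hG : ¬ IsMulCommutative G)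
    (hcomm : Cfsg.oddCore G = ⊥ → CommHalf G)
    (hbal : ∀ t : G, orderOf t = 2 → Cfsg.centralizerPPrimeCore 2 t = ⊥)
    (L : Subgroup G) (hL : Cfsg.IsStandardSubgroup L) (e : L ≃* Om) :
    ∃ t : G, orderOf t = 2 ∧ t ∉ L ∧ t ∈ Subgroup.centralizer (L : Set G) ∧
      (∀ g : G, Commute g t → g ∈ Subgroup.normalizer (L : Set G)) ∧
      ∀ g ∈ Subgroup.centralizer (L : Set G), Commute g t → g = 1 ∨ g = t := by
  have hsimple := simple_Om
  have hs : IsSimpleGroup L := e.isSimpleGroup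
  have hA : TE L := TE.of_standard hL hs
  have hev : 2 ∣ Nat.card (C L) := hL.2.1.1.two_dvd
  have hng : 4 ∣ Nat.card (C L) → ¬ Good L := by
    intro _
    refine not_good hA ?_ ?_
    · intro B hB hne hle
      obtain ⟨g, rfl⟩ := hB.exists_eq
      apply hL.2.2.1 g (fun h => hne h.symm)
      rw [commutator_eq_bot_iff_le_centralizer]
      intro a ha
      rw [mem_centralizer_iff]
      intro b hb
      exact comm_of_C (hle hb) ha
    · intro B hB
      obtain ⟨g, rfl⟩ := hB.exists_eq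
      have e1 : L ≃* StdAlt.Conj.cj g L := L.equivMapOfInjective _ (MulAut.conj g).injective
      exact locAut (e1.symm.trans e)
  -- an involution of `L`
  obtain ⟨s, hsL, hs1, hss⟩ : ∃ s ∈ L, s ≠ 1 ∧ s * s = 1 := by
    obtain ⟨u, v, huv⟩ := good.exists_hyp
    obtain ⟨c, c', ⟨c1, -, -⟩, ⟨d1, -, -⟩, hcc⟩ := FiRedVec.exists_pair3 u u u
    have hc0 : c ≠ 0 := by
      rintro rfl
      rw [B_zero_left] at hcc
      exact absurd hcc (by decide)
    have hcu : c ≠ u := by
      rintro rfl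
      rw [d1] at hcc
      exact absurd hcc (by decide)
    have hX := X_ne_one huv.left huv.left_ne c1 hc0 hcu
    refine ⟨(e.symm ⟨X u c, X_mem u c⟩ : L), (e.symm ⟨X u c, X_mem u c⟩).2, ?_, ?_⟩
    · intro h
      apply hX
      have h1 : e.symm ⟨X u c, X_mem u c⟩ = 1 := Subtype.ext h
      have h2 : (⟨X u c, X_mem u c⟩ : Om) = 1 := by rw [← e.apply_symm_apply ⟨X u c, X_mem u c⟩, h1, map_one]
      exact congrArg Subtype.val h2
    · have h1 : e.symm ⟨X u c, X_mem u c⟩ * e.symm ⟨X u c, X_mem u c⟩ = 1 := by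
        rw [← map_mul]
        have : (⟨X u c, X_mem u c⟩ : Om) * ⟨X u c, X_mem u c⟩ = 1 := Subtype.ext (X_mul_self u c)
        rw [this, map_one]
      exact congrArg Subtype.val h1
  have h4 := FiRedGen.not_four_dvd hG hcomm hA hs (outer e) hng hsL hs1 hss
  obtain ⟨t, ht, htC, htk⟩ := FiRedGen.exists_inv hA hbal hev h4
  have htt : t * t = 1 := by rw [← sq, ← ht]; exact pow_orderOf_eq_one t
  have ht1 : t ≠ 1 := by
    intro h
    rw [h, orderOf_one] at ht
    exact absurd ht (by norm_num)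
  exact ⟨t, ht, fun h => ht1 (hA.disj t h htC), htC,
    fun g hg => hA.nrm htC ht1 htt hg.eq, fun g hg hgt => htk g hg hgt.eq⟩

/-- **reduction**: the context of `StdO8.Frame` -/
theorem exists_ctx [Finite G] [IsSimpleGroup G] (hG : ¬ IsMulCommutative G)
    (hcomm : Cfsg.oddCore G = ⊥ → CommHalf G)
    (hbal : ∀ t : G, orderOf t = 2 → Cfsg.centralizerPPrimeCore 2 t = ⊥)
    (L : Subgroup G) (hL : Cfsg.IsStandardSubgroup L)
    {F : Type*} [Field F] [Fintype F] (hF : Fintype.card F = 2)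
    (e : L ≃* Cfsg.POmega F (Cfsg.quadFormPlus 4 F)) :
    ∃ C : Cfsg.Agent.StdO8.Frame.Ctx G, C.L = L := by
  obtain ⟨e'⟩ := exists_equiv hF
  obtain ⟨t, ht, -, htC, hN, hC⟩ := exists_involution hG hcomm hbal L hL (e.trans e')
  have htt : t * t = 1 := by rw [← sq, ← ht]; exact pow_orderOf_eq_one t
  have ht1 : t ≠ 1 := by
    intro h
    rw [h, orderOf_one] at ht
    exact absurd ht (by norm_num)
  obtain ⟨C, -, hCL⟩ := Cfsg.Agent.StdO8.Frame.exists_ctx L (e.trans e') htt ht1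
    (fun g hg => (comm_of_C htC hg).symm) hN
    (fun g hg hx => hC g (mem_centralizer_iff.2 fun x hxL => (hx x hxL).eq.symm) hg)
  exact ⟨C, hCL⟩

end

end Cfsg.Agent.StandardComponent.FiRedEight
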