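import Cfsg.Agent.StandardComponent.FiRedVec

/-!
# The local lemma for `Ω₈⁺(2)`

`J ≤ D ≤ O₈⁺(2)`, `J ≤ Ω`, `[x, β] ∈ J` for involutions `a ∈ D`, `x ∈ C_Ω(a)`, `β ∈ D`.
-/

set_option autoImplicit false

namespace Cfsg.Agent.StandardComponent.FiRedLocal

open QuadraticMap Cfsg.Agent.StdO8.Model Cfsg.Agent.StandardComponent.FiRedVec
  Cfsg.Agent.LieClassical.OrthCore

/-- the hypothesis -/
structure H8 (J D : Subgroup (V ≃ₗ[ZMod 2] V)) : Prop where
  JO : J ≤ Om
  JD : J ≤ D
  DO : D ≤ O8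
  com : ∀ a ∈ D, a ≠ 1 → a * a = 1 → ∀ x ∈ Om, x * a = a * x → ∀ β ∈ D, x * β * x⁻¹ * β⁻¹ ∈ J

theorem X_gen {u m : V} (hu : q u = 0) (hm : B u m = 0) (v : V) :
    X u m v = v + B u v • m + B m v • u + (q m * B u v) • u := X_apply' hu hm v

/-- `X u m` fixes `v` when `v ⊥ u, m` -/
theorem X_fix {u m v : V} (hu : q u = 0) (hm : B u m = 0) (h1 : B u v = 0) (h2 : B m v = 0) :
    X u m v = v := by
  rw [X_gen hu hm, h1, h2]; simp

theorem X_one_left {u m v : V} (hu : q u = 0) (hm : B u m = 0) (h1 : B u v = 1) :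
    X u m v = v + m + (B m v + q m) • u := by
  rw [X_gen hu hm, h1, one_smul, mul_one, add_smul]
  abel

theorem X_one_left0 {u m v : V} (hu : q u = 0) (hm : B u m = 0) (h1 : B u v = 0) :
    X u m v = v + B m v • u := by
  rw [X_gen hu hm, h1, zero_smul, mul_zero, zero_smul, add_zero, add_zero]

theorem add_add_self (x y : V) : x + y + y = x := by rw [add_assoc, add_self, add_zero]

theorem add_self_add (x y : V) : x + (x + y) = y := by rw [← add_assoc, add_self, zero_add]

theorem eq_add_of {x y z : V} (h : x + y = z) : x = z + y := by rw [← h, add_add_self]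

/-- `u, m` with `m ∉ ⟨u⟩`: the element is not the identity -/
theorem X_ne_one {u m : V} (hu : q u = 0) (hu0 : u ≠ 0) (hm : B u m = 0) (hm0 : m ≠ 0) (hmu : m ≠ u) :
    X u m ≠ 1 := by
  intro h
  obtain ⟨v, hv, -⟩ := exists_B hu0 hm0 hmu.symm 1 0
  have h1 : X u m v = v := by rw [h]; rfl
  rw [X_one_left hu hm hv] at h1
  have h2 : m + (B m v + q m) • u = 0 := by
    rw [add_assoc] at h1
    exact left_eq_add.1 h1.symm
  rcases z2 (B m v + q m) with h3 | h3 <;> rw [h3] at h2
  · apply hm0; simpa using h2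
  · apply hmu; rw [one_smul] at h2; exact eq_of_add_eq_zero h2

theorem X_ne {u m m' : V} (hu : q u = 0) (h : X u m ≠ X u m') : m ≠ m' ∧ m ≠ m' + u := by
  refine ⟨fun e => h (by rw [e]), fun e => h (by rw [e, X_add_right hu])⟩

section

variable {J D : Subgroup (V ≃ₗ[ZMod 2] V)}

theorem H8.nrm (h : H8 J D) {j : V ≃ₗ[ZMod 2] V} (hj : j ∈ J) (h1 : j ≠ 1) (h2 : j * j = 1)
    {x : V ≃ₗ[ZMod 2] V} (hx : x ∈ Om) (hxj : x * j = j * x) {i : V ≃ₗ[ZMod 2] V} (hi : i ∈ J) :
    x * i * x⁻¹ ∈ J := by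
  have h3 := J.mul_mem (h.com j (h.JD hj) h1 h2 x hx hxj i (h.JD hi)) hi
  rwa [inv_mul_cancel_right] at h3

/-- an isometry fixing `u` and `m` modulo `u` commutes with `X u m` -/
theorem comm_X {g : V ≃ₗ[ZMod 2] V} (hg : g ∈ O8) {u m : V} (hu : q u = 0) (hgu : g u = u)
    (hgm : g m = m ∨ g m = m + u) : g * X u m = X u m * g := by
  have h := X_conj hg u m
  have h1 : X (g u) (g m) = X u m := by
    rcases hgm with e | e
    · rw [hgu, e]
    · rw [hgu, e, X_add_right hu]
  rw [h1, mul_inv_eq_iff_eq_mul] at h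
  exact h

/-- `[X u y, β] = X u (y + β y)` -/
theorem absorb (h : H8 J D) {a : V ≃ₗ[ZMod 2] V} (ha : a ∈ D) (h1 : a ≠ 1) (h2 : a * a = 1) {u y : V}
    (hu : q u = 0) (hau : a u = u) (hy : B u y = 0) (hay : a y = y ∨ a y = y + u)
    {β : V ≃ₗ[ZMod 2] V} (hβ : β ∈ D) (hβu : β u = u) : X u (y + β y) ∈ J := by
  have hβO := h.DO hβ
  have h3 := h.com a ha h1 h2 (X u y) (X_mem u y) (comm_X (h.DO ha) hu hau hay).symm β hβ
  have h4 : X u y * β * (X u y)⁻¹ * β⁻¹ = X u y * (β * X u y * β⁻¹) := by rw [X_inv]; group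
  have h5 : B u (β y) = 0 := by
    have := O8_B hβO u y
    rw [hβu] at this
    rw [this, hy]
  rwa [h4, X_conj hβO, hβu, X_mul hu hy h5] at h3

theorem mem_add {u y y' : V} (hu : q u = 0) (hy : B u y = 0) (hy' : B u y' = 0)
    (h : X u y ∈ J) (h' : X u y' ∈ J) : X u (y + y') ∈ J := by
  have h1 := J.mul_mem h h'
  rwa [X_mul hu hy hy'] at h1

/-- first case: a singular `m` not orthogonal to `s` -/
theorem all_of_sing (h : H8 J D) {u m s : V} (hu : q u = 0) (hu0 : u ≠ 0) (hm : B u m = 0)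
    (hs : B u s = 0) (hmq : q m = 0) (hms : B m s = 1) (hmJ : X u m ∈ J) (hsJ : X u s ∈ J) :
    ∀ y, B u y = 0 → X u y ∈ J := by
  have hm0 : m ≠ 0 := by
    rintro rfl
    rw [B_zero_left] at hms
    exact absurd hms (by decide)
  have hmu : m ≠ u := by
    rintro rfl
    rw [hs] at hms
    exact absurd hms (by decide)
  have h1 := X_ne_one hu hu0 hm hm0 hmu
  have hmu' : B m u = 0 := by rw [B_comm]; exact hm
  have key : ∀ c, B u c = 0 → B m c = 0 → X u c ∈ J := by
    intro c hc hmc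
    have gu : X m c u = u := X_fix hmq hmc hmu' (by rw [B_comm]; exact hc)
    have gm : X m c m = m := X_fix hmq hmc (B_self m) (by rw [B_comm]; exact hmc)
    have h3 := h.nrm hmJ h1 (X_mul_self u m) (X_mem m c)
      (comm_X (X_mem_O8 m c) hu gu (Or.inl gm)) hsJ
    rw [X_conj (X_mem_O8 m c), gu, X_one_left hmq hmc hms, add_assoc] at h3
    have e1 : B u (c + (B c s + q c) • m) = 0 := by
      rw [B_add_right, hc, B_smul_right, hm, mul_zero, add_zero]
    have h4 := J.mul_mem hsJ h3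
    rw [X_mul hu hs (by rw [B_add_right, hs, e1, add_zero]), add_self_add] at h4
    rcases z2 (B c s + q c) with h5 | h5
    · rw [h5, zero_smul, add_zero] at h4; exact h4
    · rw [h5, one_smul] at h4
      have h6 := mem_add hu (by rw [B_add_right, hc, hm, add_zero]) hm h4 hmJ
      rwa [add_add_self] at h6
  intro y hy
  rcases z2 (B m y) with h2 | h2
  · exact key y hy h2
  · have h3 := key (y + s) (by rw [B_add_right, hy, hs, add_zero]) (by rw [B_add_right, h2, hms]; decide)
    have h6 := mem_add hu (by rw [B_add_right, hy, hs, add_zero]) hs h3 hsJ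
    rwa [add_add_self] at h6

/-- the elements obtained from `X a c` -/
theorem moved (h : H8 J D) {u m s a c : V} (hu : q u = 0) (hu0 : u ≠ 0) (hm : B u m = 0)
    (hm0 : m ≠ 0) (hmu : m ≠ u) (hs : B u s = 0) (hmJ : X u m ∈ J) (hsJ : X u s ∈ J)
    (haq : q a = 0) (hua : B u a = 0) (hma : B m a = 0) (hsa : B s a = 1)
    (huc : B u c = 0) (hmc : B m c = 0) (hac : B a c = 0) : X u (c + (B c s + q c) • a) ∈ J := by
  have h1 := X_ne_one hu hu0 hm hm0 hmu
  have gu : X a c u = u := X_fix haq hac (by rw [B_comm]; exact hua) (by rw [B_comm]; exact huc)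
  have gm : X a c m = m := X_fix haq hac (by rw [B_comm]; exact hma) (by rw [B_comm]; exact hmc)
  have h3 := h.nrm hmJ h1 (X_mul_self u m) (X_mem a c) (comm_X (X_mem_O8 a c) hu gu (Or.inl gm)) hsJ
  rw [X_conj (X_mem_O8 a c), gu, X_one_left haq hac (by rw [B_comm]; exact hsa), add_assoc] at h3
  have e1 : B u (c + (B c s + q c) • a) = 0 := by
    rw [B_add_right, huc, B_smul_right, hua, mul_zero, add_zero]
  have h4 := J.mul_mem hsJ h3
  rwa [X_mul hu hs (by rw [B_add_right, hs, e1, add_zero]), add_self_add] at h4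

/-- the form values of the moved vectors -/
theorem moved_q {a c : V} (haq : q a = 0) (hac : B a c = 0) (e : ZMod 2) : q (c + e • a) = q c := by
  rw [q_add, B_smul_right, B_comm, hac, mul_zero, add_zero]
  rcases z2 e with rfl | rfl
  · rw [zero_smul, q_zero, add_zero]
  · rw [one_smul, haq, add_zero]

theorem moved_B {a c c' : V} (hac : B a c = 0) (hac' : B a c' = 0) (e e' : ZMod 2) :
    B (c + e • a) (c' + e' • a) = B c c' := by
  rw [B_add_left, B_add_right, B_add_right, B_smul_left, B_smul_left, B_smul_right, B_smul_right, B_self,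
    hac', B_comm c a, hac]
  simp

theorem moved_u {u a c : V} (hua : B u a = 0) (huc : B u c = 0) (e : ZMod 2) : B u (c + e • a) = 0 := by
  rw [B_add_right, B_smul_right, hua, huc]; simp

theorem all_of_nonsing (h : H8 J D) {u m s : V} (hu : q u = 0) (hu0 : u ≠ 0) (hm : B u m = 0)
    (hmq : q m = 1) (hs : B u s = 0) (hs0 : s ≠ 0) (hsu : s ≠ u) (hsm : s ≠ m)
    (hsum : s ≠ u + m) (hmJ : X u m ∈ J) (hsJ : X u s ∈ J) : ∀ y, B u y = 0 → X u y ∈ J := by
  have hm0 : m ≠ 0 := by
    rintro rfl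
    rw [q_zero] at hmq
    exact absurd hmq (by decide)
  have hmu : m ≠ u := by
    rintro rfl
    rw [hu] at hmq
    exact absurd hmq (by decide)
  obtain ⟨a, haq, hua, hma, hsa⟩ := exists_sing hs0 hsu hsm hsum
  obtain ⟨c, c', ⟨c1, c2, c3⟩, ⟨d1, d2, d3⟩, hcc, hcq⟩ :=
    exists_pair3_sing u m a hmq hm (by rw [B_comm]; exact hma)
  have k1 := moved h hu hu0 hm hm0 hmu hs hmJ hsJ haq hua hma hsa c1 c2 c3
  have k2 := moved h hu hu0 hm hm0 hmu hs hmJ hsJ haq hua hma hsa d1 d2 d3
  refine all_of_sing h hu hu0 (moved_u hua c1 _) (moved_u hua d1 _) ?_ ?_ k1 k2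
  · rw [moved_q haq c3, hcq]
  · rw [moved_B c3 d3, hcc]

/-- two independent elements of `Q_u` in `J` -/
theorem all_of_two (h : H8 J D) {u m s : V} (hu : q u = 0) (hu0 : u ≠ 0) (hm : B u m = 0)
    (hm0 : m ≠ 0) (hmu : m ≠ u) (hs : B u s = 0) (hs0 : s ≠ 0) (hsu : s ≠ u) (hsm : s ≠ m)
    (hsum : s ≠ u + m) (hmJ : X u m ∈ J) (hsJ : X u s ∈ J) : ∀ y, B u y = 0 → X u y ∈ J := by
  rcases z2 (q m) with hmq | hmq
  · obtain ⟨a, haq, hua, hma, hsa⟩ := exists_sing hs0 hsu hsm hsum
    obtain ⟨c, c1, c2, c3, hcq⟩ := exists_nonsing3 u m a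
    have k1 := moved h hu hu0 hm hm0 hmu hs hmJ hsJ haq hua hma hsa c1 c2 c3
    have e1 : q (c + (B c s + q c) • a) = 1 := by rw [moved_q haq c3, hcq]
    refine all_of_nonsing h hu hu0 (moved_u hua c1 _) e1 hm hm0 hmu ?_ ?_ k1 hmJ
    · intro e
      rw [← e, hmq] at e1
      exact absurd e1 (by decide)
    · intro e
      have : q (u + (c + (B c s + q c) • a)) = 1 := by rw [q_add, hu, e1, moved_u hua c1]; decide
      rw [← e, hmq] at this
      exact absurd this (by decide)
  · exact all_of_nonsing h hu hu0 hm hmq hs hs0 hsu hsm hsum hmJ hsJ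

/-! ### All of `Ω` -/

theorem swap_step (h : H8 J D) {u w : V} (hu : q u = 0) (hu0 : u ≠ 0) (hw : q w = 0) (hw0 : w ≠ 0)
    (huw : B u w = 0) (hne : u ≠ w) (hall : ∀ y, B u y = 0 → X u y ∈ J) :
    ∀ y, B w y = 0 → X w y ∈ J := by
  obtain ⟨r, r1, r2⟩ := exists_B hu0 hw0 hne 1 1
  obtain ⟨c, c', ⟨c1, c2, -⟩, ⟨d1, d2, -⟩, hcc⟩ := exists_pair3 u w w
  have hq : q (u + w) = 0 := by rw [q_add, hu, hw, huw]; decide
  have hr : B (u + w) r = 0 := by rw [B_add_left, r1, r2]; decide
  have e1 : X (u + w) r u = w := by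
    rw [X_one_left0 hq hr (by rw [B_add_left, B_self, B_comm, huw, add_zero]), B_comm, r1, one_smul,
      add_self_add]
  have e2 : X (u + w) r w = u := by
    rw [X_one_left0 hq hr (by rw [B_add_left, B_self, huw, add_zero]), B_comm, r2, one_smul,
      add_comm u w, add_self_add]
  have e3 : X (u + w) r c = c + B r c • (u + w) :=
    X_one_left0 hq hr (by rw [B_add_left, c1, c2, add_zero])
  have hg := X_mem_O8 (u + w) r
  have hcom : X (u + w) r * X u w = X u w * X (u + w) r := by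
    have := X_conj hg u w
    rw [e1, e2, X_comm hw hu, mul_inv_eq_iff_eq_mul] at this
    exact this
  have huwJ := hall w huw
  have h1 := X_ne_one hu hu0 huw hw0 hne.symm
  have h3 := h.nrm huwJ h1 (X_mul_self u w) (X_mem (u + w) r) hcom (hall c c1)
  rw [X_conj hg, e1, e3] at h3
  have hwu : B w u = 0 := by rw [B_comm]; exact huw
  have hc' : ∀ e : ZMod 2, B (c + e • (u + w)) c' = 1 := by
    intro e
    rw [B_add_left, hcc, B_smul_left, B_add_left, d1, d2]; simp
  refine all_of_two h hw hw0 hwu hu0 hne ?_ ?_ ?_ ?_ ?_ (by rw [X_comm hw hu]; exact huwJ) h3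
  · rw [B_add_right, c2, B_smul_right, B_add_right, B_self, hwu]; simp
  · intro e
    have := hc' (B r c)
    rw [e, B_zero_left] at this
    exact absurd this (by decide)
  · intro e
    have := hc' (B r c)
    rw [e, d2] at this
    exact absurd this (by decide)
  · intro e
    have := hc' (B r c)
    rw [e, d1] at this
    exact absurd this (by decide)
  · intro e
    have := hc' (B r c)
    rw [e, B_add_left, d1, d2] at this
    exact absurd this (by decide)

/-- **if `J` contains `Q_u` then `J = Ω`** -/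
theorem eq_of_all (h : H8 J D) {u : V} (hu : q u = 0) (hu0 : u ≠ 0)
    (hall : ∀ y, B u y = 0 → X u y ∈ J) : J = Om := by
  have step : ∀ w, q w = 0 → w ≠ 0 → ∀ y, B w y = 0 → X w y ∈ J := by
    intro w hw hw0
    by_cases hne : u = w
    · rw [← hne]; exact hall
    by_cases huw : B u w = 0
    · exact swap_step h hu hu0 hw hw0 huw hne hall
    -- a common neighbour
    obtain ⟨c, c', ⟨c1, c2, -⟩, ⟨d1, d2, -⟩, hcc⟩ := exists_pair3 u w w
    obtain ⟨x, hx, hux, hwx, hcx⟩ := exists_sing (u := u) (m := w) (s := c)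
      (by rintro rfl; rw [B_zero_left] at hcc; exact absurd hcc (by decide))
      (by rintro rfl; rw [d1] at hcc; exact absurd hcc (by decide))
      (by rintro rfl; rw [d2] at hcc; exact absurd hcc (by decide))
      (by rintro rfl; rw [B_add_left, d1, d2] at hcc; exact absurd hcc (by decide))
    have hx0 : x ≠ 0 := by
      rintro rfl
      rw [B_zero_right] at hcx
      exact absurd hcx (by decide)
    have hux' : u ≠ x := by
      rintro rfl
      rw [B_comm] at hwx
      exact huw hwx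
    have hwx' : x ≠ w := by
      rintro rfl
      exact huw hux
    exact swap_step h hx hx0 hw hw0 (by rw [B_comm]; exact hwx) hwx'
      (swap_step h hu hu0 hx hx0 hux hux' hall)
  refine le_antisymm h.JO ?_
  refine (Subgroup.closure_le _).2 ?_
  rintro g ⟨w, y, hw, hy, rfl⟩
  show siegel q w y hw hy ∈ J
  rw [← X_eq hw hy]
  by_cases hw0 : w = 0
  · have : X w y = 1 := by
      ext v : 1
      rw [X_gen hw hy, hw0]
      simp [B_zero_left]
    rw [this]
    exact J.one_mem
  · exact step w hw hw0 y hy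

end

end Cfsg.Agent.StandardComponent.FiRedLocal
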