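import Cfsg.Agent.StandardComponent.FiRedVec

/-!
# Two commuting involutions with the same fixed points on `u^⊥/u`

If `a`, `b`, `ab` have the same fixed vectors on `u^⊥/u` (`u` singular, dimension 8) then `a` is trivial on it.
-/

set_option autoImplicit false

namespace Cfsg.Agent.StandardComponent.FiRedRank

open QuadraticMap Cfsg.Agent.StdO8.Model Cfsg.Agent.StandardComponent.FiRedVec Module
  Cfsg.Agent.LieClassical.OrthCore

set_option maxRecDepth 100000 in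
set_option synthInstance.maxHeartbeats 2000000 in
set_option synthInstance.maxSize 100000 in
set_option maxHeartbeats 4000000 in
theorem bits : ∀ c1 c2 c3 a1 a2 a3 a4 a5 a6 : ZMod 2,
    c1 * a1 + c2 * a2 + c3 * a3 = a1 → c1 * a2 + c2 * a4 + c3 * a5 = a4 →
    c1 * a3 + c2 * a5 + c3 * a6 = a6 →
    ∀ b1 b2 b3 b4 b5 b6 : ZMod 2,
    c1 * b1 + c2 * b2 + c3 * b3 = b1 → c1 * b2 + c2 * b4 + c3 * b5 = b4 →
    c1 * b3 + c2 * b5 + c3 * b6 = b6 →
    (∀ x1 x2 x3 : ZMod 2, x1 * a1 + x2 * a2 + x3 * a3 = 0 → x1 * a2 + x2 * a4 + x3 * a5 = 0 →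
      x1 * a3 + x2 * a5 + x3 * a6 = 0 → x1 * b1 + x2 * b2 + x3 * b3 = 0 ∧
      x1 * b2 + x2 * b4 + x3 * b5 = 0 ∧ x1 * b3 + x2 * b5 + x3 * b6 = 0) →
    (∀ x1 x2 x3 : ZMod 2, x1 * b1 + x2 * b2 + x3 * b3 = 0 → x1 * b2 + x2 * b4 + x3 * b5 = 0 →
      x1 * b3 + x2 * b5 + x3 * b6 = 0 → x1 * a1 + x2 * a2 + x3 * a3 = 0 ∧
      x1 * a2 + x2 * a4 + x3 * a5 = 0 ∧ x1 * a3 + x2 * a5 + x3 * a6 = 0) →
    (∀ x1 x2 x3 : ZMod 2, x1 * a1 + x2 * a2 + x3 * a3 = x1 * b1 + x2 * b2 + x3 * b3 →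
      x1 * a2 + x2 * a4 + x3 * a5 = x1 * b2 + x2 * b4 + x3 * b5 →
      x1 * a3 + x2 * a5 + x3 * a6 = x1 * b3 + x2 * b5 + x3 * b6 → x1 * a1 + x2 * a2 + x3 * a3 = 0 ∧
      x1 * a2 + x2 * a4 + x3 * a5 = 0 ∧ x1 * a3 + x2 * a5 + x3 * a6 = 0) →
    a1 = 0 ∧ a2 = 0 ∧ a3 = 0 ∧ a4 = 0 ∧ a5 = 0 ∧ a6 = 0 := by
  decide +kernel

theorem exists_one {S E : Submodule (ZMod 2) V} {n : ℕ}
    (h : finrank (ZMod 2) E ≤ finrank (ZMod 2) S + (n + 1)) :
    ∃ e ∈ E, finrank (ZMod 2) E ≤ finrank (ZMod 2) ↥(S ⊔ Submodule.span (ZMod 2) {e}) + n := by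
  by_cases hES : E ≤ S
  · refine ⟨0, E.zero_mem, ?_⟩
    have := Submodule.finrank_mono (hES.trans (le_sup_left : S ≤ S ⊔ Submodule.span (ZMod 2) {0}))
    omega
  · obtain ⟨e, heE, heS⟩ := SetLike.not_le_iff_exists.1 hES
    refine ⟨e, heE, ?_⟩
    have hlt : S < S ⊔ Submodule.span (ZMod 2) {e} := by
      refine lt_of_le_of_ne le_sup_left fun hc => heS ?_
      rw [hc]
      exact (le_sup_right : Submodule.span (ZMod 2) {e} ≤ _) (Submodule.mem_span_singleton_self e)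
    have := Submodule.finrank_lt_finrank_of_lt hlt
    omega

theorem exists_three {S E : Submodule (ZMod 2) V} (hSE : S ≤ E)
    (h : finrank (ZMod 2) E ≤ finrank (ZMod 2) S + 3) :
    ∃ e1 ∈ E, ∃ e2 ∈ E, ∃ e3 ∈ E, ∀ z ∈ E, ∃ s ∈ S, ∃ x1 x2 x3 : ZMod 2,
      z = s + (x1 • e1 + x2 • e2 + x3 • e3) := by
  obtain ⟨e1, h1, h1'⟩ := exists_one h
  have hS1 : S ⊔ Submodule.span (ZMod 2) {e1} ≤ E :=
    sup_le hSE ((Submodule.span_singleton_le_iff_mem _ _).2 h1)
  obtain ⟨e2, h2, h2'⟩ := exists_one h1'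
  have hS2 : S ⊔ Submodule.span (ZMod 2) {e1} ⊔ Submodule.span (ZMod 2) {e2} ≤ E :=
    sup_le hS1 ((Submodule.span_singleton_le_iff_mem _ _).2 h2)
  obtain ⟨e3, h3, h3'⟩ := exists_one h2'
  have hS3 : S ⊔ Submodule.span (ZMod 2) {e1} ⊔ Submodule.span (ZMod 2) {e2} ⊔
      Submodule.span (ZMod 2) {e3} ≤ E :=
    sup_le hS2 ((Submodule.span_singleton_le_iff_mem _ _).2 h3)
  have heq := Submodule.eq_of_le_of_finrank_le hS3 (by omega)
  refine ⟨e1, h1, e2, h2, e3, h3, fun z hz => ?_⟩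
  rw [← heq, Submodule.mem_sup] at hz
  obtain ⟨z2, hz2, y3, hy3, rfl⟩ := hz
  rw [Submodule.mem_sup] at hz2
  obtain ⟨z1, hz1, y2, hy2, rfl⟩ := hz2
  rw [Submodule.mem_sup] at hz1
  obtain ⟨s, hs, y1, hy1, rfl⟩ := hz1
  rw [Submodule.mem_span_singleton] at hy1 hy2 hy3
  obtain ⟨x1, rfl⟩ := hy1
  obtain ⟨x2, rfl⟩ := hy2
  obtain ⟨x3, rfl⟩ := hy3
  exact ⟨s, hs, x1, x2, x3, by abel⟩

/-- orthogonal to `u^⊥` -/
theorem eq_of_perp {u w : V} (h : ∀ y, B u y = 0 → B y w = 0) : w = 0 ∨ w = u := by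
  have h1 : w ∈ bb.orthogonal (pp [u]) := by
    intro y hy
    rw [mem_pp] at hy
    exact h y (hy u (by simp))
  rw [pp, LinearMap.BilinForm.orthogonal_orthogonal bb_nondeg bb_refl] at h1
  have e : {x | x ∈ [u]} = ({u} : Set V) := by ext x; simp
  rw [e, Submodule.mem_span_singleton] at h1
  obtain ⟨x, rfl⟩ := h1
  rcases z2 x with rfl | rfl
  · left; simp
  · right; simp

/-- fixed modulo `u` -/
def Fx (u : V) (g : V ≃ₗ[ZMod 2] V) (y : V) : Prop := g y = y ∨ g y = y + u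

theorem Fx_iff {u : V} {g : V ≃ₗ[ZMod 2] V} {y : V} : Fx u g y ↔ (g y + y = 0 ∨ g y + y = u) := by
  constructor
  · rintro (h | h)
    · left; rw [h, add_self]
    · right; rw [h, add_comm y u, add_assoc, add_self, add_zero]
  · rintro (h | h)
    · left; exact eq_of_add_eq_zero h
    · right
      rw [← h]
      rw [add_comm (g y) y, ← add_assoc, add_self, zero_add]

theorem Fx_B {u : V} {g : V ≃ₗ[ZMod 2] V} {y z : V} (h : Fx u g y) (hz : B u z = 0) :
    B z (g y + y) = 0 := by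
  rcases Fx_iff.1 h with h | h
  · rw [h, B_zero_right]
  · rw [h, B_comm, hz]

/-- the form -/
theorem symm_form {g : V ≃ₗ[ZMod 2] V} (hg : g ∈ O8) (h2 : g * g = 1) (y z : V) :
    B y (g z + z) = B z (g y + y) := by
  have h3 : g (g z) = z := by
    have := congrArg (fun k : V ≃ₗ[ZMod 2] V => k z) h2
    exact this
  have h4 : B y (g z) = B (g y) z := by rw [← O8_B hg y (g z), h3]
  rw [B_add_right, B_add_right, h4, B_comm (g y) z, B_comm y z]

theorem diag_form {g : V ≃ₗ[ZMod 2] V} (hg : g ∈ O8) (z : V) : B z (g z + z) = q (g z + z) := by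
  rw [q_add, O8_q hg, aa, zero_add, B_add_right, B_self, add_zero, B_comm]

variable {u : V} {a b : V ≃ₗ[ZMod 2] V}

/-- **rank lemma** -/
theorem trivial_of_same (hu : q u = 0) (hu0 : u ≠ 0) (ha : a ∈ O8) (hb : b ∈ O8) (ha2 : a * a = 1)
    (hb2 : b * b = 1) (hab : a * b = b * a) (hau : a u = u)
    (h1 : ∀ y, B u y = 0 → Fx u a y → Fx u b y) (h2 : ∀ y, B u y = 0 → Fx u b y → Fx u a y)
    (h3 : ∀ y, B u y = 0 → Fx u (a * b) y → Fx u a y) : ∀ y, B u y = 0 → Fx u a y := by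
  have haa : ∀ z, a (a z) = z := fun z => congrArg (fun k : V ≃ₗ[ZMod 2] V => k z) ha2
  have hbb : ∀ z, b (b z) = z := fun z => congrArg (fun k : V ≃ₗ[ZMod 2] V => k z) hb2
  let S : Submodule (ZMod 2) V := pp [u] ⊓
    (Submodule.span (ZMod 2) {u}).comap (a.toLinearMap + LinearMap.id)
  have hE : ∀ y, y ∈ pp [u] ↔ B u y = 0 := by
    intro y
    rw [mem_pp]
    simp
  have hS : ∀ y, y ∈ S ↔ B u y = 0 ∧ Fx u a y := by
    intro y
    rw [Submodule.mem_inf, hE, Submodule.mem_comap, Submodule.mem_span_singleton, Fx_iff]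
    apply and_congr_right
    intro _
    constructor
    · rintro ⟨x, hx⟩
      rcases z2 x with rfl | rfl
      · left; simpa using hx.symm
      · right; simpa using hx.symm
    · rintro (h | h)
      · exact ⟨0, by simpa using h.symm⟩
      · exact ⟨1, by simpa using h.symm⟩
  -- `(g + 1) E ≤ S^⊥`
  have hTa : ∀ z, B u z = 0 → a z + z ∈ bb.orthogonal S := by
    intro z hz s hs
    show B s (a z + z) = 0
    rw [symm_form ha ha2]
    exact Fx_B ((hS s).1 hs).2 hz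
  have hTb : ∀ z, B u z = 0 → b z + z ∈ bb.orthogonal S := by
    intro z hz s hs
    show B s (b z + z) = 0
    rw [symm_form hb hb2]
    exact Fx_B (h1 s ((hS s).1 hs).1 ((hS s).1 hs).2) hz
  have huS : u ∈ S := (hS u).2 ⟨B_self u, Or.inl hau⟩
  have hperp : bb.orthogonal S ≤ S := by
    intro t ht
    have htu : B u t = 0 := ht u huS
    refine (hS t).2 ⟨htu, Fx_iff.2 (eq_of_perp fun y hy => ?_)⟩
    rw [symm_form ha ha2, B_comm]
    refine ht _ ((hS _).2 ⟨?_, ?_⟩)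
    · rw [B_add_right, hy, add_zero, ← hau, O8_B ha, hy]
    · left
      rw [map_add, haa, add_comm]
  have hfr : 4 ≤ finrank (ZMod 2) S := by
    have e1 := Submodule.finrank_mono hperp
    rw [LinearMap.BilinForm.finrank_orthogonal bb_nondeg, finrank_V] at e1
    omega
  have hSE : S ≤ pp [u] := inf_le_left
  have hfE : finrank (ZMod 2) (pp [u]) ≤ finrank (ZMod 2) S + 3 := by
    have e1 : pp [u] ≠ ⊤ := by
      intro e
      apply hu0
      apply nondeg
      intro v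
      rw [← hE, e]
      trivial
    have := Submodule.finrank_lt e1
    rw [finrank_V] at this
    omega
  obtain ⟨e1, he1, e2, he2, e3, he3, hdec⟩ := exists_three hSE hfE
  rw [hE] at he1 he2 he3
  -- the characteristic vector
  obtain ⟨v0, hv0⟩ : ∃ v0, ∀ t ∈ bb.orthogonal S, B v0 t = q t := by
    let φ : bb.orthogonal S →ₗ[ZMod 2] ZMod 2 :=
      { toFun := fun t => q t
        map_add' := by
          intro s t
          have : B (s : V) (t : V) = 0 := t.2 _ (hperp s.2)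
          rw [Submodule.coe_add, q_add, this, add_zero]
        map_smul' := by
          intro c t
          rcases z2 c with rfl | rfl
          · simp
          · simp }
    obtain ⟨ψ, hψ⟩ := LinearMap.exists_extend φ
    refine ⟨(bb.toDual bb_nondeg).symm ψ, fun t ht => ?_⟩
    have e4 : bb ((bb.toDual bb_nondeg).symm ψ) t = ψ t :=
      LinearMap.BilinForm.apply_toDual_symm_apply _ _
    have e5 : ψ t = φ ⟨t, ht⟩ := by rw [← hψ]; rfl
    exact e4.trans e5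
  have huS' : u ∈ bb.orthogonal S := by
    intro s hs
    show B s u = 0
    rw [B_comm]; exact ((hS s).1 hs).1
  have hv0u : B u v0 = 0 := by rw [B_comm, hv0 u huS', hu]
  obtain ⟨s0, hs0, c1, c2, c3, hc⟩ := hdec v0 ((hE _).2 hv0u)
  -- generic facts on the two forms
  have zS : ∀ g : V ≃ₗ[ZMod 2] V, g ∈ O8 → g * g = 1 → (∀ s ∈ S, Fx u g s) → ∀ s ∈ S, ∀ z, B u z = 0 →
      B s (g z + z) = 0 := by
    intro g hg hg2 hgS s hs z hz
    rw [symm_form hg hg2]
    exact Fx_B (hgS s hs) hz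
  have lin : ∀ (g : V ≃ₗ[ZMod 2] V) (x1 x2 x3 : ZMod 2) (z : V),
      B (x1 • e1 + x2 • e2 + x3 • e3) z = x1 * B e1 z + x2 * B e2 z + x3 * B e3 z := by
    intro g x1 x2 x3 z
    rw [B_add_left, B_add_left, B_smul_left, B_smul_left, B_smul_left]
  have haS : ∀ s ∈ S, Fx u a s := fun s hs => ((hS s).1 hs).2
  have hbS : ∀ s ∈ S, Fx u b s := fun s hs => h1 s ((hS s).1 hs).1 ((hS s).1 hs).2
  have hvec : ∀ x1 x2 x3 : ZMod 2, B u (x1 • e1 + x2 • e2 + x3 • e3) = 0 := by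
    intro x1 x2 x3
    rw [B_comm, lin a, B_comm e1, B_comm e2, B_comm e3, he1, he2, he3]; simp
  -- characteristic vector conditions
  have char : ∀ g : V ≃ₗ[ZMod 2] V, g ∈ O8 → g * g = 1 → (∀ s ∈ S, Fx u g s) →
      (∀ z, B u z = 0 → g z + z ∈ bb.orthogonal S) → ∀ z, B u z = 0 →
      c1 * B e1 (g z + z) + c2 * B e2 (g z + z) + c3 * B e3 (g z + z) = B z (g z + z) := by
    intro g hg hg2 hgS hgT z hz
    rw [diag_form hg z, ← hv0 _ (hgT z hz), hc, B_add_left, zS g hg hg2 hgS s0 hs0 z hz, zero_add, lin a]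
  -- radical
  have rad : ∀ g : V ≃ₗ[ZMod 2] V, g ∈ O8 → g * g = 1 → (∀ s ∈ S, Fx u g s) → ∀ w, B u w = 0 →
      B w (g e1 + e1) = 0 → B w (g e2 + e2) = 0 → B w (g e3 + e3) = 0 → Fx u g w := by
    intro g hg hg2 hgS w hw k1 k2 k3
    refine Fx_iff.2 (eq_of_perp fun y hy => ?_)
    obtain ⟨s, hs, x1, x2, x3, rfl⟩ := hdec y ((hE _).2 hy)
    rw [B_add_left, zS g hg hg2 hgS s hs w hw, lin a, symm_form hg hg2 e1, symm_form hg hg2 e2,
      symm_form hg hg2 e3, k1, k2, k3]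
    simp
  have Fz : ∀ g : V ≃ₗ[ZMod 2] V, ∀ w, Fx u g w → B u w = 0 → g ∈ O8 → g * g = 1 → ∀ z, B u z = 0 →
      B w (g z + z) = 0 := by
    intro g w hw _ hg hg2 z hz
    rw [symm_form hg hg2]
    exact Fx_B hw hz
  have hab2 : a * b * (a * b) = 1 := by
    rw [show a * b * (a * b) = a * (b * a) * b by group, ← hab,
      show a * (a * b) * b = (a * a) * (b * b) by group, ha2, hb2, one_mul]
  have habO : a * b ∈ O8 := mul_mem ha hb
  have habS : ∀ s ∈ S, Fx u (a * b) s := by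
    intro s hs
    show a (b s) = s ∨ a (b s) = s + u
    rcases haS s hs with e | e <;> rcases hbS s hs with f | f <;> rw [f] <;>
      try rw [map_add, hau]
    · left; exact e
    · right; rw [e]
    · right; exact e
    · left; rw [e, add_assoc, add_self, add_zero]
  -- the third form is the sum
  have sum : ∀ w z, B u w = 0 → B u z = 0 →
      B w ((a * b) z + z) = B w (a z + z) + B w (b z + z) := by
    intro w z hw hz
    have k1 : Fx u a (b z + z) := haS _ (hperp (hTb z hz))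
    have k2 : (a * b) z + z + ((a z + z) + (b z + z)) = a (b z + z) + (b z + z) := by
      show a (b z) + z + ((a z + z) + (b z + z)) = _
      rw [map_add]
      have : a (b z) + z + ((a z + z) + (b z + z)) = a (b z) + a z + (b z + z) + (z + z) := by abel
      rw [this, add_self, add_zero]
    have k3 := Fx_B k1 hw
    rw [← k2, B_add_right, B_add_right w (a z + z)] at k3
    generalize B w ((a * b) z + z) = p1 at *
    generalize B w (a z + z) = p2 at *
    generalize B w (b z + z) = p3 at *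
    revert k3
    revert p1 p2 p3
    decide
  have ev1 : ∀ g : V ≃ₗ[ZMod 2] V, g ∈ O8 → g * g = 1 → ∀ x1 x2 x3 : ZMod 2,
      B (x1 • e1 + x2 • e2 + x3 • e3) (g e1 + e1) =
        x1 * B e1 (g e1 + e1) + x2 * B e1 (g e2 + e2) + x3 * B e1 (g e3 + e3) := by
    intro g hg hg2 x1 x2 x3
    rw [lin g, symm_form hg hg2 e2 e1, symm_form hg hg2 e3 e1]
  have ev2 : ∀ g : V ≃ₗ[ZMod 2] V, g ∈ O8 → g * g = 1 → ∀ x1 x2 x3 : ZMod 2,
      B (x1 • e1 + x2 • e2 + x3 • e3) (g e2 + e2) =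
        x1 * B e1 (g e2 + e2) + x2 * B e2 (g e2 + e2) + x3 * B e2 (g e3 + e3) := by
    intro g hg hg2 x1 x2 x3
    rw [lin g, symm_form hg hg2 e3 e2]
  have ev3 : ∀ g : V ≃ₗ[ZMod 2] V, g ∈ O8 → g * g = 1 → ∀ x1 x2 x3 : ZMod 2,
      B (x1 • e1 + x2 • e2 + x3 • e3) (g e3 + e3) =
        x1 * B e1 (g e3 + e3) + x2 * B e2 (g e3 + e3) + x3 * B e3 (g e3 + e3) := by
    intro g hg hg2 x1 x2 x3
    rw [lin g]
  have concl := bits c1 c2 c3 (B e1 (a e1 + e1)) (B e1 (a e2 + e2)) (B e1 (a e3 + e3))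
    (B e2 (a e2 + e2)) (B e2 (a e3 + e3)) (B e3 (a e3 + e3))
    (by
      have := char a ha ha2 haS hTa e1 he1
      rwa [symm_form ha ha2 e2 e1, symm_form ha ha2 e3 e1] at this)
    (by
      have := char a ha ha2 haS hTa e2 he2
      rwa [symm_form ha ha2 e3 e2] at this)
    (char a ha ha2 haS hTa e3 he3)
    (B e1 (b e1 + e1)) (B e1 (b e2 + e2)) (B e1 (b e3 + e3))
    (B e2 (b e2 + e2)) (B e2 (b e3 + e3)) (B e3 (b e3 + e3))
    (by
      have := char b hb hb2 hbS hTb e1 he1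
      rwa [symm_form hb hb2 e2 e1, symm_form hb hb2 e3 e1] at this)
    (by
      have := char b hb hb2 hbS hTb e2 he2
      rwa [symm_form hb hb2 e3 e2] at this)
    (char b hb hb2 hbS hTb e3 he3)
    (by
      intro x1 x2 x3 k1 k2 k3
      have hw := hvec x1 x2 x3
      have f := h1 _ hw (rad a ha ha2 haS _ hw (by rw [ev1 a ha ha2]; exact k1)
        (by rw [ev2 a ha ha2]; exact k2) (by rw [ev3 a ha ha2]; exact k3))
      exact ⟨by rw [← ev1 b hb hb2]; exact Fz b _ f hw hb hb2 e1 he1,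
        by rw [← ev2 b hb hb2]; exact Fz b _ f hw hb hb2 e2 he2,
        by rw [← ev3 b hb hb2]; exact Fz b _ f hw hb hb2 e3 he3⟩)
    (by
      intro x1 x2 x3 k1 k2 k3
      have hw := hvec x1 x2 x3
      have f := h2 _ hw (rad b hb hb2 hbS _ hw (by rw [ev1 b hb hb2]; exact k1)
        (by rw [ev2 b hb hb2]; exact k2) (by rw [ev3 b hb hb2]; exact k3))
      exact ⟨by rw [← ev1 a ha ha2]; exact Fz a _ f hw ha ha2 e1 he1,
        by rw [← ev2 a ha ha2]; exact Fz a _ f hw ha ha2 e2 he2,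
        by rw [← ev3 a ha ha2]; exact Fz a _ f hw ha ha2 e3 he3⟩)
    (by
      intro x1 x2 x3 k1 k2 k3
      have hw := hvec x1 x2 x3
      have f := h3 _ hw (rad (a * b) habO hab2 habS _ hw
        (by rw [sum _ _ hw he1, ev1 a ha ha2, ev1 b hb hb2, k1, aa])
        (by rw [sum _ _ hw he2, ev2 a ha ha2, ev2 b hb hb2, k2, aa])
        (by rw [sum _ _ hw he3, ev3 a ha ha2, ev3 b hb hb2, k3, aa]))
      exact ⟨by rw [← ev1 a ha ha2]; exact Fz a _ f hw ha ha2 e1 he1,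
        by rw [← ev2 a ha ha2]; exact Fz a _ f hw ha ha2 e2 he2,
        by rw [← ev3 a ha ha2]; exact Fz a _ f hw ha ha2 e3 he3⟩)
  obtain ⟨a1, a2, a3, a4, a5, a6⟩ := concl
  intro y hy
  obtain ⟨s, hs, x1, x2, x3, rfl⟩ := hdec y ((hE _).2 hy)
  have hf : Fx u a (x1 • e1 + x2 • e2 + x3 • e3) :=
    rad a ha ha2 haS _ (hvec x1 x2 x3) (by rw [ev1 a ha ha2, a1, a2, a3]; simp)
      (by rw [ev2 a ha ha2, a2, a4, a5]; simp) (by rw [ev3 a ha ha2, a3, a5, a6]; simp)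
  have := S.add_mem hs ((hS _).2 ⟨hvec x1 x2 x3, hf⟩)
  exact haS _ this

end Cfsg.Agent.StandardComponent.FiRedRank
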