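import Cfsg.Agent.StandardComponent.FiRedLocal
import Cfsg.Agent.StandardComponent.FiRedRank
import Cfsg.Agent.StdAlt.Pairs

/-!
# The local lemma for `Ω₈⁺(2)`, conclusion
-/

set_option autoImplicit false

namespace Cfsg.Agent.StandardComponent.FiRedLocalB

open QuadraticMap Cfsg.Agent.StdO8.Model Cfsg.Agent.StandardComponent.FiRedVec
  Cfsg.Agent.StandardComponent.FiRedLocal Cfsg.Agent.StandardComponent.FiRedRank
  Cfsg.Agent.LieClassical.OrthCore

theorem exists_one_left {u : V} (hu0 : u ≠ 0) : ∃ y, B u y = 1 := by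
  by_contra hcon
  push Not at hcon
  exact hu0 (nondeg fun v => ne_one (hcon v))

/-- an isometry trivial on `u^⊥/u` is some `X u s` -/
theorem exists_eq_X {u : V} (hu : q u = 0) (hu0 : u ≠ 0) {g : V ≃ₗ[ZMod 2] V} (hg : g ∈ O8)
    (hgu : g u = u) (htr : ∀ y, B u y = 0 → Fx u g y) : ∃ s, B u s = 0 ∧ g = X u s := by
  obtain ⟨y1, hy1⟩ := exists_one_left hu0
  set s := g y1 + y1 with hs
  have e1 : g y1 = y1 + s := by rw [hs, add_comm (g y1), ← add_assoc, add_self, zero_add]
  have hus : B u s = 0 := by
    rw [hs, B_add_right]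
    have : B u (g y1) = B u y1 := by
      have := O8_B hg u y1
      rwa [hgu] at this
    rw [this, aa]
  have hqs : B s y1 + q s = 0 := by
    have h1 := O8_q hg y1
    rw [e1, q_add, B_comm y1 s] at h1
    revert h1
    generalize q y1 = x1
    generalize q s = x2
    generalize B s y1 = x3
    revert x1 x2 x3
    decide
  refine ⟨s, hus, ?_⟩
  have h0 : ∀ y, B u y = 0 → g y = X u s y := by
    intro y hy
    rw [X_one_left0 hu hus hy]
    have h1 := O8_B hg y y1
    have huy : B y u = 0 := by rw [B_comm]; exact hy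
    rcases htr y hy with h | h
    · rw [h, e1, B_add_right] at h1
      have : B s y = 0 := by
        rw [B_comm]
        revert h1
        generalize B y y1 = x1
        generalize B y s = x2
        revert x1 x2
        decide
      rw [h, this, zero_smul, add_zero]
    · rw [h, e1] at h1
      simp only [B_add_left, B_add_right y y1 s, B_add_right u y1 s, hy1, hus] at h1
      have : B s y = 1 := by
        rw [B_comm]
        revert h1
        generalize B y y1 = x1
        generalize B y s = x2
        revert x1 x2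
        decide
      rw [h, this, one_smul]
  ext v : 1
  rcases z2 (B u v) with h | h
  · exact h0 v h
  · have h2 : B u (v + y1) = 0 := by rw [B_add_right, h, hy1]; decide
    have h3 := h0 _ h2
    rw [map_add, map_add] at h3
    have h4 : X u s y1 = g y1 := by
      rw [X_one_left hu hus hy1, hqs, zero_smul, add_zero, e1]
    rw [h4] at h3
    exact add_right_cancel h3

/-- the reflection in `p`, `q p = 1` -/
noncomputable def rf (p : V) : V ≃ₗ[ZMod 2] V := if h : q p ≠ 0 then refl q p h else 1

theorem rf_eq {p : V} (h : q p ≠ 0) : rf p = refl q p h := dif_pos h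

theorem rf_apply {p : V} (h : q p = 1) (v : V) : rf p v = v + B p v • p := by
  have h' : q p ≠ 0 := by rw [h]; decide
  rw [rf_eq h', refl_apply, sub_eq, h, inv_one, one_mul]

theorem rf_mem {p : V} (h : q p = 1) : rf p ∈ O8 := by
  have h' : q p ≠ 0 := by rw [h]; decide
  rw [rf_eq h']
  exact refl_mem_O h'

theorem rf_mul_self {p : V} (h : q p = 1) : rf p * rf p = 1 := by
  have h' : q p ≠ 0 := by rw [h]; decide
  rw [rf_eq h']
  exact refl_mul_self h'

theorem rf_inv {p : V} (h : q p = 1) : (rf p)⁻¹ = rf p := inv_eq_of_mul_eq_one_left (rf_mul_self h)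

theorem rf_conj {g : V ≃ₗ[ZMod 2] V} (hg : g ∈ O8) {p : V} (h : q p = 1) :
    g * rf p * g⁻¹ = rf (g p) := by
  have h' : q p ≠ 0 := by rw [h]; decide
  have h'' : q (g p) ≠ 0 := by rw [O8_q hg]; exact h'
  rw [rf_eq h', rf_eq h'']
  exact refl_conj hg h' h''

theorem rf_ne_one {p : V} (h : q p = 1) : rf p ≠ 1 := by
  intro e
  have hp0 : p ≠ 0 := by
    rintro rfl
    rw [q_zero] at h
    exact absurd h (by decide)
  obtain ⟨v, hv⟩ := exists_one_left hp0
  have h1 : rf p v = v := by rw [e]; rfl
  rw [rf_apply h, hv, one_smul] at h1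
  exact hp0 (left_eq_add.1 h1.symm)

/-- the product with a reflection -/
theorem rf_mul_X {u p : V} (hu : q u = 0) (hp : q p = 1) (hup : B u p = 0) :
    rf p * X u p = rf (p + u) := by
  have hpu : B p u = 0 := by rw [B_comm]; exact hup
  have hq : q (p + u) = 1 := by rw [q_add, hp, hu, hpu]; decide
  ext v : 1
  show rf p (X u p v) = rf (p + u) v
  rw [rf_apply hp, rf_apply hq, X_gen hu hup, hp, one_mul, B_add_left]
  simp only [B_add_right, B_smul_right, B_self, hpu]
  funext i
  simp only [Pi.add_apply, Pi.smul_apply, smul_eq_mul]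
  generalize v i = x1
  generalize u i = x2
  generalize p i = x3
  generalize B u v = x5
  generalize B p v = x7
  clear * -
  revert x1 x2 x3 x5 x7
  decide

/-- three c₂-elements -/
theorem three {u b p : V} (hu : q u = 0) (hb : q b = 0) (hub : B u b = 0) (hp : q p = 1)
    (hup : B u p = 0) (hbp : B b p = 0) : X u p * X b p * X (u + b) p = X u b := by
  have hq : q (u + b) = 0 := by rw [q_add, hu, hb, hub]; decide
  have hubp : B (u + b) p = 0 := by rw [B_add_left, hup, hbp, add_zero]
  have hpu : B p u = 0 := by rw [B_comm]; exact hup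
  have hpb : B p b = 0 := by rw [B_comm]; exact hbp
  have hbu : B b u = 0 := by rw [B_comm]; exact hub
  ext v : 1
  show X u p (X b p (X (u + b) p v)) = X u b v
  rw [X_gen hq hubp v, hp, one_mul]
  set v1 := v + B (u + b) v • p + B p v • (u + b) + B (u + b) v • (u + b) with hv1
  have k1 : B b v1 = B b v := by
    rw [hv1]
    simp only [B_add_right, B_smul_right, hbp, hbu, B_self]
    simp
  have k2 : B p v1 = B p v := by
    rw [hv1]
    simp only [B_add_right, B_smul_right, hpu, hpb, B_self]
    simp
  have k3 : B u v1 = B u v := by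
    rw [hv1]
    simp only [B_add_right, B_smul_right, hup, hub, B_self]
    simp
  rw [X_gen hb hbp v1, hp, one_mul, k1, k2]
  set v2 := v1 + B b v • p + B p v • b + B b v • b with hv2
  have k4 : B u v2 = B u v := by
    rw [hv2]
    simp only [B_add_right, B_smul_right, hup, hub, k3]
    simp
  have k5 : B p v2 = B p v := by
    rw [hv2]
    simp only [B_add_right, B_smul_right, hpb, B_self, k2]
    simp
  rw [X_gen hu hup v2, hp, one_mul, k4, k5, X_gen hu hub v, hb, zero_mul, zero_smul, add_zero, hv2, hv1,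
    B_add_left]
  funext i
  simp only [Pi.add_apply, Pi.smul_apply, smul_eq_mul]
  generalize v i = x1
  generalize u i = x2
  generalize b i = x3
  generalize p i = x4
  generalize B u v = x5
  generalize B b v = x6
  generalize B p v = x7
  clear_value v1 v2
  clear * -
  revert x1 x2 x3 x4 x5 x6 x7
  decide

section

variable {J D : Subgroup (V ≃ₗ[ZMod 2] V)}

theorem all_of_moved (h : H8 J D) {u m s : V} (hu : q u = 0) (hu0 : u ≠ 0)
    (hs0 : s ≠ 0) (hsu : s ≠ u) (hsm : s ≠ m) (hsum : s ≠ u + m)
    (key : ∀ a c, q a = 0 → B u a = 0 → B m a = 0 → B s a = 1 → B u c = 0 → B m c = 0 → B a c = 0 →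
      X u (c + (B c s + q c) • a) ∈ J) : ∀ y, B u y = 0 → X u y ∈ J := by
  obtain ⟨a, haq, hua, hma, hsa⟩ := exists_sing hs0 hsu hsm hsum
  obtain ⟨c, c', ⟨c1, c2, c3⟩, ⟨d1, d2, d3⟩, hcc⟩ := exists_pair3 u m a
  have k1 := key a c haq hua hma hsa c1 c2 c3
  have k2 := key a c' haq hua hma hsa d1 d2 d3
  have e1 := moved_u hua c1 (B c s + q c)
  have e2 := moved_u hua d1 (B c' s + q c')
  have e3 := moved_B c3 d3 (B c s + q c) (B c' s + q c')
  rw [hcc] at e3
  generalize c + (B c s + q c) • a = m1 at *
  generalize c' + (B c' s + q c') • a = m2 at *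
  refine all_of_two h hu hu0 e1 ?_ ?_ e2 ?_ ?_ ?_ ?_ k1 k2
  · rintro rfl; rw [B_zero_left] at e3; exact absurd e3 (by decide)
  · rintro rfl; rw [e2] at e3; exact absurd e3 (by decide)
  · rintro rfl; rw [B_zero_right] at e3; exact absurd e3 (by decide)
  · rintro rfl; rw [B_comm, e1] at e3; exact absurd e3 (by decide)
  · rintro rfl; rw [B_self] at e3; exact absurd e3 (by decide)
  · rintro rfl; rw [B_add_right, B_self, B_comm, e1] at e3; exact absurd e3 (by decide)

/-- the case of a reflection in `D` -/
theorem all_of_refl (h : H8 J D) {u p : V} (hu : q u = 0) (hu0 : u ≠ 0) (hp : q p = 1)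
    (hup : B u p = 0) (hr : rf p ∈ D) (hc : X u p ∈ J) :
    ∀ y, B u y = 0 → X u y ∈ J := by
  have hp0 : p ≠ 0 := by
    rintro rfl
    rw [q_zero] at hp
    exact absurd hp (by decide)
  have hpu : B p u = 0 := by rw [B_comm]; exact hup
  have hpne : p ≠ u := by
    rintro rfl
    rw [hu] at hp
    exact absurd hp (by decide)
  have hr1 := rf_ne_one hp
  have key : ∀ b, q b = 0 → B u b = 0 → B p b = 0 → b ≠ 0 → b ≠ u → X b (p + u) ∈ J := by
    intro b hb hub hpb hb0 hbu
    obtain ⟨y, hy1, hy2, hy3⟩ := exists_perp (u := b) (m := p) (s := u) hu0 hbu.symm hpne.symm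
      (by
        intro e
        have : q (b + p) = 1 := by rw [q_add, hb, hp, B_comm, hpb]; decide
        rw [← e, hu] at this
        exact absurd this (by decide))
    have hx := X_mem_O8 b y
    have hxp : X b y p = p := X_fix hb hy1 (by rw [B_comm]; exact hpb) (by rw [B_comm]; exact hy2)
    have hcomm : X b y * rf p = rf p * X b y := by
      have := rf_conj hx hp
      rwa [hxp, mul_inv_eq_iff_eq_mul] at this
    have h3 := h.com _ hr hr1 (rf_mul_self hp) (X b y) (X_mem b y) hcomm (X u p) (h.JD hc)
    have h4 : X b y * X u p * (X b y)⁻¹ * (X u p)⁻¹ = X b y * (X u p * X b y * (X u p)⁻¹) := by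
      rw [X_inv b y]; group
    have e1 : X u p b = b := X_fix hu hup hub hpb
    have e2 : X u p y = y + (p + u) := by
      rw [X_one_left hu hup hy3, hy2, hp, zero_add, one_smul, add_assoc]
    have hbpu : B b (p + u) = 0 := by
      rw [B_add_right, B_comm b p, hpb, B_comm b u, hub, add_zero]
    rw [h4, X_conj (X_mem_O8 u p), e1, e2, X_mul hb hy1 (by rw [B_add_right, hy1, hbpu, add_zero]),
      add_self_add] at h3
    exact h3
  obtain ⟨c, c', ⟨c1, c2, -⟩, ⟨d1, d2, -⟩, hcc, hcq⟩ := exists_pair3_sing u p p hp hup (B_self p)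
  have hc0 : c ≠ 0 := by
    rintro rfl
    rw [B_zero_left] at hcc
    exact absurd hcc (by decide)
  have hcu : c ≠ u := by
    rintro rfl
    rw [d1] at hcc
    exact absurd hcc (by decide)
  have k1 := key c hcq c1 c2 hc0 hcu
  have k2 := key (u + c) (by rw [q_add, hu, hcq, c1]; decide) (by rw [B_add_right, B_self, c1, add_zero])
    (by rw [B_add_right, hpu, c2, add_zero]) (fun e => hcu (eq_of_add_eq_zero e).symm)
    (fun e => hc0 (by
      have e' : u + (u + c) = u + u := by rw [e]
      rwa [add_self_add, add_self] at e'))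
  have k3 : X u (p + u) ∈ J := by rw [X_add_right hu]; exact hc
  have e1 : q (p + u) = 1 := by rw [q_add, hp, hu, hpu]; decide
  have e2 : B u (p + u) = 0 := by rw [B_add_right, hup, B_self, add_zero]
  have e3 : B c (p + u) = 0 := by rw [B_add_right, B_comm c p, c2, B_comm c u, c1, add_zero]
  have k4 := J.mul_mem (J.mul_mem k3 k1) k2
  rw [three hu hcq c1 e1 e2 e3] at k4
  refine all_of_two h hu hu0 hup hp0 hpne c1 hc0 hcu ?_ ?_ hc k4
  · rintro rfl
    rw [hp] at hcq
    exact absurd hcq (by decide)
  · rintro rfl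
    rw [q_add, hu, hp, hup] at hcq
    exact absurd hcq (by decide)

/-- `[x, X u s] = X u (s + x s)` -/
theorem comm_X_X {u s : V} {x : V ≃ₗ[ZMod 2] V} (hu : q u = 0) (hs : B u s = 0) (hx : x ∈ O8)
    (hxu : x u = u) : x * X u s * x⁻¹ * (X u s)⁻¹ = X u (s + x s) := by
  have h1 : B u (x s) = 0 := by
    have := O8_B hx u s
    rwa [hxu, hs] at this
  rw [X_conj hx, hxu, X_inv, X_mul hu h1 hs, add_comm]

/-- the second case: `β` acts as a reflection -/
theorem all_of_rfX (h : H8 J D) {u p s : V} (hu : q u = 0) (hu0 : u ≠ 0) (hp : q p = 1)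
    (hup : B u p = 0) (hs : B u s = 0) (hβ : rf p * X u s ∈ D) (hc : X u p ∈ J) :
    ∀ y, B u y = 0 → X u y ∈ J := by
  have hp0 : p ≠ 0 := by
    rintro rfl
    rw [q_zero] at hp
    exact absurd hp (by decide)
  have hpu : B p u = 0 := by rw [B_comm]; exact hup
  have hpne : p ≠ u := by
    rintro rfl
    rw [hu] at hp
    exact absurd hp (by decide)
  have hp' : q (p + u) = 1 := by rw [q_add, hp, hu, hpu]; decide
  by_cases h0 : s = 0
  · rw [h0, X_zero_right, mul_one] at hβ
    exact all_of_refl h hu hu0 hp hup hβ hc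
  by_cases h1 : s = u
  · rw [h1, X_self hu, mul_one] at hβ
    exact all_of_refl h hu hu0 hp hup hβ hc
  have hc' : X u (p + u) ∈ J := by rw [X_add_right hu]; exact hc
  have hup' : B u (p + u) = 0 := by rw [B_add_right, hup, B_self, add_zero]
  by_cases h2 : s = p
  · rw [h2, rf_mul_X hu hp hup] at hβ
    exact all_of_refl h hu hu0 hp' hup' hβ hc'
  by_cases h3 : s = u + p
  · rw [h3, X_add_left hu, rf_mul_X hu hp hup] at hβ
    exact all_of_refl h hu hu0 hp' hup' hβ hc'
  refine all_of_moved h hu hu0 h0 h1 h2 h3 ?_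
  intro a c haq hua hpa hsa huc hpc hac
  have hau : B a u = 0 := by rw [B_comm]; exact hua
  have hcu : B c u = 0 := by rw [B_comm]; exact huc
  have gu : X a c u = u := X_fix haq hac hau hcu
  have gp : X a c p = p := X_fix haq hac (by rw [B_comm]; exact hpa) (by rw [B_comm]; exact hpc)
  have hx := X_mem_O8 a c
  have h4 := h.com _ (h.JD hc) (X_ne_one hu hu0 hup hp0 hpne) (X_mul_self u p) (X a c) (X_mem a c)
    (comm_X hx hu gu (Or.inl gp)) _ hβ
  have h5 : X a c * rf p * (X a c)⁻¹ = rf p := by rw [rf_conj hx hp, gp]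
  have h6 : X a c * (rf p * X u s) * (X a c)⁻¹ * (rf p * X u s)⁻¹ =
      (X a c * rf p * (X a c)⁻¹) * (X a c * X u s * (X a c)⁻¹ * (X u s)⁻¹) * (rf p)⁻¹ := by group
  have h7 : X a c s = s + (c + (B c s + q c) • a) := by
    rw [X_one_left haq hac (by rw [B_comm]; exact hsa), add_assoc]
  rw [h6, h5, comm_X_X hu hs hx gu, h7, add_self_add, X_conj (rf_mem hp), rf_apply hp, hpu, zero_smul,
    add_zero, rf_apply hp, moved_u hpa hpc, zero_smul, add_zero] at h4
  exact h4

/-- an element of `D` inside `Q_u` and another element of `D` fixing `u` -/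
theorem all_of_Q (h : H8 J D) {u m : V} (hu : q u = 0) (hu0 : u ≠ 0) (hm : B u m = 0)
    (hm0 : m ≠ 0) (hmu : m ≠ u) (ha : X u m ∈ D) {β : V ≃ₗ[ZMod 2] V} (hβ : β ∈ D) (hβu : β u = u)
    (hβ1 : β ≠ 1) (hβa : β ≠ X u m) : ∀ y, B u y = 0 → X u y ∈ J := by
  have ha1 := X_ne_one hu hu0 hm hm0 hmu
  have hβO := h.DO hβ
  have hay : ∀ y, B u y = 0 → (X u m y = y ∨ X u m y = y + u) := by
    intro y hy
    rw [X_one_left0 hu hm hy]
    rcases z2 (B m y) with e | e <;> rw [e]
    · left; simp
    · right; simp
  have hau : X u m u = u := X_fix hu hm (B_self u) (by rw [B_comm]; exact hm)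
  have hab : ∀ y, B u y = 0 → X u (y + β y) ∈ J := fun y hy =>
    absorb h ha ha1 (X_mul_self u m) hu hau hy (hay y hy) hβ hβu
  have hβB : ∀ y, B u y = 0 → B u (β y) = 0 := by
    intro y hy
    have := O8_B hβO u y
    rwa [hβu, hy] at this
  by_cases htr : ∀ y, B u y = 0 → Fx u β y
  · -- `β ∈ Q_u`
    obtain ⟨s, hs, rfl⟩ := exists_eq_X hu hu0 hβO hβu htr
    have h0 : s ≠ 0 := by
      rintro rfl
      exact hβ1 (X_zero_right u)
    have h1 : s ≠ u := by
      rintro rfl
      exact hβ1 (X_self hu)
    refine all_of_moved h hu hu0 h0 h1 (m := m) (fun e => hβa (by rw [e]))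
      (fun e => hβa (by rw [e, X_add_left hu])) ?_
    intro a c haq hua hma hsa huc hmc hac
    have gu : X a c u = u := X_fix haq hac (by rw [B_comm]; exact hua) (by rw [B_comm]; exact huc)
    have gm : X a c m = m := X_fix haq hac (by rw [B_comm]; exact hma) (by rw [B_comm]; exact hmc)
    have hx := X_mem_O8 a c
    have h4 := h.com _ ha ha1 (X_mul_self u m) (X a c) (X_mem a c) (comm_X hx hu gu (Or.inl gm)) _ hβ
    have h7 : X a c s = s + (c + (B c s + q c) • a) := by
      rw [X_one_left haq hac (by rw [B_comm]; exact hsa), add_assoc]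
    rwa [comm_X_X hu hs hx gu, h7, add_self_add] at h4
  · push Not at htr
    obtain ⟨y0, hy0, hF0⟩ := htr
    set p := y0 + β y0 with hp
    have hup : B u p = 0 := by rw [hp, B_add_right, hy0, hβB y0 hy0, add_zero]
    have hp0 : p ≠ 0 := fun e => hF0 (Or.inl (eq_of_add_eq_zero e).symm)
    have hpu : p ≠ u := by
      intro e
      apply hF0
      right
      rw [← e, hp, add_self_add]
    have hpJ : X u p ∈ J := hab y0 hy0
    by_cases hex : ∃ y1, B u y1 = 0 ∧ y1 + β y1 ≠ 0 ∧ y1 + β y1 ≠ u ∧ y1 + β y1 ≠ p ∧ y1 + β y1 ≠ u + p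
    · obtain ⟨y1, hy1, k0, k1, k2, k3⟩ := hex
      exact all_of_two h hu hu0 hup hp0 hpu (by rw [B_add_right, hy1, hβB y1 hy1, add_zero]) k0 k1 k2 k3
        hpJ (hab y1 hy1)
    push Not at hex
    -- `β y = y + λ(y) p` modulo `u`
    have hcase : ∀ y, B u y = 0 → (y + β y = 0 ∨ y + β y = u) ∨ (y + β y = p ∨ y + β y = u + p) := by
      intro y hy
      by_cases k0 : y + β y = 0
      · exact Or.inl (Or.inl k0)
      by_cases k1 : y + β y = u
      · exact Or.inl (Or.inr k1)
      by_cases k2 : y + β y = p
      · exact Or.inr (Or.inl k2)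
      exact Or.inr (Or.inr (hex y hy k0 k1 k2))
    have hpu' : B p u = 0 := by rw [B_comm]; exact hup
    have hβy : ∀ y, β y = y + (y + β y) := fun y => (add_self_add _ _).symm
    have h2 : ∀ y, B u y = 0 → (y + β y = p ∨ y + β y = u + p) → B p y = q p := by
      intro y hy hc
      have e1 : q (β y) = q y := O8_q hβO y
      have hyu : B y u = 0 := by rw [B_comm]; exact hy
      rw [hβy y] at e1
      rcases hc with hc | hc
      · rw [hc, q_add, B_comm] at e1
        revert e1
        generalize q y = x1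
        generalize q p = x2
        generalize B p y = x3
        revert x1 x2 x3
        decide
      · rw [hc, q_add, q_add u p, hu, hup, B_add_right, hyu, B_comm y p] at e1
        revert e1
        generalize q y = x1
        generalize q p = x2
        generalize B p y = x3
        revert x1 x2 x3
        decide
    have h2' : ∀ y, B u y = 0 → (y + β y = 0 ∨ y + β y = u) → B p y = 0 := by
      intro y hy hc
      have hadd : y + y0 + β (y + y0) = (y + β y) + p := by
        rw [map_add, hp]; abel
      have k1 : B u (y + y0) = 0 := by rw [B_add_right, hy, hy0, add_zero]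
      have k2 : y + y0 + β (y + y0) = p ∨ y + y0 + β (y + y0) = u + p := by
        rw [hadd]
        rcases hc with hc | hc
        · left; rw [hc, zero_add]
        · right; rw [hc]
      have k3 := h2 _ k1 k2
      have k4 := h2 y0 hy0 (Or.inl rfl)
      rw [B_add_right, k4] at k3
      exact right_eq_add.1 k3.symm
    have hqp : q p = 1 := by
      by_contra hne
      have hq0 := ne_one hne
      have : ∀ y, B u y = 0 → B y p = 0 := by
        intro y hy
        rw [B_comm]
        rcases hcase y hy with hc | hc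
        · exact h2' y hy hc
        · rw [h2 y hy hc, hq0]
      rcases eq_of_perp this with e | e
      · exact hp0 e
      · exact hpu e
    have hrfp : rf p p = p := by rw [rf_apply hqp, B_self, zero_smul, add_zero]
    have hrfu : rf p u = u := by rw [rf_apply hqp, hpu', zero_smul, add_zero]
    obtain ⟨s, hs, hγ⟩ := exists_eq_X (g := rf p * β) hu hu0 (mul_mem (rf_mem hqp) hβO)
      (by show rf p (β u) = u; rw [hβu, hrfu])
      (by
        intro y hy
        show rf p (β y) = y ∨ rf p (β y) = y + u
        rcases hcase y hy with hc | hc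
        · have k := h2' y hy hc
          have e : rf p y = y := by rw [rf_apply hqp, k, zero_smul, add_zero]
          rcases hc with hc | hc
          · left; rw [hβy y, hc, map_add, e, map_zero, add_zero]
          · right; rw [hβy y, hc, map_add, e, hrfu]
        · have k := h2 y hy hc
          have e : rf p y = y + p := by rw [rf_apply hqp, k, hqp, one_smul]
          rcases hc with hc | hc
          · left; rw [hβy y, hc, map_add, e, hrfp, add_add_self]
          · right; rw [hβy y, hc, map_add, map_add, e, hrfu, hrfp, add_assoc, add_comm p, add_add_self])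
    have hβeq : β = rf p * X u s := by
      rw [← hγ, ← mul_assoc, rf_mul_self hqp, one_mul]
    rw [hβeq] at hβ
    exact all_of_rfX h hu hu0 hqp hup hs hβ hpJ

end

end Cfsg.Agent.StandardComponent.FiRedLocalB
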