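import Cfsg.Agent.StandardComponent.SpTwoFour

/-!
# Subgroups `J ≤ B` of `Sp_6(2)` with `[C(a), B] ≤ J` for the involutions `a` of `B`

If `4 ∣ |B|` then `J` is the whole group, or `J = B` is the four-group generated by the products of two
transvections of a totally isotropic line.
-/

set_option autoImplicit false
set_option linter.unusedSectionVars false
set_option linter.unusedSimpArgs false

namespace Cfsg.Agent.StandardComponent.FiRedSp

open Cfsg.Agent.StandardComponent.SpTwo
open Cfsg.Agent.StandardComponent.SpTwo.SpData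
open Cfsg.Agent.StandardComponent.SpTwoFour

variable {X V : Type*} [Group X] [AddCommGroup V] [Module (ZMod 2) V] (D : SpData X V)

/-- The hypothesis on `J ≤ B`. -/
structure Hyp (J B : Subgroup X) : Prop where
  le : J ≤ B
  com : ∀ a ∈ B, a ≠ 1 → a * a = 1 → ∀ x, x * a = a * x → ∀ β ∈ B, x * β * x⁻¹ * β⁻¹ ∈ J

/-- The transvection of `z` normalizes `J`. -/
def NJ (J : Subgroup X) (z : V) : Prop := ∀ j ∈ J, D.τ z * j * D.τ z ∈ J

/-- The relation `a ≈ b`. -/
def R (J : Subgroup X) (a b : V) : Prop := D.τ a * D.τ b ∈ J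

variable {D} {J B : Subgroup X}

theorem R_refl (a : V) : R D J a a := by
  unfold R; rw [D.τ_sq]; exact J.one_mem

theorem R_symm {a b : V} (h : R D J a b) : R D J b a := by
  unfold R at *
  have := J.inv_mem h
  rwa [mul_inv_rev, D.τ_inv, D.τ_inv] at this

theorem R_trans {a b c : V} (h : R D J a b) (h' : R D J b c) : R D J a c := by
  unfold R at *
  have := J.mul_mem h h'
  rwa [show D.τ a * D.τ b * (D.τ b * D.τ c) = D.τ a * (D.τ b * D.τ b) * D.τ c by group, D.τ_sq,
    mul_one] at this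

theorem τ_fix {z a : V} (h : D.B a z = 0) : D.ρ (D.τ z) a = a := by
  rw [D.hτ, h, zero_smul, add_zero]

theorem τ_move {z a : V} (h : D.B a z = 1) : D.ρ (D.τ z) a = a + z := by
  rw [D.hτ, h, one_smul]

theorem R_conj {g : X} (hg : ∀ j ∈ J, g * j * g⁻¹ ∈ J) {a b : V} (h : R D J a b) :
    R D J (D.ρ g a) (D.ρ g b) := by
  unfold R at *
  rw [← D.conj_τ g a, ← D.conj_τ g b,
    show g * D.τ a * g⁻¹ * (g * D.τ b * g⁻¹) = g * (D.τ a * D.τ b) * g⁻¹ by group]
  exact hg _ h

theorem NJ_conj {z : V} (hz : NJ D J z) : ∀ j ∈ J, D.τ z * j * (D.τ z)⁻¹ ∈ J := by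
  intro j hj
  rw [D.τ_inv]; exact hz j hj

theorem R_move {z : V} (hz : NJ D J z) {j : X} (hj : j ∈ J) : R D J z (D.ρ j z) := by
  unfold R
  have h1 := J.mul_mem (hz j hj) (J.inv_mem hj)
  rwa [show D.τ z * j * D.τ z * j⁻¹ = D.τ z * (j * D.τ z * j⁻¹) by group, D.conj_τ] at h1

/-- **rule 4** -/
theorem R_of {z a b : V} (hz : NJ D J z) (h : R D J a b) (ha : D.B z a = 0) (hb : D.B z b = 1) :
    R D J z b := by
  have h1 := R_conj (NJ_conj hz) h
  rw [τ_fix (by rw [D.symm]; exact ha), τ_move (by rw [D.symm]; exact hb)] at h1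
  have h2 := R_move hz (R_symm h)
  have h3 : D.ρ (D.τ b * D.τ a) z = b + z := by
    rw [D.ττ, ha, hb, zero_smul, zero_mul, add_zero, add_zero, one_smul, add_comm]
  unfold R at h2 h
  rw [h3] at h2
  exact R_trans h2 (R_trans (R_symm h1) h)

theorem exists_comm (hJ : Hyp J B) {i : X} (hi : i ∈ B) (hi1 : i ≠ 1) (hii : i * i = 1) {h : X}
    (hc : h * i = i * h) : ∀ j ∈ J, h * j * h⁻¹ ∈ J := by
  intro j hj
  have h1 := J.mul_mem (hJ.com i hi hi1 hii h hc j (hJ.le hj)) hj
  rwa [inv_mul_cancel_right] at h1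

/-- **rule 0** -/
theorem fix_rule (hJ : Hyp J B) {i : X} (hi : i ∈ B) (hi1 : i ≠ 1) (hii : i * i = 1) {y : V}
    (hy : D.ρ i y = y) : NJ D J y ∧ ∀ β ∈ B, R D J y (D.ρ β y) := by
  have hc := (D.τ_commute_of_fix hy).eq
  refine ⟨fun j hj => ?_, fun β hβ => ?_⟩
  · have := exists_comm hJ hi hi1 hii hc j hj
    rwa [D.τ_inv] at this
  · have h1 := hJ.com i hi hi1 hii _ hc β hβ
    unfold R
    rwa [D.τ_inv, show D.τ y * β * D.τ y * β⁻¹ = D.τ y * (β * D.τ y * β⁻¹) by group,
      D.conj_τ] at h1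

theorem ττ_ne {a b : V} (hab : a ≠ b) : D.τ a * D.τ b ≠ 1 := by
  intro h
  apply hab
  apply D.τ_injective
  rw [← D.τ_inv b]
  exact eq_inv_of_mul_eq_one_left h

theorem ττ_sq {a b : V} (hab : D.B a b = 0) : D.τ a * D.τ b * (D.τ a * D.τ b) = 1 := by
  rw [show D.τ a * D.τ b * (D.τ a * D.τ b) = D.τ a * (D.τ b * D.τ a) * D.τ b by group,
    ← D.τ_commute hab, show D.τ a * (D.τ a * D.τ b) * D.τ b = (D.τ a * D.τ a) * (D.τ b * D.τ b) by group,
    D.τ_sq, D.τ_sq, mul_one]

theorem ττ_fix {a b y : V} (ha : D.B y a = 0) (hb : D.B y b = 0) :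
    D.ρ (D.τ a * D.τ b) y = y := by
  rw [D.ττ, ha, hb]; simp

/-- **rule 1** -/
theorem pair_rule (hJ : Hyp J B) {a b : V} (h : R D J a b) (hab : a ≠ b) (h0 : D.B a b = 0) {y : V}
    (ha : D.B y a = 0) (hb : D.B y b = 0) : NJ D J y ∧ ∀ β ∈ B, R D J y (D.ρ β y) :=
  fix_rule hJ (hJ.le h) (ττ_ne hab) (ττ_sq h0) (ττ_fix ha hb)

/-! ### linear algebra -/

variable [Finite V]

theorem exists_sep_three {p q s r : V} (h0 : r ≠ 0) (h1 : r ≠ p) (h2 : r ≠ q) (h3 : r ≠ p + q)
    (h4 : r ≠ s) (h5 : r ≠ p + s) (h6 : r ≠ q + s) (h7 : r ≠ p + q + s) (D : SpData X V) :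
    ∃ v, D.B v p = 0 ∧ D.B v q = 0 ∧ D.B v s = 0 ∧ D.B v r = 1 := by
  have : r ∉ Submodule.span (ZMod 2) {p, q, s} := by
    intro h
    obtain ⟨a, b, c, habc⟩ := Submodule.mem_span_triple.1 h
    rcases z2 a with rfl | rfl <;> rcases z2 b with rfl | rfl <;> rcases z2 c with rfl | rfl <;>
      simp only [zero_smul, one_smul, zero_add, add_zero] at habc
    · exact h0 habc.symm
    · exact h4 habc.symm
    · exact h2 habc.symm
    · exact h6 habc.symm
    · exact h1 habc.symm
    · exact h5 habc.symm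
    · exact h3 habc.symm
    · exact h7 habc.symm
  obtain ⟨v, hv1, hv2⟩ := exists_sep_sub D this
  exact ⟨v, hv1 _ (Submodule.subset_span (by simp)), hv1 _ (Submodule.subset_span (by simp)),
    hv1 _ (Submodule.subset_span (by simp)), hv2⟩

theorem B_add (D : SpData X V) (u v w : V) : D.B u (v + w) = D.B u v + D.B u w := map_add _ _ _

theorem B_add' (D : SpData X V) (u v w : V) : D.B (u + v) w = D.B u w + D.B v w := by
  rw [map_add, LinearMap.add_apply]

/-- a vector with prescribed values on two independent vectors -/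
theorem exists_one_one {a b : V} (ha : a ≠ 0) (hb : b ≠ 0) (hab : a ≠ b) (D : SpData X V) :
    ∃ r, D.B r a = 1 ∧ D.B r b = 1 := by
  obtain ⟨v, hv1, hv2⟩ := D.exists_sep ha hab
  obtain ⟨w, hw1, hw2⟩ := D.exists_sep hb (Ne.symm hab)
  exact ⟨v + w, by rw [B_add', hv1, hw2, add_zero], by rw [B_add', hv2, hw1, zero_add]⟩

/-- few vectors do not exhaust the space orthogonal to three vectors -/
theorem exists_avoid (hV : Nat.card V = 64) (D : SpData X V) (a b c : V) (L : Finset V)
    (hL : L.card < 8) : ∃ z, z ∉ L ∧ D.B z a = 0 ∧ D.B z b = 0 ∧ D.B z c = 0 := by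
  classical
  have := Fintype.ofFinite V
  let f : V →ₗ[ZMod 2] (Fin 3 → ZMod 2) :=
    { toFun := fun z => ![D.B z a, D.B z b, D.B z c]
      map_add' := by
        intro u v
        ext i
        fin_cases i <;> simp
      map_smul' := by
        intro u v
        ext i
        fin_cases i <;> simp }
  have h1 := card_ker_mul f
  have h2 : Nat.card (LinearMap.range f) ≤ 8 := by
    refine (Nat.card_le_card_of_injective _ (LinearMap.range f).injective_subtype).trans ?_
    rw [Nat.card_eq_fintype_card, Fintype.card_fun, ZMod.card, Fintype.card_fin]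
    norm_num
  rw [hV] at h1
  have h3 : 8 ≤ Nat.card (LinearMap.ker f) := by
    by_contra h
    push Not at h
    have : Nat.card (LinearMap.ker f) * Nat.card (LinearMap.range f) ≤ 7 * 8 :=
      Nat.mul_le_mul (by omega) h2
    omega
  by_contra hcon
  push Not at hcon
  have h4 : ((LinearMap.ker f : Submodule (ZMod 2) V) : Set V) ⊆ (L : Set V) := by
    intro z hz
    by_contra hzL
    have hz' : f z = 0 := hz
    have e0 := congrFun hz' 0
    have e1 := congrFun hz' 1
    have e2 := congrFun hz' 2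
    exact hcon z hzL e0 e1 e2
  have h5 := Set.ncard_le_ncard h4 (Set.toFinite _)
  rw [Set.ncard_coe_finset, ← Nat.card_coe_set_eq] at h5
  have h6 : Nat.card (LinearMap.ker f) ≤ L.card := h5
  omega

/-! ### a class which is not contained in a line -/

theorem exists_perp_pair (a b w : V) (D : SpData X V) :
    ∃ v, (v = a ∨ v = b ∨ v = a + b) ∧ D.B w v = 0 := by
  rcases z2 (D.B w a) with h1 | h1
  · exact ⟨a, Or.inl rfl, h1⟩
  · rcases z2 (D.B w b) with h2 | h2
    · exact ⟨b, Or.inr (Or.inl rfl), h2⟩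
    · exact ⟨a + b, Or.inr (Or.inr rfl), by rw [B_add, h1, h2]; decide⟩

theorem claimA (hV : Nat.card V = 64) (hJ : Hyp J B) {a b e : V} (ha : a ≠ 0) (hb : b ≠ 0)
    (hab : a ≠ b) (h0 : D.B a b = 0) (hR : R D J a b) (he : R D J a e)
    (hne : ¬ (D.B e a = 0 ∧ D.B e b = 0)) (w : V) : NJ D J w := by
  classical
  have h0' : D.B b a = 0 := by rw [D.symm]; exact h0
  have pr : ∀ z, D.B z a = 0 → D.B z b = 0 → NJ D J z := fun z h1 h2 =>
    (pair_rule hJ hR hab h0 h1 h2).1
  have e0 : e ≠ 0 := by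
    rintro rfl
    exact hne ⟨by simp, by simp⟩
  have ea : e ≠ a := by
    rintro rfl
    exact hne ⟨D.alt _, h0⟩
  have eb : e ≠ b := by
    rintro rfl
    exact hne ⟨h0', D.alt _⟩
  have eab : e ≠ a + b := by
    rintro rfl
    exact hne ⟨by rw [B_add', D.alt, h0', add_zero], by rw [B_add', D.alt, h0, add_zero]⟩
  have mem1 : ∀ z, D.B z a = 0 → D.B z b = 0 → D.B z e = 1 → R D J a z := fun z h1 h2 h3 =>
    R_trans he (R_symm (R_of (pr z h1 h2) he h1 h3))
  have mem2 : ∀ z, D.B z a = 0 → D.B z b = 0 → z ≠ 0 → z ≠ a → z ≠ b → z ≠ a + b →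
      R D J a z := by
    intro z h1 h2 hz0 hza hzb hzab
    obtain ⟨z', k1, k2, k3, k4⟩ := exists_sep_three (p := a) (q := b) (s := z + e) (r := e) e0 ea eb eab
      (by
        intro h
        apply hz0
        have : z + e = 0 + e := by rw [zero_add]; exact h.symm
        exact add_right_cancel this)
      (by
        intro h
        apply hza
        have h' : (a + z) + e = 0 + e := by rw [zero_add, add_assoc]; exact h.symm
        exact (eq_of_add _ _ (add_right_cancel h')).symm)
      (by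
        intro h
        apply hzb
        have h' : (b + z) + e = 0 + e := by rw [zero_add, add_assoc]; exact h.symm
        exact (eq_of_add _ _ (add_right_cancel h')).symm)
      (by
        intro h
        apply hzab
        have h' : ((a + b) + z) + e = 0 + e := by rw [zero_add, add_assoc]; exact h.symm
        exact (eq_of_add _ _ (add_right_cancel h')).symm) D
    have k5 : D.B z' z = 1 := by
      rw [B_add, k4] at k3
      rcases z2 (D.B z' z) with h | h
      · rw [h] at k3; exact absurd k3 (by decide)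
      · exact h
    exact R_trans (mem1 z' k1 k2 k4) (R_symm (R_of (pr z h1 h2) (mem1 z' k1 k2 k4) h1
      (by rw [D.symm]; exact k5)))
  obtain ⟨v, hv, hwv⟩ := exists_perp_pair a b w D
  obtain ⟨z, hzL, hz1, hz2, hz3⟩ := exists_avoid hV D a b w ({0, a, b, a + b} : Finset V)
    (lt_of_le_of_lt (Finset.card_le_four) (by norm_num))
  simp only [Finset.mem_insert, Finset.mem_singleton, not_or] at hzL
  obtain ⟨hz0, hza, hzb, hzab⟩ := hzL
  have hRz := mem2 z hz1 hz2 hz0 hza hzb hzab
  have hv0 : v ≠ 0 := by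
    rcases hv with rfl | rfl | rfl
    · exact ha
    · exact hb
    · intro h
      exact hab (eq_of_add _ _ h)
  have hzv : D.B z v = 0 := by
    rcases hv with rfl | rfl | rfl
    · exact hz1
    · exact hz2
    · rw [B_add, hz1, hz2, add_zero]
  have hva : D.B v a = 0 ∧ D.B v b = 0 := by
    rcases hv with rfl | rfl | rfl
    · exact ⟨D.alt _, h0⟩
    · exact ⟨h0', D.alt _⟩
    · exact ⟨by rw [B_add', D.alt, h0', add_zero], by rw [B_add', D.alt, h0, add_zero]⟩
  have hRz' : R D J a (z + v) := by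
    refine mem2 _ ?_ ?_ ?_ ?_ ?_ ?_
    · rw [B_add', hz1, hva.1, add_zero]
    · rw [B_add', hz2, hva.2, add_zero]
    all_goals
      intro h
      have h' : z = z + v + v := (aab z v).symm
      rw [h] at h'
      rcases hv with rfl | rfl | rfl
    · exact hza (by simpa using h')
    · exact hzb (by simpa using h')
    · exact hzab (by simpa using h')
    · exact hz0 (by rw [h', aa])
    · exact hzab h'
    · exact hzb (by rw [h', aac])
    · exact hzab (by rw [h', add_comm])
    · exact hz0 (by rw [h', aa])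
    · exact hza (by rw [h', add_comm a b, aac])
    · exact hzb (by rw [h', add_comm v b, aab])
    · exact hza (by rw [h', aab])
    · exact hz0 (by rw [h', aa])
  have hRR : R D J z (z + v) := R_trans (R_symm hRz) hRz'
  refine (pair_rule hJ hRR ?_ ?_ (y := w) ?_ ?_).1
  · intro h
    apply hv0
    have h' : z + 0 = z + v := by rw [add_zero]; exact h
    exact (add_left_cancel h').symm
  · rw [B_add, D.alt, hzv, add_zero]
  · rw [D.symm]; exact hz3
  · rw [B_add, D.symm w z, hz3, hwv, add_zero]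

theorem eq_top_of_NJ [IsSimpleGroup X] (hJ1 : J ≠ ⊥) (h : ∀ w, NJ D J w) {w : V} (hw : w ≠ 0) : J = ⊤ := by
  let N : Subgroup X := Subgroup.closure (Set.range D.τ)
  have hN : N.Normal := by
    apply Subgroup.Normal.mk
    intro n hn g
    induction hn using Subgroup.closure_induction with
    | mem x hx =>
      obtain ⟨v, rfl⟩ := hx
      rw [D.conj_τ]
      exact Subgroup.subset_closure ⟨_, rfl⟩
    | one => rw [mul_one, mul_inv_cancel]; exact N.one_mem
    | mul x y _ _ hx hy =>
      rw [show g * (x * y) * g⁻¹ = g * x * g⁻¹ * (g * y * g⁻¹) by group]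
      exact N.mul_mem hx hy
    | inv x _ hx =>
      rw [show g * x⁻¹ * g⁻¹ = (g * x * g⁻¹)⁻¹ by group]
      exact N.inv_mem hx
  have hNtop : N = ⊤ := by
    rcases hN.eq_bot_or_eq_top with h1 | h1
    · exfalso
      have : D.τ w ∈ N := Subgroup.subset_closure ⟨w, rfl⟩
      rw [h1, Subgroup.mem_bot] at this
      exact hw (D.τ_eq_one this)
    · exact h1
  have hle : N ≤ Subgroup.normalizer (J : Set X) := by
    apply (Subgroup.closure_le _).2
    rintro _ ⟨v, rfl⟩
    rw [SetLike.mem_coe, Subgroup.mem_normalizer_iff]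
    intro j
    constructor
    · intro hj
      exact NJ_conj (h v) j hj
    · intro hj
      have := NJ_conj (h v) _ hj
      rw [D.τ_inv] at this
      rwa [show D.τ v * (D.τ v * j * D.τ v) * D.τ v = (D.τ v * D.τ v) * j * (D.τ v * D.τ v) by group,
        D.τ_sq, one_mul, mul_one] at this
  have hJn : J.Normal := by
    rw [← Subgroup.normalizer_eq_top_iff, eq_top_iff, ← hNtop]
    exact hle
  exact hJn.eq_bot_or_eq_top.resolve_left hJ1

/-! ### a class which is contained in a line -/

/-- four members -/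
def In4 (a b e : V) : Prop := e = 0 ∨ e = a ∨ e = b ∨ e = a + b

/-- an orthogonal pair in a class -/
structure Pair (D : SpData X V) (J : Subgroup X) (a b : V) : Prop where
  a0 : a ≠ 0
  b0 : b ≠ 0
  ne : a ≠ b
  orth : D.B a b = 0
  rel : R D J a b

theorem Pair.symm {a b : V} (h : Pair D J a b) : Pair D J b a :=
  ⟨h.b0, h.a0, h.ne.symm, by rw [D.symm]; exact h.orth, R_symm h.rel⟩

theorem In4.perp {a b e : V} (h0 : D.B a b = 0) (h : In4 a b e) : D.B e a = 0 ∧ D.B e b = 0 := by
  have h0' : D.B b a = 0 := by rw [D.symm]; exact h0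
  rcases h with rfl | rfl | rfl | rfl
  · exact ⟨by simp, by simp⟩
  · exact ⟨D.alt _, h0⟩
  · exact ⟨h0', D.alt _⟩
  · exact ⟨by rw [B_add', D.alt, h0', add_zero], by rw [B_add', D.alt, h0, add_zero]⟩

theorem In4.add {a b e f : V} (h : In4 a b e) (h' : In4 a b f) : In4 a b (e + f) := by
  have k3 : a + b + a = b := by rw [add_comm a b, aab]
  have k4 : b + (a + b) = a := by rw [add_comm a b, aac]
  unfold In4 at *
  rcases h with h | h | h | h <;> rcases h' with h' | h' | h' | h' <;> rw [h, h'] <;>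
    first
    | simp only [aa, aab, aac, k3, k4, zero_add, add_zero, true_or, or_true]
    | (right; right; right; exact add_comm _ _)

/-- if not all transvections normalize `J` then classes with an orthogonal pair are orthogonal to it -/
theorem dag (hV : Nat.card V = 64) (hJ : Hyp J B) (hno : ¬ ∀ w, NJ D J w) {p q : V} (h : Pair D J p q)
    {e : V} (he : R D J p e) : D.B e p = 0 ∧ D.B e q = 0 := by
  by_contra hcon
  exact hno (claimA hV hJ h.a0 h.b0 h.ne h.orth h.rel he hcon)

theorem ddag (hV : Nat.card V = 64) (hJ : Hyp J B) (hno : ¬ ∀ w, NJ D J w) {p q : V} (h : Pair D J p q)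
    {e : V} (he : R D J p e) : In4 p q e := by
  refine mem_of_perp D fun v hp hq => ?_
  by_contra hcon
  have hve : D.B v e = 1 := (z2 _).resolve_left hcon
  have hNJ := (pair_rule hJ h.rel h.ne h.orth hp hq).1
  have h1 : R D J p v := R_trans he (R_symm (R_of hNJ he hp hve))
  by_cases hvp : v = p
  · rw [hvp, D.symm] at hve
    rw [(dag hV hJ hno h he).1] at hve
    exact absurd hve (by decide)
  · have hv0 : v ≠ 0 := by
      rintro rfl
      rw [map_zero, LinearMap.zero_apply] at hve
      exact absurd hve (by decide)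
    have h2 : Pair D J p v := ⟨h.a0, hv0, fun e => hvp e.symm, by rw [D.symm]; exact hp, h1⟩
    have h3 := (dag hV hJ hno h2 he).2
    rw [D.symm, hve] at h3
    exact absurd h3 (by decide)

/-- `τ r * τ (r + p + q)` -/
theorem sw_apply {r p q x : V} (h1 : D.B r p = 1) (h2 : D.B r q = 1) (hp : D.B x p = 0)
    (hq : D.B x q = 0) : D.ρ (D.τ r * D.τ (r + (p + q))) x = x + D.B x r • (p + q) := by
  have e1 : D.B (r + (p + q)) r = 0 := by
    rw [B_add', B_add', D.alt, D.symm p r, D.symm q r, h1, h2]; decide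
  have e2 : D.B x (r + (p + q)) = D.B x r := by
    rw [B_add, B_add, hp, hq, add_zero, add_zero]
  rw [D.ττ, e1, e2, mul_zero, add_zero, smul_add, add_assoc]
  congr 1
  rw [add_comm (D.B x r • r), aab]

theorem sw_left {r p q : V} (h0 : D.B p q = 0) (h1 : D.B r p = 1) (h2 : D.B r q = 1) :
    D.ρ (D.τ r * D.τ (r + (p + q))) p = q := by
  rw [sw_apply h1 h2 (D.alt _) h0, D.symm p r, h1, one_smul, aac]

theorem sw_right {r p q : V} (h0 : D.B p q = 0) (h1 : D.B r p = 1) (h2 : D.B r q = 1) :
    D.ρ (D.τ r * D.τ (r + (p + q))) q = p := by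
  rw [sw_apply h1 h2 (by rw [D.symm]; exact h0) (D.alt _), D.symm q r, h2, one_smul,
    add_comm p q, aac]

theorem sw_fix {r p q x : V} (h1 : D.B r p = 1) (h2 : D.B r q = 1) (hp : D.B x p = 0)
    (hq : D.B x q = 0) (hr : D.B x r = 0) : D.ρ (D.τ r * D.τ (r + (p + q))) x = x := by
  rw [sw_apply h1 h2 hp hq, hr, zero_smul, add_zero]

theorem fixes_aux (hV : Nat.card V = 64) (hJ : Hyp J B) (hno : ¬ ∀ w, NJ D J w) {a b : V}
    (h : Pair D J a b) {y : V} (hya : D.B y a = 0) (hyb : D.B y b = 0) (hy : ¬ In4 a b y) {β : X}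
    (hβ : β ∈ B) : D.ρ β y = y := by
  by_contra hne
  set y' := D.ρ β y with hy'
  have hNy := (pair_rule hJ h.rel h.ne h.orth hya hyb)
  have hRy : R D J y y' := hNy.2 β hβ
  have hy0 : y ≠ 0 := fun e => hy (Or.inl e)
  have hya' : y ≠ a := fun e => hy (Or.inr (Or.inl e))
  have hyb' : y ≠ b := fun e => hy (Or.inr (Or.inr (Or.inl e)))
  have hyab' : y ≠ a + b := fun e => hy (Or.inr (Or.inr (Or.inr e)))
  have hy'0 : y' ≠ 0 := by
    intro e
    apply hy0
    apply D.ρ_inj β
    rw [map_zero]; exact e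
  have hnRa : ¬ R D J a y := fun hR => hy (ddag hV hJ hno h hR)
  rcases z2 (D.B y y') with h0 | h0
  · have hP : Pair D J y y' := ⟨hy0, hy'0, fun e => hne e.symm, h0, hRy⟩
    -- the two lines have the same third vector
    have key : ∀ {p q s t : V}, Pair D J p q → Pair D J s t → In4 p q (s + t) := by
      intro p q s t h1 h2
      refine mem_of_perp D fun v hp hq => ?_
      by_contra hcon
      have hNv := (pair_rule hJ h1.rel h1.ne h1.orth hp hq).1
      have h3 : In4 s t v := by
        apply ddag hV hJ hno h2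
        rcases z2 (D.B v s) with k1 | k1 <;> rcases z2 (D.B v t) with k2 | k2
        · exact absurd (by rw [B_add, k1, k2, add_zero]) hcon
        · exact R_trans h2.rel (R_symm (R_of hNv h2.rel k1 k2))
        · exact R_symm (R_of hNv (R_symm h2.rel) k2 k1)
        · exact absurd (by rw [B_add, k1, k2]; decide) hcon
      obtain ⟨k1, k2⟩ := h3.perp h2.orth
      exact hcon (by rw [B_add, k1, k2, add_zero])
    have s1 := key hP h
    have s2 := key h hP
    have hs : a + b = y + y' := by
      rcases s1 with e | e | e | e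
      · exact absurd (eq_of_add _ _ e) h.ne
      · exact absurd e.symm hyab'
      · exfalso
        apply hy
        rw [← e] at s2
        have := s2.add (Or.inr (Or.inr (Or.inr rfl)) : In4 a b (a + b))
        rwa [aab] at this
      · exact e
    have hy'e : y' = a + (b + y) := by
      have : y + (a + b) = y' := by rw [hs, aac]
      rw [← this]; abel
    obtain ⟨r, hr1, hr2, hr3⟩ := exists_sep_two D (p := a) (q := b + y) (r := b) h.b0 h.ne.symm
      (by intro e; exact hy0 (by simpa using e.symm))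
      (by
        intro e
        apply hya'
        have : b = b + (a + y) := by
          calc b = a + (b + y) := e
            _ = _ := by abel
        exact (eq_of_add _ _ (by simpa using this.symm)).symm)
    have hr4 : D.B r y = 1 := by
      rw [B_add, hr3] at hr2
      rcases z2 (D.B r y) with h | h
      · rw [h] at hr2; exact absurd hr2 (by decide)
      · exact h
    have hby : D.B b y = 0 := by rw [D.symm]; exact hyb
    have hay : D.B a y = 0 := by rw [D.symm]; exact hya
    set g := D.τ r * D.τ (r + (b + y)) with hg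
    have ga : D.ρ g a = a := sw_fix hr3 hr4 h.orth hay (by rw [D.symm]; exact hr1)
    have gb : D.ρ g b = y := sw_left hby hr3 hr4
    have gy : D.ρ g y = b := sw_right hby hr3 hr4
    have gy' : D.ρ g y' = y' := by
      rw [hy'e, map_add, map_add, ga, gb, gy, add_comm y b]
    set i := (D.τ a * D.τ b) * (D.τ y * D.τ y') with hi
    have hiJ : i ∈ J := J.mul_mem h.rel hRy
    have c1 : D.τ b * D.τ y = D.τ y * D.τ b := D.τ_commute hby
    have c2 : D.τ a * D.τ b = D.τ b * D.τ a := D.τ_commute h.orth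
    have c3 : D.τ y * D.τ y' = D.τ y' * D.τ y := D.τ_commute h0
    have c4 : D.τ a * D.τ y = D.τ y * D.τ a := D.τ_commute hay
    have hgi : g * i * g⁻¹ = i := by
      have e1 : g * i * g⁻¹ = (g * D.τ a * g⁻¹) * (g * D.τ b * g⁻¹) * ((g * D.τ y * g⁻¹) *
          (g * D.τ y' * g⁻¹)) := by rw [hi]; group
      rw [e1, D.conj_τ, D.conj_τ, D.conj_τ, D.conj_τ, ga, gb, gy, gy', hi]
      calc D.τ a * D.τ y * (D.τ b * D.τ y') = D.τ a * (D.τ y * D.τ b) * D.τ y' := by group
        _ = D.τ a * (D.τ b * D.τ y) * D.τ y' := by rw [c1]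
        _ = _ := by group
    have hi1 : i ≠ 1 := by
      intro e
      have e2 : D.τ a * D.τ b = D.τ y' * D.τ y := by
        have := eq_inv_of_mul_eq_one_left e
        rwa [mul_inv_rev, D.τ_inv, D.τ_inv] at this
      rw [← c3] at e2
      rcases D.mem_of_ττ_eq (c := y) (d := y') hy0 (fun e => hne e.symm) e2 with k | k | k
      · exact hya' k
      · exact hyb' k
      · exact hyab' k
    have hay' : D.B a y' = 0 := by
      rw [hy'e, B_add, B_add, D.alt, h.orth, hay]; decide
    have hby' : D.B b y' = 0 := by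
      rw [hy'e, B_add, B_add, D.alt, D.symm b a, h.orth, hby]; decide
    have hii : i * i = 1 := by
      have c5 : D.τ a * D.τ y' = D.τ y' * D.τ a := D.τ_commute hay'
      have c6 : D.τ b * D.τ y' = D.τ y' * D.τ b := D.τ_commute hby'
      have c7 : Commute (D.τ a * D.τ b) (D.τ y * D.τ y') :=
        (Commute.mul_left (show Commute (D.τ a) (D.τ y) from c4) (show Commute (D.τ b) (D.τ y) from c1)).mul_right
          (Commute.mul_left (show Commute (D.τ a) (D.τ y') from c5) (show Commute (D.τ b) (D.τ y') from c6))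
      rw [hi]
      calc (D.τ a * D.τ b) * (D.τ y * D.τ y') * ((D.τ a * D.τ b) * (D.τ y * D.τ y')) =
          (D.τ a * D.τ b) * ((D.τ y * D.τ y') * (D.τ a * D.τ b)) * (D.τ y * D.τ y') := by group
        _ = (D.τ a * D.τ b) * ((D.τ a * D.τ b) * (D.τ y * D.τ y')) * (D.τ y * D.τ y') := by rw [c7.eq]
        _ = ((D.τ a * D.τ b) * (D.τ a * D.τ b)) * ((D.τ y * D.τ y') * (D.τ y * D.τ y')) := by group
        _ = 1 := by rw [ττ_sq h.orth, ττ_sq h0, mul_one]
    have hgc : g * i = i * g := by
      exact mul_inv_eq_iff_eq_mul.1 hgi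
    have hgN := exists_comm hJ (hJ.le hiJ) hi1 hii hgc
    have h5 := R_conj hgN h.rel
    rw [ga, gb] at h5
    exact hnRa h5
  · have hNa := (pair_rule hJ h.rel h.ne h.orth (y := a) (D.alt _) h.orth).1
    have hNb := (pair_rule hJ h.rel h.ne h.orth (y := b) (by rw [D.symm]; exact h.orth) (D.alt _)).1
    have hay : D.B a y = 0 := by rw [D.symm]; exact hya
    have hby : D.B b y = 0 := by rw [D.symm]; exact hyb
    have k1 : D.B a y' = 0 := by
      rcases z2 (D.B a y') with k | k
      · exact k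
      · exact absurd (R_trans (R_of hNa hRy hay k) (R_symm hRy)) hnRa
    have k2 : D.B b y' = 0 := by
      rcases z2 (D.B b y') with k | k
      · exact k
      · exact absurd (R_trans h.rel (R_trans (R_of hNb hRy hby k) (R_symm hRy))) hnRa
    have hz1 : D.B (y + a) a = 0 := by rw [B_add', hya, D.alt, add_zero]
    have hz2 : D.B (y + a) b = 0 := by rw [B_add', hyb, h.orth, add_zero]
    have hNz := (pair_rule hJ h.rel h.ne h.orth hz1 hz2).1
    have h3 : R D J (y + a) y' := R_of hNz hRy (by rw [B_add', D.alt, hay, add_zero])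
      (by rw [B_add', h0, k1, add_zero])
    have hP : Pair D J y (y + a) := ⟨hy0, fun e => hya' (eq_of_add _ _ e),
      fun e => h.a0 (by simpa using e.symm), by rw [B_add, D.alt, hya, add_zero],
      R_trans hRy (R_symm h3)⟩
    have h4 := (dag hV hJ hno hP hRy).1
    rw [D.symm, h0] at h4
    exact absurd h4 (by decide)

theorem fixes (hV : Nat.card V = 64) (hJ : Hyp J B) (hno : ¬ ∀ w, NJ D J w) {a b : V}
    (h : Pair D J a b) {y : V} (hya : D.B y a = 0) (hyb : D.B y b = 0) {β : X}
    (hβ : β ∈ B) : D.ρ β y = y := by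
  classical
  by_cases hy : In4 a b y
  · obtain ⟨z, hzL, hz1, hz2, -⟩ := exists_avoid hV D a b 0 ({0, a, b, a + b} : Finset V)
      (lt_of_le_of_lt (Finset.card_le_four) (by norm_num))
    simp only [Finset.mem_insert, Finset.mem_singleton, not_or] at hzL
    have hz : ¬ In4 a b z := by
      rintro (e | e | e | e)
      · exact hzL.1 e
      · exact hzL.2.1 e
      · exact hzL.2.2.1 e
      · exact hzL.2.2.2 e
    have hzy : ¬ In4 a b (z + y) := by
      intro e
      apply hz
      have := e.add hy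
      rwa [aab] at this
    have e1 := fixes_aux hV hJ hno h hz1 hz2 hz hβ
    have e2 := fixes_aux hV hJ hno h (y := z + y) (by rw [B_add', hz1, hya, add_zero])
      (by rw [B_add', hz2, hyb, add_zero]) hzy hβ
    have : y = z + (z + y) := (aac z y).symm
    rw [this, map_add, e1, e2]
  · exact fixes_aux hV hJ hno h hya hyb hy hβ

/-! ### the exceptional four-group -/

/-- the exceptional case -/
def Spec (J B : Subgroup X) : Prop :=
  B ≤ J ∧ (∀ x ∈ B, ∀ y ∈ B, x * y = y * x) ∧
    ∃ i ∈ B, i ≠ 1 ∧ i * i = 1 ∧ ∃ h, h * i = i * h ∧ ∃ β ∈ B, h * β ≠ β * h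

theorem fix_class {a b : V} (ha : a ≠ 0) (hb : b ≠ 0) (hab : a ≠ b) (h0 : D.B a b = 0) {g : X}
    (hfix : ∀ y, D.B y a = 0 → D.B y b = 0 → D.ρ g y = y) :
    g = 1 ∨ g = D.τ a ∨ g = D.τ b ∨ g = D.τ (a + b) ∨ g = D.τ a * D.τ b ∨
      g = D.τ a * D.τ (a + b) ∨ g = D.τ b * D.τ (a + b) ∨ g = D.τ a * D.τ b * D.τ (a + b) := by
  have h0' : D.B b a = 0 := by rw [D.symm]; exact h0
  obtain ⟨r, hra, hrb⟩ := D.exists_sep ha hab
  obtain ⟨s, hsb, hsa⟩ := D.exists_sep hb hab.symm
  have hn : ∀ v, In4 a b (D.n g v) := by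
    intro v
    refine mem_of_perp D fun z hza hzb => ?_
    have h1 := D.inv g z v
    rw [hfix z hza hzb] at h1
    rw [n_apply, B_add, h1]
    rcases z2 (D.B z v) with h | h <;> rw [h] <;> decide
  have hv : ∀ v, D.ρ g v = v + (D.B v a • D.n g r + D.B v b • D.n g s) := by
    intro v
    have h1 := hfix (v + (D.B v a • r + D.B v b • s)) (by
      rw [B_add', B_add', map_smul, map_smul, LinearMap.smul_apply, LinearMap.smul_apply, hra, hsa]
      rcases z2 (D.B v a) with h | h <;> rw [h] <;> simp <;> decide) (by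
      rw [B_add', B_add', map_smul, map_smul, LinearMap.smul_apply, LinearMap.smul_apply, hrb, hsb]
      rcases z2 (D.B v b) with h | h <;> rw [h] <;> simp <;> decide)
    rw [map_add, map_add, map_smul, map_smul] at h1
    rw [n_apply, n_apply]
    have h2 : D.ρ g v = D.ρ g v + (D.B v a • D.ρ g r + D.B v b • D.ρ g s) +
        (D.B v a • D.ρ g r + D.B v b • D.ρ g s) := (aab _ _).symm
    rw [h1] at h2
    rw [h2, smul_add, smul_add]
    abel
  have hiso := D.inv g r s
  have hρ : ∀ v, D.ρ g v = v + D.n g v := fun v => D.ρ_eq g v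
  rw [hρ r, hρ s, B_add, B_add', B_add'] at hiso
  have e0 : D.τ a * D.τ b = D.τ b * D.τ a := D.τ_commute h0
  have k1 : D.B a s = 0 := by rw [D.symm]; exact hsa
  have k2 : D.B b s = 1 := by rw [D.symm]; exact hsb
  have k3 : D.B (a + b) a = 0 := by rw [B_add', D.alt, h0', add_zero]
  have k4 : D.B (a + b) b = 0 := by rw [B_add', D.alt, h0, add_zero]
  have hs0 : D.B r 0 = 0 := map_zero _
  have hext : ∀ x : X, (∀ v, D.ρ x v = v + (D.B v a • D.n g r + D.B v b • D.n g s)) → g = x := by
    intro x hx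
    apply D.ext_iff
    intro v
    rw [hv, hx]
  have q1 : a + (a + b) = b := aac a b
  have q2 : b + (a + b) = a := by rw [add_comm a b, aac]
  have h2 : ∀ x : V, (2 : ℤ) • x = 0 := fun x => by rw [two_smul, aa]
  have h3 : ∀ x : V, (3 : ℤ) • x = x := fun x => by
    rw [show (3 : ℤ) = 2 + 1 by norm_num, add_smul, h2, one_smul, zero_add]
  have one1 : (1 : ZMod 2) + 1 = 0 := by decide
  rcases hn r with hR | hR | hR | hR <;> rcases hn s with hS | hS | hS | hS <;> rw [hR, hS] at hiso hext
  · left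
    apply hext
    intro v
    rw [D.ρ_one]; simp
  · exfalso; simp [hra] at hiso
  · right; right; left
    apply hext
    intro v
    rw [D.hτ]; simp
  · exfalso; simp [hra, hrb] at hiso
  · right; left
    apply hext
    intro v
    rw [D.hτ]; simp
  · exfalso
    simp only [hra, k1, D.alt, add_zero] at hiso
    exact absurd (add_eq_left.1 hiso) (by decide)
  · right; right; right; right; left
    apply hext
    intro v
    rw [D.ττ, h0']; simp; abel
  · exfalso
    simp only [B_add, hra, hrb, k1, D.alt, h0, add_zero] at hiso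
    exact absurd (add_eq_left.1 hiso) (by decide)
  · exfalso
    simp only [map_zero, k2, add_zero] at hiso
    exact absurd (add_eq_left.1 hiso) (by decide)
  · right; right; right; right; right; right; right
    apply hext
    intro v
    rw [D.ρ_mul, D.ττ, D.hτ, h0', B_add]
    rcases z2 (D.B v a) with h | h <;> rcases z2 (D.B v b) with h' | h' <;>
      simp only [h, h', k3, k4, B_add', zero_smul, one_smul, add_zero, zero_add, mul_zero, D.alt, h0, h0',
        one1] <;> abel_nf <;> simp only [h2, h3, add_zero, zero_add]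
  · exfalso
    simp only [hrb, k2, D.alt, add_zero, zero_add] at hiso
    exact absurd (add_eq_left.1 hiso) (by decide)
  · right; right; right; right; right; left
    apply hext
    intro v
    rw [D.ρ_mul, D.hτ, D.hτ, B_add]
    rcases z2 (D.B v a) with h | h <;> rcases z2 (D.B v b) with h' | h' <;>
      simp only [h, h', k3, k4, B_add', zero_smul, one_smul, add_zero, zero_add, mul_zero, D.alt, h0, h0',
        one1] <;> abel_nf <;> simp only [h2, h3, add_zero, zero_add]
  · exfalso
    simp only [B_add', k1, k2, map_zero, add_zero, zero_add] at hiso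
    exact absurd (add_eq_left.1 hiso) (by decide)
  · right; right; right; right; right; right; left
    apply hext
    intro v
    rw [D.ρ_mul, D.hτ, D.hτ, B_add]
    rcases z2 (D.B v a) with h | h <;> rcases z2 (D.B v b) with h' | h' <;>
      simp only [h, h', k3, k4, B_add', zero_smul, one_smul, add_zero, zero_add, mul_zero, D.alt, h0, h0',
        one1] <;> abel_nf <;> simp only [h2, h3, add_zero, zero_add]
  · exfalso
    simp only [B_add', hrb, k1, k2, D.alt, h0, add_zero, zero_add] at hiso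
    exact absurd (add_eq_left.1 hiso) (by decide)
  · right; right; right; left
    apply hext
    intro v
    rw [D.hτ, B_add]
    rcases z2 (D.B v a) with h | h <;> rcases z2 (D.B v b) with h' | h' <;>
      simp only [h, h', zero_smul, one_smul, add_zero, zero_add, one1] <;> abel_nf <;>
      simp only [h2, h3, add_zero, zero_add]

theorem swap_rule (hJ : Hyp J B) {p q : V} (hp : p ≠ 0) (hq : q ≠ 0) (hpq : p ≠ q)
    (h0 : D.B p q = 0) (h1 : D.τ p * D.τ q ∈ B) (h2 : D.τ p * D.τ (p + q) ∈ B) :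
    D.τ p * D.τ q ∈ J ∧ ∃ h, h * (D.τ p * D.τ q) = (D.τ p * D.τ q) * h ∧
      h * (D.τ p * D.τ (p + q)) ≠ (D.τ p * D.τ (p + q)) * h := by
  obtain ⟨r, hr1, hr2⟩ := exists_one_one hp hq hpq D
  set g := D.τ r * D.τ (r + (p + q)) with hg
  have gp : D.ρ g p = q := sw_left h0 hr1 hr2
  have gq : D.ρ g q = p := sw_right h0 hr1 hr2
  have e1 : g * (D.τ p * D.τ q) * g⁻¹ = D.τ p * D.τ q := by
    rw [show g * (D.τ p * D.τ q) * g⁻¹ = (g * D.τ p * g⁻¹) * (g * D.τ q * g⁻¹) by group,
      D.conj_τ, D.conj_τ, gp, gq, D.τ_commute h0]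
  have hc : g * (D.τ p * D.τ q) = (D.τ p * D.τ q) * g := mul_inv_eq_iff_eq_mul.1 e1
  have e2 : g * (D.τ p * D.τ (p + q)) * g⁻¹ = D.τ q * D.τ (p + q) := by
    rw [show g * (D.τ p * D.τ (p + q)) * g⁻¹ = (g * D.τ p * g⁻¹) * (g * D.τ (p + q) * g⁻¹) by group,
      D.conj_τ, D.conj_τ, map_add, gp, gq, add_comm q p]
  have e3 : g * (D.τ p * D.τ (p + q)) * g⁻¹ * (D.τ p * D.τ (p + q))⁻¹ = D.τ p * D.τ q := by
    rw [e2, mul_inv_rev, D.τ_inv, D.τ_inv,
      show D.τ q * D.τ (p + q) * (D.τ (p + q) * D.τ p) = D.τ q * (D.τ (p + q) * D.τ (p + q)) * D.τ p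
        by group, D.τ_sq, mul_one, D.τ_commute h0]
  refine ⟨?_, g, hc, ?_⟩
  · rw [← e3]
    exact hJ.com _ h1 (ττ_ne hpq) (ττ_sq h0) g hc _ h2
  · intro e
    apply ττ_ne (D := D) hpq
    rw [← e3, e]; group

theorem spec_of_fix (hJ : Hyp J B) (h4 : 4 ≤ Nat.card B) {a b : V} (ha : a ≠ 0) (hb : b ≠ 0)
    (hab : a ≠ b) (h0 : D.B a b = 0)
    (hfix : ∀ y, D.B y a = 0 → D.B y b = 0 → ∀ g ∈ B, D.ρ g y = y)
    (n1 : D.τ a ∉ B) (n2 : D.τ b ∉ B) (n3 : D.τ (a + b) ∉ B) : Spec J B := by
  have h0' : D.B b a = 0 := by rw [D.symm]; exact h0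
  have k1 : D.B a (a + b) = 0 := by rw [B_add, D.alt, h0, add_zero]
  have k2 : D.B b (a + b) = 0 := by rw [B_add, D.alt, h0', add_zero]
  have hab0 : a + b ≠ 0 := fun e => hab (eq_of_add _ _ e)
  have hanab : a ≠ a + b := fun e => hb (by simpa using e.symm)
  have hbnab : b ≠ a + b := fun e => ha (by simpa using e.symm)
  have c0 : D.τ a * D.τ b = D.τ b * D.τ a := D.τ_commute h0
  have c1 : D.τ a * D.τ (a + b) = D.τ (a + b) * D.τ a := D.τ_commute k1
  have c2 : D.τ b * D.τ (a + b) = D.τ (a + b) * D.τ b := D.τ_commute k2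
  set x := D.τ a with hx
  set y := D.τ b with hy
  set z := D.τ (a + b) with hz
  have xx : x * x = 1 := D.τ_sq _
  have yy : y * y = 1 := D.τ_sq _
  have zz : z * z = 1 := D.τ_sq _
  have hcl : ∀ g ∈ B, g = 1 ∨ g = x ∨ g = y ∨ g = z ∨ g = x * y ∨ g = x * z ∨ g = y * z ∨
      g = x * y * z := fun g hg => fix_class ha hb hab h0 (fun w h1 h2 => hfix w h1 h2 g hg)
  have hBfin : Finite B := Nat.finite_of_card_ne_zero (by omega)
  have hcard : ∀ (s : Finset X), (∀ g ∈ B, g ∈ s) → 4 ≤ s.card := by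
    intro s hs
    have h1 : (B : Set X) ⊆ (s : Set X) := fun g hg => hs g hg
    have h2 := Set.ncard_le_ncard h1 (Finset.finite_toSet s)
    rw [Set.ncard_coe_finset, ← Nat.card_coe_set_eq] at h2
    exact h4.trans h2
  classical
  -- the product of the three transvections
  have n4 : x * y * z ∉ B := by
    intro hm
    have m1 : x * y ∉ B := by
      intro h
      apply n3
      have := B.mul_mem (B.inv_mem h) hm
      rwa [inv_mul_cancel_left] at this
    have m2 : x * z ∉ B := by
      intro h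
      apply n2
      have := B.mul_mem (B.inv_mem h) hm
      rwa [show (x * z)⁻¹ * (x * y * z) = z⁻¹ * y * z by group, mul_assoc, c2, inv_mul_cancel_left] at this
    have m3 : y * z ∉ B := by
      intro h
      apply n1
      have := B.mul_mem hm (B.inv_mem h)
      rwa [show x * y * z * (y * z)⁻¹ = x by group] at this
    have := hcard {1, x * y * z} (by
      intro g hg
      rcases hcl g hg with rfl | rfl | rfl | rfl | rfl | rfl | rfl | rfl
      · simp
      · exact absurd hg n1
      · exact absurd hg n2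
      · exact absurd hg n3
      · exact absurd hg m1
      · exact absurd hg m2
      · exact absurd hg m3
      · simp)
    exact absurd (this.trans Finset.card_le_two) (by norm_num)
  have hcl' : ∀ g ∈ B, g = 1 ∨ g = x * y ∨ g = x * z ∨ g = y * z := by
    intro g hg
    rcases hcl g hg with h | rfl | rfl | rfl | h | h | h | rfl
    · exact Or.inl h
    · exact absurd hg n1
    · exact absurd hg n2
    · exact absurd hg n3
    · exact Or.inr (Or.inl h)
    · exact Or.inr (Or.inr (Or.inl h))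
    · exact Or.inr (Or.inr (Or.inr h))
    · exact absurd hg n4
  have m1 : x * y ∈ B := by
    by_contra h
    have := hcard {1, x * z, y * z} (by
      intro g hg
      rcases hcl' g hg with rfl | rfl | rfl | rfl
      · simp
      · exact absurd hg h
      · simp
      · simp)
    exact absurd (this.trans Finset.card_le_three) (by norm_num)
  have m2 : x * z ∈ B := by
    by_contra h
    have := hcard {1, x * y, y * z} (by
      intro g hg
      rcases hcl' g hg with rfl | rfl | rfl | rfl
      · simp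
      · simp
      · exact absurd hg h
      · simp)
    exact absurd (this.trans Finset.card_le_three) (by norm_num)
  have m3 : y * z ∈ B := by
    by_contra h
    have := hcard {1, x * y, x * z} (by
      intro g hg
      rcases hcl' g hg with rfl | rfl | rfl | rfl
      · simp
      · simp
      · simp
      · exact absurd hg h)
    exact absurd (this.trans Finset.card_le_three) (by norm_num)
  have s1 := swap_rule hJ ha hb hab h0 m1 m2
  have s2 := swap_rule hJ ha hab0 hanab k1 m2 (by rw [aac]; exact m1)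
  have s3 := swap_rule hJ hb hab0 hbnab k2 m3 (by
    rw [add_comm a b, aac, ← hy, ← hx, ← c0]; exact m1)
  refine ⟨?_, ?_, x * y, m1, ττ_ne hab, ττ_sq h0, ?_⟩
  · intro g hg
    rcases hcl' g hg with rfl | rfl | rfl | rfl
    · exact J.one_mem
    · exact s1.1
    · exact s2.1
    · exact s3.1
  · have comm : ∀ u v : X, u ∈ B → v ∈ B → u * u = 1 → v * v = 1 → (u * v) * (u * v) = 1 →
        u * v = v * u := by
      intro u v _ _ hu hv huv
      have e1 : (u * v)⁻¹ = u * v := inv_eq_of_mul_eq_one_right huv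
      rw [mul_inv_rev, inv_eq_of_mul_eq_one_right hu, inv_eq_of_mul_eq_one_right hv] at e1
      exact e1.symm
    have sq : ∀ u ∈ B, u * u = 1 := by
      intro u hu
      rcases hcl' u hu with rfl | rfl | rfl | rfl
      · exact mul_one _
      · exact ττ_sq h0
      · exact ττ_sq k1
      · exact ττ_sq k2
    intro u hu v hv
    exact comm u v hu hv (sq u hu) (sq v hv) (sq _ (B.mul_mem hu hv))
  · obtain ⟨g, hg1, hg2⟩ := s1.2
    exact ⟨g, hg1, x * z, m2, hg2⟩

/-- a transvection of a vector of an orthogonal pair is not in `B` -/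
theorem not_left (hV : Nat.card V = 64) (hJ : Hyp J B) (hno : ¬ ∀ w, NJ D J w) {a b : V}
    (h : Pair D J a b) : D.τ a ∉ B := by
  intro hB
  obtain ⟨y, hyb, hya⟩ := D.exists_sep h.b0 h.ne.symm
  have hne : D.τ a ≠ 1 := fun e => h.a0 (D.τ_eq_one e)
  have hN := (fix_rule hJ hB hne (D.τ_sq a) (τ_fix hya)).1
  have h1 := R_of hN h.rel hya hyb
  have h2 := ddag hV hJ hno h (R_trans h.rel (R_symm h1))
  have h3 := (h2.perp h.orth).2
  rw [h3] at hyb
  exact absurd hyb (by decide)

theorem not_sum (hV : Nat.card V = 64) (hJ : Hyp J B) (hno : ¬ ∀ w, NJ D J w) {a b : V}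
    (h : Pair D J a b) : D.τ (a + b) ∉ B := by
  intro hB
  have h0' : D.B b a = 0 := by rw [D.symm]; exact h.orth
  have hne : D.τ (a + b) ≠ 1 := fun e => h.ne (eq_of_add _ _ (D.τ_eq_one e))
  obtain ⟨y, hya, hyb⟩ := exists_one_one h.a0 h.b0 h.ne D
  have hyu : D.B y (a + b) = 0 := by rw [B_add, hya, hyb]; decide
  have hr := (fix_rule hJ hB hne (D.τ_sq _) (τ_fix hyu)).2 _ (hJ.le h.rel)
  have e1 : D.ρ (D.τ a * D.τ b) y = y + (a + b) := by
    rw [D.ττ, h0', hya, hyb, mul_zero, add_zero, one_smul, one_smul]; abel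
  rw [e1] at hr
  have hy0 : y ≠ 0 := by
    rintro rfl
    rw [map_zero, LinearMap.zero_apply] at hya
    exact absurd hya (by decide)
  have hyne : y ≠ a + b := by
    rintro rfl
    rw [B_add', D.alt, h0'] at hya
    exact absurd hya (by decide)
  have hP : Pair D J y (y + (a + b)) := by
    refine ⟨hy0, fun e => hyne (eq_of_add _ _ e), fun e => ?_, ?_, hr⟩
    · exact h.ne (eq_of_add _ _ (by simpa using e.symm))
    · rw [B_add, D.alt, hyu, add_zero]
  obtain ⟨z, hz1, hz2, hz3⟩ := exists_sep_two D (p := y) (q := a + b) (r := a) h.a0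
    (by rintro rfl; rw [D.alt] at hya; exact absurd hya (by decide))
    (fun e => h.b0 (by simpa using e.symm))
    (by
      intro e
      have : y = b := by
        have e2 : y + (a + b) + (a + b) = y := aab _ _
        rw [← e2, ← e]; exact aac a b
      rw [this, h0'] at hya
      exact absurd hya (by decide))
  have hzb : D.B z b = 1 := by
    rw [B_add, hz3] at hz2
    rcases z2 (D.B z b) with k | k
    · rw [k] at hz2; exact absurd hz2 (by decide)
    · exact k
  have h5 := fixes hV hJ hno hP hz1 (by rw [B_add, hz1, hz2, add_zero]) (hJ.le h.rel)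
  rw [D.ττ, h0', hz3, hzb, mul_zero, add_zero, one_smul, one_smul, add_assoc] at h5
  have h6 : b + a = 0 := by simpa using h5
  exact h.ne (eq_of_add _ _ (by rw [add_comm]; exact h6))

theorem claimB (hV : Nat.card V = 64) (hJ : Hyp J B) (h4 : 4 ≤ Nat.card B) {a b : V}
    (h : Pair D J a b) : (∀ w, NJ D J w) ∨ Spec J B := by
  by_cases hno : ∀ w, NJ D J w
  · exact Or.inl hno
  · right
    exact spec_of_fix hJ h4 h.a0 h.b0 h.ne h.orth (fun y h1 h2 g hg => fixes hV hJ hno h h1 h2 hg)
      (not_left hV hJ hno h) (not_left hV hJ hno h.symm) (not_sum hV hJ hno h)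

/-! ### the main lemma -/

/-- an involution of `B` with a fixed vector moved by `B` gives an orthogonal pair -/
theorem exists_pair (hV : Nat.card V = 64) (hJ : Hyp J B) {i : X} (hi : i ∈ B) (hi1 : i ≠ 1)
    (hii : i * i = 1) {w : V} (hw : D.ρ i w = w) {β : X} (hβ : β ∈ B) (hne : D.ρ β w ≠ w) :
    ∃ a b, Pair D J a b := by
  set w' := D.ρ β w with hw'
  have hR : R D J w w' := (fix_rule hJ hi hi1 hii hw).2 β hβ
  have hw0 : w ≠ 0 := by
    intro e
    apply hne
    rw [hw', e, map_zero]
  have hw'0 : w' ≠ 0 := by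
    intro e
    apply hw0
    apply D.ρ_inj β
    rw [map_zero]; exact e
  rcases z2 (D.B w w') with h0 | h0
  · exact ⟨w, w', hw0, hw'0, fun e => hne e.symm, h0, hR⟩
  -- a second fixed vector orthogonal to `w`
  obtain ⟨z, hz1, hz2, hz0, hzw⟩ : ∃ z, D.ρ i z = z ∧ D.B z w = 0 ∧ z ≠ 0 ∧ z ≠ w := by
    have h8 := D.eight_le hV hii
    let f : LinearMap.ker (D.n i) →ₗ[ZMod 2] ZMod 2 := (D.B w).domRestrict _
    have h1 := card_ker_mul f
    have h2 : Nat.card (LinearMap.range f) ≤ 2 := by
      refine (Nat.card_le_card_of_injective _ (LinearMap.range f).injective_subtype).trans ?_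
      rw [Nat.card_eq_fintype_card, ZMod.card]
    have h3 : 4 ≤ Nat.card (LinearMap.ker f) := by
      by_contra h
      push Not at h
      have : Nat.card (LinearMap.ker f) * Nat.card (LinearMap.range f) ≤ 3 * 2 :=
        Nat.mul_le_mul (by omega) h2
      omega
    by_contra hcon
    push Not at hcon
    have h4 : ∀ z : LinearMap.ker f, (z : LinearMap.ker (D.n i)).1 ∈ ({0, w} : Set V) := by
      intro z
      by_contra hz
      simp only [Set.mem_insert_iff, Set.mem_singleton_iff, not_or] at hz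
      refine hz.2 (hcon _ (D.mem_ker.1 z.1.2) ?_ hz.1)
      rw [D.symm]
      exact z.2
    have h5 : Nat.card (LinearMap.ker f) ≤ Nat.card ({0, w} : Set V) := by
      refine Nat.card_le_card_of_injective (fun z => ⟨_, h4 z⟩) ?_
      intro z z' e
      have e' := Subtype.ext_iff.1 e
      exact Subtype.ext (Subtype.ext e')
    rw [Nat.card_coe_set_eq] at h5
    have h6 := Set.ncard_insert_le (0 : V) {w}
    rw [Set.ncard_singleton] at h6
    omega
  obtain ⟨v, hv1, hv2, hv0, hvw, hv3⟩ : ∃ v, D.ρ i v = v ∧ D.B v w = 0 ∧ v ≠ 0 ∧ v ≠ w ∧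
      D.B v w' = 1 := by
    rcases z2 (D.B z w') with h | h
    · refine ⟨z + w, by rw [map_add, hz1, hw], by rw [B_add', hz2, D.alt, add_zero],
        fun e => hzw (eq_of_add _ _ e), fun e => hz0 (by simpa using e), by rw [B_add', h, h0, zero_add]⟩
    · exact ⟨z, hz1, hz2, hz0, hzw, h⟩
  have hN := (fix_rule hJ hi hi1 hii hv1).1
  have h1 := R_of hN hR hv2 hv3
  exact ⟨w, v, hw0, hv0, fun e => hvw e.symm, by rw [D.symm]; exact hv2, R_trans hR (R_symm h1)⟩

theorem main (hV : Nat.card V = 64) (hJ : Hyp J B) [IsSimpleGroup X] [Finite X]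
    (h4 : 4 ∣ Nat.card B) (D : SpData X V) : J = ⊤ ∨ Spec J B := by
  have h4' : 4 ≤ Nat.card B := Nat.le_of_dvd Nat.card_pos h4
  have hpair : (∃ a b, Pair D J a b) → J = ⊤ ∨ Spec J B := by
    rintro ⟨a, b, h⟩
    rcases claimB hV hJ h4' h with h1 | h1
    · left
      refine eq_top_of_NJ ?_ h1 h.a0
      intro e
      have := h.rel
      unfold R at this
      rw [e, Subgroup.mem_bot] at this
      exact ττ_ne h.ne this
    · exact Or.inr h1
  by_cases hcase : ∃ i ∈ B, i ≠ 1 ∧ i * i = 1 ∧ ∃ w, D.ρ i w = w ∧ ∃ β ∈ B, D.ρ β w ≠ w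
  · obtain ⟨i, hi, hi1, hii, w, hw, β, hβ, hne⟩ := hcase
    exact hpair (exists_pair hV hJ hi hi1 hii hw hβ hne)
  push Not at hcase
  right
  -- an involution of `B`
  obtain ⟨x0, hx0⟩ := exists_prime_orderOf_dvd_card' (G := B) 2 (Dvd.dvd.trans (by norm_num) h4)
  set a := (x0 : X) with ha
  have haB : a ∈ B := x0.2
  have hao : orderOf a = 2 := by rw [ha, Subgroup.orderOf_coe]; exact hx0
  have haa : a * a = 1 := by rw [← sq, ← hao]; exact pow_orderOf_eq_one a
  have ha1 : a ≠ 1 := by
    intro e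
    rw [e, orderOf_one] at hao
    exact absurd hao (by norm_num)
  -- all elements of `B` are involutions
  have hperp : ∀ β ∈ B, ∀ v z, D.ρ a z = z → D.B z (D.n β v) = 0 := by
    intro β hβ v z hz
    have h1 := D.inv β z v
    rw [hcase a haB ha1 haa z hz β hβ] at h1
    rw [n_apply, B_add, h1]
    rcases z2 (D.B z v) with h | h <;> rw [h] <;> decide
  have hfixn : ∀ β ∈ B, ∀ v, D.ρ a (D.n β v) = D.n β v := by
    intro β hβ v
    exact D.perp_ker haa fun z hz => by rw [D.symm]; exact hperp β hβ v z hz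
  have hsq : ∀ β ∈ B, β * β = 1 := by
    intro β hβ
    apply D.ext_iff
    intro v
    have h1 := hcase a haB ha1 haa _ (hfixn β hβ v) β hβ
    rw [n_apply, map_add] at h1
    rw [D.ρ_mul, D.ρ_one]
    have h2 : D.ρ β (D.ρ β v) + D.ρ β v + D.ρ β v = D.ρ β v + v + D.ρ β v := by rw [h1]
    rw [aab] at h2
    rw [h2, add_comm (D.ρ β v) v, aab]
  have hfix : ∀ β ∈ B, β ≠ 1 → ∀ v, D.ρ β v = v → D.ρ a v = v := fun β hβ hβ1 v hv =>
    hcase β hβ hβ1 (hsq β hβ) v hv a haB
  -- a second element
  obtain ⟨β, hβ, hβ1, hβa⟩ : ∃ β ∈ B, β ≠ 1 ∧ β ≠ a := by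
    by_contra hcon
    push Not at hcon
    have h1 : (B : Set X) ⊆ {1, a} := by
      intro g hg
      by_cases hg1 : g = 1
      · exact Or.inl hg1
      · exact Or.inr (hcon g hg hg1)
    have h2 := Set.ncard_le_ncard h1 (Set.toFinite _)
    have h3 := Set.ncard_insert_le (1 : X) {a}
    rw [Set.ncard_singleton] at h3
    rw [← Nat.card_coe_set_eq] at h2
    have h5 : Nat.card B ≤ 2 := h2.trans h3
    omega
  have haβ : a * β ∈ B := B.mul_mem haB hβ
  have haβ1 : a * β ≠ 1 := by
    intro e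
    apply hβa
    rw [← inv_eq_of_mul_eq_one_right e]
    exact inv_eq_of_mul_eq_one_right haa
  -- `q(r) = (r, n r)` is additive
  have hadd : ∀ u v, D.B (u + v) (D.n a (u + v)) = D.B u (D.n a u) + D.B v (D.n a v) := by
    intro u v
    rw [B_add', map_add (D.n a), B_add, B_add, D.n_adj haa v u, D.symm (D.n a v) u]
    rcases z2 (D.B u (D.n a v)) with h | h <;> rw [h]
    · abel
    · rw [show D.B u (D.n a u) + 1 + (1 + D.B v (D.n a v)) =
        D.B u (D.n a u) + D.B v (D.n a v) + (1 + 1) by ring]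
      rw [show (1 : ZMod 2) + 1 = 0 from by decide, add_zero]
  obtain ⟨r0, hr0⟩ : ∃ r, D.ρ a r ≠ r := by
    by_contra hcon
    push Not at hcon
    exact ha1 (D.ext_iff fun v => by rw [hcon v, D.ρ_one])
  obtain ⟨r, hr, hqr⟩ : ∃ r, D.ρ a r ≠ r ∧ D.B r (D.n a r) = 0 := by
    by_cases hidx : ∃ r', D.ρ a r' ≠ r' ∧ D.ρ a (r0 + r') ≠ r0 + r'
    · obtain ⟨r', h1, h2⟩ := hidx
      rcases z2 (D.B r0 (D.n a r0)) with k1 | k1
      · exact ⟨r0, hr0, k1⟩
      rcases z2 (D.B r' (D.n a r')) with k2 | k2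
      · exact ⟨r', h1, k2⟩
      exact ⟨r0 + r', h2, by rw [hadd, k1, k2]; decide⟩
    · exfalso
      push Not at hidx
      have hrep : ∀ β' ∈ B, β' ≠ 1 → D.B r0 (D.n β' r0) = 1 := by
        intro β' hβ' hβ'1
        rcases z2 (D.B r0 (D.n β' r0)) with k | k
        · exfalso
          apply hr0
          apply hfix β' hβ' hβ'1
          rw [← D.n_eq_zero]
          apply D.nondeg
          intro v
          rw [D.symm]
          by_cases hv : D.ρ a v = v
          · exact hperp β' hβ' r0 v hv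
          · have h1 := hperp β' hβ' r0 (r0 + v) (hidx v hv)
            rwa [B_add', k, zero_add] at h1
        · exact k
      have e1 := hrep a haB ha1
      have e2 := hrep β hβ hβ1
      have e3 : D.n (a * β) r0 = D.n a r0 + D.n β r0 := by
        show D.ρ (a * β) r0 + r0 = (D.ρ a r0 + r0) + D.n β r0
        rw [D.ρ_mul, D.ρ_eq β r0, map_add, hfixn β hβ r0]
        abel
      have e4 := hrep _ haβ haβ1
      rw [e3, B_add, e1, e2] at e4
      exact absurd e4 (by decide)
  -- the commutator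
  set x := D.n a r with hx
  set y := D.n β r with hy
  have hax : D.ρ a r = r + x := D.ρ_eq a r
  have hβy : D.ρ β r = r + y := D.ρ_eq β r
  have hfx : D.ρ a x = x := hfixn a haB r
  have hfy : D.ρ a y = y := hfixn β hβ r
  have hβx : D.ρ β x = x := hcase a haB ha1 haa x hfx β hβ
  have hβy' : D.ρ β y = y := hcase a haB ha1 haa y hfy β hβ
  have hrx0 : D.B r (r + x) = 0 := by rw [B_add, D.alt, hqr, add_zero]
  set g := D.τ r * D.τ (r + x) with hg
  have hga : g * a = a * g := by
    have e1 : a * g * a⁻¹ = g := by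
      rw [hg, show a * (D.τ r * D.τ (r + x)) * a⁻¹ = (a * D.τ r * a⁻¹) * (a * D.τ (r + x) * a⁻¹) by group,
        D.conj_τ, D.conj_τ, map_add, hax, hfx, aab, ← D.τ_commute hrx0]
    exact (mul_inv_eq_iff_eq_mul.1 e1).symm
  have hγ := hJ.com a haB ha1 haa g hga β hβ
  have hγe : g * β * g⁻¹ * β⁻¹ = D.τ r * D.τ (r + x) * (D.τ (r + x + y) * D.τ (r + y)) := by
    have e1 : g⁻¹ = D.τ (r + x) * D.τ r := by rw [hg, mul_inv_rev, D.τ_inv, D.τ_inv]
    rw [show g * β * g⁻¹ * β⁻¹ = g * (β * g⁻¹ * β⁻¹) by group, e1,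
      show β * (D.τ (r + x) * D.τ r) * β⁻¹ = (β * D.τ (r + x) * β⁻¹) * (β * D.τ r * β⁻¹) by group,
      D.conj_τ, D.conj_τ, map_add, hβy, hβx, add_right_comm r y x]
  set γ := g * β * g⁻¹ * β⁻¹ with hγdef
  have hy0 : y ≠ 0 := by
    intro e
    apply hr
    apply hfix β hβ hβ1
    rw [hβy, e, add_zero]
  have hx0 : x ≠ 0 := by
    intro e
    apply hr
    rw [hax, e, add_zero]
  have hxy : x ≠ y := by
    intro e
    apply hr
    apply hfix _ haβ haβ1
    rw [D.ρ_mul, hβy, map_add, hax, hfy, e, aab]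
  have hxU : ∀ z, D.ρ a z = z → D.B z x = 0 := fun z hz => hperp a haB r z hz
  have hyU : ∀ z, D.ρ a z = z → D.B z y = 0 := fun z hz => hperp β hβ r z hz
  have hxy0 : D.B x y = 0 := hyU x hfx
  have hβr0 : D.ρ β r ≠ 0 := by
    intro e
    apply hr
    have : r = 0 := by apply D.ρ_inj β; rw [e, map_zero]
    rw [this, map_zero]
  have hγ1 : γ ≠ 1 := by
    intro e
    rw [hγe] at e
    have e2 := eq_inv_of_mul_eq_one_left e
    rw [mul_inv_rev, D.τ_inv, D.τ_inv] at e2
    rcases D.mem_of_ττ_eq (c := r + y) (d := r + x + y) (by rw [← hβy]; exact hβr0)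
      (by
        intro e3
        apply hx0
        have e4 : r + x + y = (r + y) + x := by abel
        rw [e4] at e3
        simpa using e3.symm) e2 with k | k | k
    · exact hy0 (by simpa using k)
    · exact hxy (add_left_cancel k).symm
    · rw [aac] at k
      apply hr
      have : r = x + y := by rw [← k, aab]
      rw [this, map_add, hfx, hfy]
  have hγB : γ ∈ B := hJ.le hγ
  -- the fixed space of `a` is the space orthogonal to `x` and `y`
  obtain ⟨u0, hu0, hu0r⟩ : ∃ u, D.ρ a u = u ∧ D.B u r = 1 := by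
    by_contra hcon
    push Not at hcon
    apply hr
    apply D.perp_ker haa
    intro f hf
    rw [D.symm]
    exact (z2 _).resolve_right (hcon f hf)
  have hU1 : ∀ z, D.B z r = 0 → D.B z x = 0 → D.B z y = 0 → D.ρ a z = z := by
    intro z h1 h2 h3
    apply hfix γ hγB hγ1
    rw [hγe, D.ρ_mul, ττ_fix (y := z) (by rw [B_add, B_add, h1, h2, h3]; decide)
      (by rw [B_add, h1, h3]; decide), ττ_fix h1 (by rw [B_add, h1, h2]; decide)]
  have hU : ∀ z, D.B z x = 0 → D.B z y = 0 → D.ρ a z = z := by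
    intro z h2 h3
    rcases z2 (D.B z r) with h1 | h1
    · exact hU1 z h1 h2 h3
    · have h4 := hU1 (z + u0) (by rw [B_add', h1, hu0r]; decide)
        (by rw [B_add', h2, hxU u0 hu0, add_zero]) (by rw [B_add', h3, hyU u0 hu0, add_zero])
      rw [map_add, hu0] at h4
      exact add_right_cancel h4
  have htr : ∀ v, v ≠ 0 → (∃ z, D.B z v = 0 ∧ (D.B z x = 1 ∨ D.B z y = 1)) → D.τ v ∉ B := by
    rintro v hv ⟨z, hz, hz'⟩ hB
    have h1 := hcase (D.τ v) hB (fun e => hv (D.τ_eq_one e)) (D.τ_sq v) z (τ_fix hz) a haB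
    rcases hz' with h | h
    · rw [hxU z h1] at h; exact absurd h (by decide)
    · rw [hyU z h1] at h; exact absurd h (by decide)
  obtain ⟨z1, hz1, hz1'⟩ := D.exists_sep hy0 hxy.symm
  obtain ⟨z2', hz2, hz2'⟩ := D.exists_sep hx0 hxy
  obtain ⟨z3, hz3, hz3'⟩ := exists_one_one hx0 hy0 hxy D
  exact spec_of_fix hJ h4' hx0 hy0 hxy hxy0 (fun z h1 h2 β' hβ' =>
    hcase a haB ha1 haa z (hU z h1 h2) β' hβ') (htr x hx0 ⟨z1, hz1', Or.inr hz1⟩)
    (htr y hy0 ⟨z2', hz2', Or.inl hz2⟩)
    (htr (x + y) (fun e => hxy (eq_of_add _ _ e)) ⟨z3, by rw [B_add, hz3, hz3']; decide, Or.inl hz3⟩)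

end Cfsg.Agent.StandardComponent.FiRedSp
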