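import Cfsg.Agent.StdO8.Model

/-!
# Vectors of the `Ω₈⁺(2)`-space
-/

set_option autoImplicit false

namespace Cfsg.Agent.StandardComponent.FiRedVec

open QuadraticMap Cfsg.Agent.StdO8.Model Module

theorem aa (a : ZMod 2) : a + a = 0 := by revert a; decide

theorem ne_one {a : ZMod 2} (h : a ≠ 1) : a = 0 := (z2 a).resolve_right h

theorem ne_zero {a : ZMod 2} (h : a ≠ 0) : a = 1 := (z2 a).resolve_left h

/-- the polar form -/
abbrev bb : LinearMap.BilinForm (ZMod 2) V := polarBilin q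

theorem bb_apply (u v : V) : bb u v = B u v := rfl

theorem bb_refl : bb.IsRefl := by
  intro x y h
  rw [bb_apply] at h ⊢
  rw [B_comm]; exact h

theorem bb_nondeg : bb.Nondegenerate := by
  refine ⟨fun x h => nondeg h, fun x h => nondeg fun v => ?_⟩
  rw [B_comm]; exact h v

/-- orthogonal complement -/
noncomputable def pp (l : List V) : Submodule (ZMod 2) V :=
  bb.orthogonal (Submodule.span (ZMod 2) {x | x ∈ l})

theorem mem_pp {l : List V} {v : V} : v ∈ pp l ↔ ∀ x ∈ l, B x v = 0 := by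
  constructor
  · intro h x hx
    exact h x (Submodule.subset_span hx)
  · intro h x hx
    show B x v = 0
    induction hx using Submodule.span_induction with
    | mem x hx => exact h x hx
    | zero => exact B_zero_left v
    | add x y _ _ hx hy => rw [B_add_left, hx, hy, add_zero]
    | smul a x _ hx => rw [B_smul_left, hx, mul_zero]

theorem finrank_pp (l : List V) : 8 - l.length ≤ finrank (ZMod 2) (pp l) := by
  classical
  rw [pp, LinearMap.BilinForm.finrank_orthogonal bb_nondeg, finrank_V]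
  have h1 : finrank (ZMod 2) (Submodule.span (ZMod 2) ((l.toFinset : Finset V) : Set V)) ≤
    l.toFinset.card := finrank_span_finset_le_card _
  have h2 : ((l.toFinset : Finset V) : Set V) = {x | x ∈ l} := by ext x; simp
  rw [h2] at h1
  have h3 := l.toFinset_card_le
  omega

theorem exists_pp {l : List V} {s : V} (hs : s ∉ Submodule.span (ZMod 2) {x | x ∈ l}) :
    ∃ z ∈ pp l, B s z = 1 := by
  by_contra hcon
  push Not at hcon
  apply hs
  rw [← LinearMap.BilinForm.orthogonal_orthogonal bb_nondeg bb_refl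
    (Submodule.span (ZMod 2) {x | x ∈ l})]
  intro z hz
  show B z s = 0
  rw [B_comm]
  exact ne_one (hcon z hz)

theorem notMem_span {u m s : V} (h0 : s ≠ 0) (h1 : s ≠ u) (h2 : s ≠ m) (h3 : s ≠ u + m) :
    s ∉ Submodule.span (ZMod 2) {x | x ∈ [u, m]} := by
  have e : {x | x ∈ [u, m]} = ({u, m} : Set V) := by ext x; simp
  rw [e, Submodule.mem_span_pair]
  rintro ⟨a, b, hab⟩
  rcases z2 a with rfl | rfl <;> rcases z2 b with rfl | rfl
  · apply h0; rw [← hab]; simp
  · apply h2; rw [← hab]; simp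
  · apply h1; rw [← hab]; simp
  · apply h3; rw [← hab]; simp

/-- a subspace of dimension at least five is not totally isotropic -/
theorem exists_pair {W : Submodule (ZMod 2) V} (hW : 5 ≤ finrank (ZMod 2) W) :
    ∃ c ∈ W, ∃ c' ∈ W, B c c' = 1 := by
  by_contra hcon
  push Not at hcon
  have h1 : W ≤ bb.orthogonal W := by
    intro x hx y hy
    exact ne_one (hcon y hy x hx)
  have h2 := Submodule.finrank_mono h1
  rw [LinearMap.BilinForm.finrank_orthogonal bb_nondeg, finrank_V] at h2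
  omega

theorem exists_pair3 (x y z : V) : ∃ c c', (B x c = 0 ∧ B y c = 0 ∧ B z c = 0) ∧
    (B x c' = 0 ∧ B y c' = 0 ∧ B z c' = 0) ∧ B c c' = 1 := by
  obtain ⟨c, hc, c', hc', h⟩ := exists_pair (finrank_pp [x, y, z])
  rw [mem_pp] at hc hc'
  exact ⟨c, c', ⟨hc x (by simp), hc y (by simp), hc z (by simp)⟩,
    ⟨hc' x (by simp), hc' y (by simp), hc' z (by simp)⟩, h⟩

/-- a vector orthogonal to `u, m` and not to `s` -/
theorem exists_perp {u m s : V} (h0 : s ≠ 0) (h1 : s ≠ u) (h2 : s ≠ m) (h3 : s ≠ u + m) :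
    ∃ z, B u z = 0 ∧ B m z = 0 ∧ B s z = 1 := by
  obtain ⟨z, hz, h⟩ := exists_pp (notMem_span h0 h1 h2 h3)
  rw [mem_pp] at hz
  exact ⟨z, hz u (by simp), hz m (by simp), h⟩

/-- a singular vector orthogonal to `u, m` and not to `s` -/
theorem exists_sing {u m s : V} (h0 : s ≠ 0) (h1 : s ≠ u) (h2 : s ≠ m) (h3 : s ≠ u + m) :
    ∃ a, q a = 0 ∧ B u a = 0 ∧ B m a = 0 ∧ B s a = 1 := by
  by_contra hcon
  push Not at hcon
  have key : ∀ z, B u z = 0 → B m z = 0 → B s z = 1 → q z = 1 := fun z a b c =>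
    ne_zero fun h => hcon z h a b c
  obtain ⟨z, z1, z2', z3⟩ := exists_perp h0 h1 h2 h3
  obtain ⟨c, c', ⟨c1, c2, c3⟩, ⟨d1, d2, d3⟩, hcc⟩ := exists_pair3 u m s
  have e0 := key z z1 z2' z3
  have e1 := key (z + c) (by rw [B_add_right, z1, c1, add_zero]) (by rw [B_add_right, z2', c2, add_zero])
    (by rw [B_add_right, z3, c3, add_zero])
  have e2 := key (z + c') (by rw [B_add_right, z1, d1, add_zero]) (by rw [B_add_right, z2', d2, add_zero])
    (by rw [B_add_right, z3, d3, add_zero])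
  have e3 := key (z + c + c') (by rw [B_add_right, B_add_right, z1, c1, d1]; rfl)
    (by rw [B_add_right, B_add_right, z2', c2, d2]; rfl)
    (by rw [B_add_right, B_add_right, z3, c3, d3]; rfl)
  rw [q_add, e0] at e1 e2
  rw [q_add, q_add, e0, B_add_left, hcc] at e3
  revert e1 e2 e3
  generalize q c = x1
  generalize q c' = x2
  generalize B z c = x3
  generalize B z c' = x4
  revert x1 x2 x3 x4
  decide

theorem exists_nonsing {c c' : V} (h : B c c' = 1) : q c = 1 ∨ q c' = 1 ∨ q (c + c') = 1 := by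
  rw [q_add, h]
  generalize q c = x1
  generalize q c' = x2
  revert x1 x2
  decide

/-- a nonsingular vector orthogonal to three given vectors -/
theorem exists_nonsing3 (x y z : V) : ∃ c, B x c = 0 ∧ B y c = 0 ∧ B z c = 0 ∧ q c = 1 := by
  obtain ⟨c, c', ⟨c1, c2, c3⟩, ⟨d1, d2, d3⟩, hcc⟩ := exists_pair3 x y z
  rcases exists_nonsing hcc with h | h | h
  · exact ⟨c, c1, c2, c3, h⟩
  · exact ⟨c', d1, d2, d3, h⟩
  · exact ⟨c + c', by rw [B_add_right, c1, d1, add_zero], by rw [B_add_right, c2, d2, add_zero],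
      by rw [B_add_right, c3, d3, add_zero], h⟩

/-- with a nonsingular vector among the given ones one of the two vectors can be chosen singular -/
theorem exists_pair3_sing (x y z : V) (hy : q y = 1) (hxy : B x y = 0) (hzy : B z y = 0) :
    ∃ c c', (B x c = 0 ∧ B y c = 0 ∧ B z c = 0) ∧
    (B x c' = 0 ∧ B y c' = 0 ∧ B z c' = 0) ∧ B c c' = 1 ∧ q c = 0 := by
  obtain ⟨c, c', ⟨c1, c2, c3⟩, hc', hcc⟩ := exists_pair3 x y z
  rcases z2 (q c) with h | h
  · exact ⟨c, c', ⟨c1, c2, c3⟩, hc', hcc, h⟩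
  · refine ⟨c + y, c', ⟨?_, ?_, ?_⟩, hc', ?_, ?_⟩
    · rw [B_add_right, c1, hxy, add_zero]
    · rw [B_add_right, c2, B_self, add_zero]
    · rw [B_add_right, c3, hzy, add_zero]
    · rw [B_add_left, hcc, hc'.2.1, add_zero]
    · rw [q_add, h, hy, B_comm, c2]; decide

end Cfsg.Agent.StandardComponent.FiRedVec
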