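import Cfsg.Agent.CoThreeStd.Parity

set_option autoImplicit false
set_option linter.style.haveILetI false

/-!
# A transfer argument with a four-group

`Y₀ ≤ Y ≤ G` with `|Y : Y₀| = 2`, `C_G(t) ≤ Y`, `t^G ∩ Y₀ = t^Y`, `V = {1, t, z, tz}` a four-group whose involutions
are `Y`-conjugate to `t`, and `e ∈ Y ∖ Y₀` an involution centralising `V`. Then `G` has a subgroup of index two: if
`V^g ≤ Y` then some `k ∈ V`, `k ≠ 1`, has `k^g ∈ Y₀`, so `k^g ∈ k^Y` and `g ∈ C_G(k) Y = Y`; hence `V` has exactly one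
fixed point on the cosets `gY` with `e^g ∈ Y ∖ Y₀`, and their number is odd.
-/

namespace Cfsg.Agent.StandardComponent.FourTransfer

open Cfsg.Agent.LargeExtra.Transfer Cfsg.Agent.CoThreeStd.Parity

variable {G : Type*} [Group G] {Y Y₀ : Subgroup G}

/-- If the four-group `{1, t, z, tz}` is conjugated by `g` into `Y` then `g ∈ Y`. -/
theorem mem_of_conj (h2 : Y₀.relIndex Y = 2) {t z : G}
    (hC : ∀ g, g * t = t * g → g ∈ Y) (hfus : ∀ g, g⁻¹ * t * g ∈ Y₀ → ∃ y ∈ Y, y⁻¹ * t * y = g⁻¹ * t * g)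
    (hz : ∃ y ∈ Y, y⁻¹ * t * y = z) (htz : ∃ y ∈ Y, y⁻¹ * t * y = t * z)
    {g : G} (h₁ : g⁻¹ * t * g ∈ Y) (h₃ : g⁻¹ * z * g ∈ Y) : g ∈ Y := by
  -- one element of the four-group goes into `Y₀`
  have key : ∀ k, (∃ y ∈ Y, y⁻¹ * t * y = k) → g⁻¹ * k * g ∈ Y₀ → g ∈ Y := by
    rintro k ⟨y, hy, rfl⟩ hk
    have e1 : (y * g)⁻¹ * t * (y * g) = g⁻¹ * (y⁻¹ * t * y) * g := by group
    obtain ⟨y', hy', h⟩ := hfus (y * g) (by rw [e1]; exact hk)
    have h4 : y * g * y'⁻¹ ∈ Y := by
      apply hC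
      have e2 : t * (y * g) = (y * g) * (y'⁻¹ * t * y') := by rw [h]; group
      calc y * g * y'⁻¹ * t = y * g * (y'⁻¹ * t * y') * y'⁻¹ := by group
        _ = t * (y * g) * y'⁻¹ := by rw [e2]
        _ = t * (y * g * y'⁻¹) := by group
    have h5 : g = y⁻¹ * (y * g * y'⁻¹) * y' := by group
    rw [h5]
    exact Y.mul_mem (Y.mul_mem (Y.inv_mem hy) h4) hy'
  have hmul : ∀ a b, a ∈ Y → b ∈ Y → a ∉ Y₀ → b ∉ Y₀ → a * b ∈ Y₀ := by
    intro a b ha hb ha0 hb0
    have h3 : (Y₀.subgroupOf Y).index = 2 := h2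
    have h4 := Subgroup.mul_mem_iff_of_index_two h3 (a := ⟨a, ha⟩) (b := ⟨b, hb⟩)
    simp only [Subgroup.mem_subgroupOf] at h4
    exact h4.2 (by simp [ha0, hb0])
  by_cases ht0 : g⁻¹ * t * g ∈ Y₀
  · exact key t ⟨1, Y.one_mem, by group⟩ ht0
  by_cases hz0 : g⁻¹ * z * g ∈ Y₀
  · exact key z hz hz0
  have h6 := hmul _ _ h₁ h₃ ht0 hz0
  have e3 : g⁻¹ * t * g * (g⁻¹ * z * g) = g⁻¹ * (t * z) * g := by group
  rw [e3] at h6
  exact key _ htz h6

/-- **The transfer argument.** -/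
theorem index_two [Finite G] (hle : Y₀ ≤ Y) (h2 : Y₀.relIndex Y = 2) {t z e : G}
    (htt : t * t = 1) (hzz : z * z = 1) (htzc : z * t = t * z) (hzY : z ∈ Y)
    (hC : ∀ g, g * t = t * g → g ∈ Y) (hfus : ∀ g, g⁻¹ * t * g ∈ Y₀ → ∃ y ∈ Y, y⁻¹ * t * y = g⁻¹ * t * g)
    (hz : ∃ y ∈ Y, y⁻¹ * t * y = z) (htz : ∃ y ∈ Y, y⁻¹ * t * y = t * z)
    (he : e ∈ Y) (he0 : e ∉ Y₀) (hee : e * e = 1) (het : e * t = t * e) (hez : e * z = z * e) :
    ∃ H : Subgroup G, H.index = 2 := by
  classical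
  by_contra hcon
  push Not at hcon
  have : Fact (Nat.Prime 2) := ⟨Nat.prime_two⟩
  have heven := even_card_odd1 hcon hle h2 e hee
  -- the four-group
  let V : Subgroup G :=
    { carrier := {v | v = 1 ∨ v = t ∨ v = z ∨ v = t * z}
      one_mem' := Or.inl rfl
      mul_mem' := by
        have e1 : t * (t * z) = z := by rw [← mul_assoc, htt, one_mul]
        have e2 : z * (t * z) = t := by rw [← mul_assoc, htzc, mul_assoc, hzz, mul_one]
        have e3 : t * z * t = z := by rw [mul_assoc, htzc, ← mul_assoc, htt, one_mul]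
        have e4 : t * z * z = t := by rw [mul_assoc, hzz, mul_one]
        have e5 : t * z * (t * z) = 1 := by rw [← mul_assoc, e3, hzz]
        rintro a b (rfl | rfl | rfl | rfl) (rfl | rfl | rfl | rfl)
        · left; rw [one_mul]
        · right; left; rw [one_mul]
        · right; right; left; rw [one_mul]
        · right; right; right; rw [one_mul]
        · right; left; rw [mul_one]
        · left; exact htt
        · right; right; right; rfl
        · right; right; left; exact e1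
        · right; right; left; rw [mul_one]
        · right; right; right; exact htzc
        · left; exact hzz
        · right; left; exact e2
        · right; right; right; rw [mul_one]
        · right; right; left; exact e3
        · right; left; exact e4
        · left; exact e5
      inv_mem' := by
        rintro a (rfl | rfl | rfl | rfl)
        · left; rw [inv_one]
        · right; left; exact inv_eq_of_mul_eq_one_left htt
        · right; right; left; exact inv_eq_of_mul_eq_one_left hzz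
        · right; right; right
          rw [mul_inv_rev, inv_eq_of_mul_eq_one_left htt, inv_eq_of_mul_eq_one_left hzz, htzc] }
  have hVmem : ∀ v, v ∈ V ↔ v = 1 ∨ v = t ∨ v = z ∨ v = t * z := fun v => Iff.rfl
  have htY : t ∈ Y := hC t rfl
  have hVY : ∀ v ∈ V, v ∈ Y := by
    intro v hv
    rcases (hVmem v).1 hv with rfl | rfl | rfl | rfl
    · exact Y.one_mem
    · exact htY
    · exact hzY
    · exact Y.mul_mem htY hzY
  have hVe : ∀ v ∈ V, v * e = e * v := by
    intro v hv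
    rcases (hVmem v).1 hv with rfl | rfl | rfl | rfl
    · rw [one_mul, mul_one]
    · exact het.symm
    · exact hez.symm
    · rw [mul_assoc, ← hez, ← mul_assoc, ← het, mul_assoc]
  have hVsq : ∀ v ∈ V, v ^ 2 = 1 := by
    intro v hv
    rw [pow_two]
    rcases (hVmem v).1 hv with rfl | rfl | rfl | rfl
    · rw [one_mul]
    · exact htt
    · exact hzz
    · rw [mul_assoc, ← mul_assoc z, htzc, mul_assoc t z z, hzz, mul_one, htt]
  have hVp : IsPGroup 2 V := fun v => ⟨1, by rw [pow_one]; exact Subtype.ext (hVsq v v.2)⟩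
  have hinv : ∀ p ∈ V, ∀ x : G ⧸ Y, Odd1 Y Y₀ e x → Odd1 Y Y₀ e (p • x) := by
    intro p hp x hx
    obtain ⟨g, rfl⟩ := QuotientGroup.mk_surjective x
    rw [odd1_iff hle h2] at hx
    show Odd1 Y Y₀ e ((p * g : G) : G ⧸ Y)
    rw [odd1_iff hle h2]
    have h3 : (p * g)⁻¹ * e * (p * g) = g⁻¹ * e * g := by
      have : p⁻¹ * e * p = e := by
        rw [mul_assoc, ← hVe p hp, ← mul_assoc, inv_mul_cancel, one_mul]
      calc (p * g)⁻¹ * e * (p * g) = g⁻¹ * (p⁻¹ * e * p) * g := by group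
        _ = _ := by rw [this]
    rw [h3]; exact hx
  letI : MulAction V {x : G ⧸ Y // Odd1 Y Y₀ e x} :=
    { smul := fun p x => ⟨(p : G) • x.1, hinv p p.2 x.1 x.2⟩
      one_smul := fun x => Subtype.ext (one_smul G x.1)
      mul_smul := fun p q x => Subtype.ext (mul_smul (p : G) (q : G) x.1) }
  have h3 := hVp.card_modEq_card_fixedPoints {x : G ⧸ Y // Odd1 Y Y₀ e x}
  have h1 : Odd1 Y Y₀ e ((1 : G) : G ⧸ Y) := by
    rw [odd1_iff hle h2, inv_one, one_mul, mul_one]
    exact ⟨he, he0⟩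
  have h4 : Nat.card (MulAction.fixedPoints V {x : G ⧸ Y // Odd1 Y Y₀ e x}) = 1 := by
    rw [Nat.card_eq_one_iff_unique]
    refine ⟨⟨fun x y => ?_⟩, ⟨⟨⟨_, h1⟩, fun p => Subtype.ext ?_⟩⟩⟩
    · have huniq : ∀ x : MulAction.fixedPoints V {x : G ⧸ Y // Odd1 Y Y₀ e x}, x.1.1 = ((1 : G) : G ⧸ Y) := by
        rintro ⟨⟨x, hx⟩, hfix⟩
        obtain ⟨g, rfl⟩ := QuotientGroup.mk_surjective x
        have h5 : ∀ v ∈ V, g⁻¹ * v * g ∈ Y := by
          intro v hv
          have h6 := congrArg Subtype.val (hfix ⟨v, hv⟩)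
          have h7 : ((v * g : G) : G ⧸ Y) = (g : G ⧸ Y) := h6
          have h8 := QuotientGroup.eq.1 h7.symm
          rwa [← mul_assoc] at h8
        have hg : g ∈ Y := mem_of_conj h2 hC hfus hz htz (h5 t (Or.inr (Or.inl rfl)))
          (h5 z (Or.inr (Or.inr (Or.inl rfl))))
        show (g : G ⧸ Y) = ((1 : G) : G ⧸ Y)
        rw [eq_comm, QuotientGroup.eq, inv_one, one_mul]
        exact hg
      apply Subtype.ext
      apply Subtype.ext
      rw [huniq x, huniq y]
    · show (p : G) • ((1 : G) : G ⧸ Y) = ((1 : G) : G ⧸ Y)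
      show (((p : G) * 1 : G) : G ⧸ Y) = ((1 : G) : G ⧸ Y)
      rw [mul_one, eq_comm, QuotientGroup.eq, inv_one, one_mul]
      exact hVY p p.2
  rw [h4] at h3
  have h5 : Nat.card {x : G ⧸ Y // Odd1 Y Y₀ e x} % 2 = 1 := h3
  rw [Nat.even_iff] at heven
  omega

end Cfsg.Agent.StandardComponent.FourTransfer
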